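import Cfsg.Agent.JOneRecog.Comb

/-!
The integral solutions of the equations.
-/

set_option autoImplicit false
set_option maxRecDepth 100000
set_option linter.all false

namespace Cfsg.Agent.JOneRecog.Arith

open Comb

/-- Admissibility, computably. -/
def admB (c D : ℤ) : Bool :=
  decide (D ≠ 0 ∧ (D - c) % 8 = 0 ∧ (0 < D → 0 ≤ D + 7 * c ∧ c < D) ∧ (D < 0 → 0 ≤ -D - 7 * c ∧ D < c))

/-- The candidates. -/
def cand (c : ℤ) : List ℤ := ((List.range 275).map fun k : ℕ => c % 8 + 8 * ((k : ℤ) - 137)).filter (admB c)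

theorem admB_of {K : ℕ} {c D : ℤ} (h : Adm K c D) : admB c D = true := by
  obtain ⟨h1, h2, h3, h4, -⟩ := h
  exact decide_eq_true ⟨h1, Int.emod_eq_zero_of_dvd h2, h3, h4⟩

theorem mem_cand {K : ℕ} (hK : K < 10000) {c D : ℤ} (h : Adm K c D) : D ∈ cand c := by
  have hb : -1095 ≤ D ∧ D ≤ 1095 := by
    have h5 := h.2.2.2.2
    have hK' : (K : ℤ) < 10000 := by exact_mod_cast hK
    constructor <;> nlinarith
  obtain ⟨m, hm⟩ := h.2.1
  refine List.mem_filter.2 ⟨List.mem_map.2 ⟨((D - c % 8) / 8 + 137).toNat, List.mem_range.2 (by omega), by omega⟩,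
    admB_of h⟩

/-- The orders to be excluded. -/
def bad (K : ℤ) : Bool :=
  decide (0 < K ∧ K < 10000 ∧ K % 2 = 1 ∧ K ≠ 1463 ∧ K ≠ 1575)

/-- The check for a common point. -/
def chkI (W X : ℤ) : Bool :=
  let X' := -1 - W - X
  let num := 1200 * W * X * X'
  let den := W * X * X' + X * X' + 9 * W * (X + X')
  if num % den = 0 then
    if bad (num / den) then
      (cand (-5)).all fun Z =>
        let Z' := -1 - W - Z
        decide (num / den * (W * Z * Z' + Z * Z' + 25 * W * (Z + Z')) ≠ 720 * W * Z * Z')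
    else true
  else true

/-- The check for a common point and an overlap. -/
def chkIZ (D : ℤ) : Bool :=
  let W := -1 - D - D
  let num := 720 * W * D
  let den := W * D + D + 82 * W
  if num % den = 0 then ! bad (num / den) else true

/-- The check for a triangle. -/
def chkII (Q Z : ℤ) : Bool :=
  let R := -1 - Q - Z
  let num := 720 * Q * R * Z
  let den := Q * R * Z + 4 * R * Z + 4 * Q * Z + 25 * Q * R
  if num % den = 0 then
    if bad (num / den) && admB (-2) R then
      (cand 6).all fun P =>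
        let X := -1 - P - Q
        decide (num / den * (P * Q * X + 36 * Q * X + 4 * P * X + 9 * P * Q) ≠ 1200 * P * Q * X)
    else true
  else true

/-- Checking a list in pieces. -/
theorem all_of_pieces (f : ℤ → Bool) (l : List ℤ) (hl : l.length ≤ 275)
    (h : ∀ j < 11, ((l.drop (25 * j)).take 25).all f = true) : l.all f = true := by
  refine List.all_eq_true.2 fun x hx => ?_
  obtain ⟨i, hi, rfl⟩ := List.mem_iff_getElem.1 hx
  refine List.all_eq_true.1 (h (i / 25) (by omega)) _ (List.mem_iff_getElem.2 ⟨i % 25, ?_, ?_⟩)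
  · simp only [List.length_take, List.length_drop]; omega
  · simp only [List.getElem_take, List.getElem_drop, Nat.div_add_mod]

theorem cand_length (c : ℤ) : (cand c).length ≤ 275 :=
  (List.length_filter_le _ _).trans (by simp)

theorem allI_0 : (((cand 1).drop (25 * 0)).take 25).all (fun W => (cand 3).all fun X => chkI W X) = true := by
  decide +kernel

theorem allI_1 : (((cand 1).drop (25 * 1)).take 25).all (fun W => (cand 3).all fun X => chkI W X) = true := by
  decide +kernel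

theorem allI_2 : (((cand 1).drop (25 * 2)).take 25).all (fun W => (cand 3).all fun X => chkI W X) = true := by
  decide +kernel

theorem allI_3 : (((cand 1).drop (25 * 3)).take 25).all (fun W => (cand 3).all fun X => chkI W X) = true := by
  decide +kernel

theorem allI_4 : (((cand 1).drop (25 * 4)).take 25).all (fun W => (cand 3).all fun X => chkI W X) = true := by
  decide +kernel

theorem allI_5 : (((cand 1).drop (25 * 5)).take 25).all (fun W => (cand 3).all fun X => chkI W X) = true := by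
  decide +kernel

theorem allI_6 : (((cand 1).drop (25 * 6)).take 25).all (fun W => (cand 3).all fun X => chkI W X) = true := by
  decide +kernel

theorem allI_7 : (((cand 1).drop (25 * 7)).take 25).all (fun W => (cand 3).all fun X => chkI W X) = true := by
  decide +kernel

theorem allI_8 : (((cand 1).drop (25 * 8)).take 25).all (fun W => (cand 3).all fun X => chkI W X) = true := by
  decide +kernel

theorem allI_9 : (((cand 1).drop (25 * 9)).take 25).all (fun W => (cand 3).all fun X => chkI W X) = true := by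
  decide +kernel

theorem allI_10 : (((cand 1).drop (25 * 10)).take 25).all (fun W => (cand 3).all fun X => chkI W X) = true := by
  decide +kernel

theorem allI : ((cand 1).all fun W => (cand 3).all fun X => chkI W X) = true := by
  refine all_of_pieces _ _ (cand_length _) fun j hj => ?_
  match j, hj with
  | 0, _ => exact allI_0
  | 1, _ => exact allI_1
  | 2, _ => exact allI_2
  | 3, _ => exact allI_3
  | 4, _ => exact allI_4
  | 5, _ => exact allI_5
  | 6, _ => exact allI_6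
  | 7, _ => exact allI_7
  | 8, _ => exact allI_8
  | 9, _ => exact allI_9
  | 10, _ => exact allI_10
  | n + 11, hn => omega

theorem allIZ : ((cand (-1)).all fun D => chkIZ D) = true := by decide +kernel

theorem allII_0 : (((cand (-2)).drop (25 * 0)).take 25).all (fun Q => (cand (-5)).all fun Z => chkII Q Z) = true := by
  decide +kernel

theorem allII_1 : (((cand (-2)).drop (25 * 1)).take 25).all (fun Q => (cand (-5)).all fun Z => chkII Q Z) = true := by
  decide +kernel

theorem allII_2 : (((cand (-2)).drop (25 * 2)).take 25).all (fun Q => (cand (-5)).all fun Z => chkII Q Z) = true := by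
  decide +kernel

theorem allII_3 : (((cand (-2)).drop (25 * 3)).take 25).all (fun Q => (cand (-5)).all fun Z => chkII Q Z) = true := by
  decide +kernel

theorem allII_4 : (((cand (-2)).drop (25 * 4)).take 25).all (fun Q => (cand (-5)).all fun Z => chkII Q Z) = true := by
  decide +kernel

theorem allII_5 : (((cand (-2)).drop (25 * 5)).take 25).all (fun Q => (cand (-5)).all fun Z => chkII Q Z) = true := by
  decide +kernel

theorem allII_6 : (((cand (-2)).drop (25 * 6)).take 25).all (fun Q => (cand (-5)).all fun Z => chkII Q Z) = true := by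
  decide +kernel

theorem allII_7 : (((cand (-2)).drop (25 * 7)).take 25).all (fun Q => (cand (-5)).all fun Z => chkII Q Z) = true := by
  decide +kernel

theorem allII_8 : (((cand (-2)).drop (25 * 8)).take 25).all (fun Q => (cand (-5)).all fun Z => chkII Q Z) = true := by
  decide +kernel

theorem allII_9 : (((cand (-2)).drop (25 * 9)).take 25).all (fun Q => (cand (-5)).all fun Z => chkII Q Z) = true := by
  decide +kernel

theorem allII_10 : (((cand (-2)).drop (25 * 10)).take 25).all (fun Q => (cand (-5)).all fun Z => chkII Q Z) = true := by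
  decide +kernel

theorem allII : ((cand (-2)).all fun Q => (cand (-5)).all fun Z => chkII Q Z) = true := by
  refine all_of_pieces _ _ (cand_length _) fun j hj => ?_
  match j, hj with
  | 0, _ => exact allII_0
  | 1, _ => exact allII_1
  | 2, _ => exact allII_2
  | 3, _ => exact allII_3
  | 4, _ => exact allII_4
  | 5, _ => exact allII_5
  | 6, _ => exact allII_6
  | 7, _ => exact allII_7
  | 8, _ => exact allII_8
  | 9, _ => exact allII_9
  | 10, _ => exact allII_10
  | n + 11, hn => omega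

theorem div_eq {K num den : ℤ} (h : K * den = num) (hn : num ≠ 0) : num % den = 0 ∧ num / den = K := by
  have hd : den ≠ 0 := fun e => hn (by rw [← h, e, mul_zero])
  exact ⟨by rw [← h, Int.mul_emod_left], by rw [← h, Int.mul_ediv_cancel _ hd]⟩

theorem bad_of {K : ℕ} (hK : K < 10000) (ho : K % 2 = 1) (h1 : K ≠ 1463) (h2 : K ≠ 1575) : bad (K : ℤ) = true :=
  decide_eq_true ⟨by omega, by omega, by omega, by omega, by omega⟩

theorem inv_lb {D : ℤ} (hD : D ≠ 0) (a : ℤ) (ha : 0 < a) (h : D < 0 → D ≤ -a) :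
    -(1 / (a : ℚ)) ≤ 1 / (D : ℚ) := by
  have ha' : (0 : ℚ) < a := by exact_mod_cast ha
  rcases lt_or_gt_of_ne hD with hn | hp
  · have hn' : (D : ℚ) ≤ -(a : ℚ) := by exact_mod_cast h hn
    rw [show 1 / (D : ℚ) = -(1 / (-(D : ℚ))) by rw [div_neg, neg_neg]]
    exact neg_le_neg (one_div_le_one_div_of_le ha' (by linarith))
  · have hp' : (0 : ℚ) < 1 / (D : ℚ) := one_div_pos.2 (by exact_mod_cast hp)
    have h0 : (0 : ℚ) < 1 / (a : ℚ) := one_div_pos.2 ha'
    linarith

theorem adm_bounds {K : ℕ} {c D : ℤ} (h : Adm K c D) :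
    D ≠ 0 ∧ (D < 0 → (c = 1 → D ≤ -7) ∧ (c = 3 → D ≤ -21) ∧ (c = 6 → D ≤ -42) ∧ (c = -2 → D ≤ -10) ∧
      (c = -5 → D ≤ -13)) := by
  obtain ⟨h1, h2, h3, h4, -⟩ := h
  refine ⟨h1, fun hD => ⟨?_, ?_, ?_, ?_, ?_⟩⟩ <;> intro hc <;> subst hc <;> have := h4 hD <;> omega

theorem K_small {K : ℕ} {r : ℚ} (e : (K : ℚ) * r = 1200) (hr : 3 / 25 ≤ r) (ho : K % 2 = 1) : K < 10000 := by
  have hK : (K : ℚ) * (3 / 25) ≤ 1200 := e ▸ mul_le_mul_of_nonneg_left hr (Nat.cast_nonneg K)
  have : (K : ℚ) ≤ 10000 := by linarith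
  have : K ≤ 10000 := by exact_mod_cast this
  omega

theorem K_small' {K : ℕ} {r : ℚ} (e : (K : ℚ) * r = 720) (hr : 9 / 125 ≤ r) (ho : K % 2 = 1) : K < 10000 := by
  refine K_small (r := r * (5 / 3)) (by rw [← mul_assoc, e]; norm_num) (by linarith) ho

theorem small_I {K : ℕ} {W X X' : ℤ} (hW : Adm K 1 W) (hX : Adm K 3 X) (hX' : Adm K 3 X')
    (hs : W + X + X' = -1) (e : (K : ℚ) * (1 + 1 / W + 9 / X + 9 / X') = 1200) (ho : K % 2 = 1) : K < 10000 := by
  obtain ⟨w0, wb⟩ := adm_bounds hW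
  obtain ⟨x0, xb⟩ := adm_bounds hX
  obtain ⟨y0, yb⟩ := adm_bounds hX'
  have aw := inv_lb w0 7 (by norm_num) fun h => (wb h).1 rfl
  have ax := inv_lb x0 21 (by norm_num) fun h => (xb h).2.1 rfl
  have ay := inv_lb y0 21 (by norm_num) fun h => (yb h).2.1 rfl
  push_cast at aw ax ay
  refine K_small e ?_ ho
  rw [div_eq_mul_one_div (9 : ℚ) (X : ℚ), div_eq_mul_one_div (9 : ℚ) (X' : ℚ)]
  rcases (show 0 < W ∨ 0 < X ∨ 0 < X' by omega) with h | h | h <;>
    · have := one_div_pos.2 (show (0 : ℚ) < _ from Int.cast_pos.2 h)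
      linarith

theorem exceptional : ((List.range 5).all fun a => (List.range 9).all fun b => (List.range 48).all fun c =>
    let P : ℤ := -42 - 8 * (a : ℤ)
    let Z : ℤ := -13 - 8 * (b : ℤ)
    let X : ℤ := -21 - 8 * (c : ℤ)
    let Q := -1 - P - X
    let R := -1 - Q - Z
    decide (R = 0 ∨ 5 * (Q * R * Z + 4 * R * Z + 4 * Q * Z + 25 * Q * R) * P * X ≠
      3 * (P * Q * X + 36 * Q * X + 4 * P * X + 9 * P * Q) * R * Z)) = true := by decide +kernel

theorem small_II_pos {K : ℕ} {P Q R X Z : ℤ} (hP : Adm K 6 P) (hQ : Adm K (-2) Q) (hR : Adm K (-2) R)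
    (hX : Adm K 3 X) (hZ : Adm K (-5) Z) (hs : P + Q + X = -1) (hs' : Q + R + Z = -1)
    (e : (K : ℚ) * (1 + 36 / P + 4 / Q + 9 / X) = 1200) (e' : (K : ℚ) * (1 + 4 / Q + 4 / R + 25 / Z) = 720)
    (hq : 0 < Q) (ho : K % 2 = 1) : K < 10000 := by
  obtain ⟨p0, pb⟩ := adm_bounds hP
  obtain ⟨q0, qb⟩ := adm_bounds hQ
  obtain ⟨r0, rb⟩ := adm_bounds hR
  obtain ⟨x0, xb⟩ := adm_bounds hX
  obtain ⟨z0, zb⟩ := adm_bounds hZ
  have qp := one_div_pos.2 (show (0 : ℚ) < Q from Int.cast_pos.2 hq)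
  have ap := inv_lb p0 42 (by norm_num) fun h => (pb h).2.2.1 rfl
  have ax := inv_lb x0 21 (by norm_num) fun h => (xb h).2.1 rfl
  have ar := inv_lb r0 10 (by norm_num) fun h => (rb h).2.2.2.1 rfl
  push_cast at ap ax ar
  by_contra hK
  have b1 : ∀ a : ℤ, 0 < a → (P < 0 → P ≤ -a) → -(1 / (a : ℚ)) ≤ 1 / (P : ℚ) := inv_lb p0
  have b2 : ∀ a : ℤ, 0 < a → (X < 0 → X ≤ -a) → -(1 / (a : ℚ)) ≤ 1 / (X : ℚ) := inv_lb x0
  have b3 : ∀ a : ℤ, 0 < a → (Z < 0 → Z ≤ -a) → -(1 / (a : ℚ)) ≤ 1 / (Z : ℚ) := inv_lb z0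
  obtain ⟨-, hp8, -, -, -⟩ := hP
  obtain ⟨-, hx8, -, -, -⟩ := hX
  obtain ⟨-, hz8, -, -, -⟩ := hZ
  have hPr : -74 ≤ P ∧ P ≤ -42 := by
    by_contra hh
    have h := b1 82 (by norm_num) fun h => by have := (pb h).2.2.1 rfl; omega
    push_cast at h
    refine hK (K_small e ?_ ho)
    rw [div_eq_mul_one_div (36 : ℚ), div_eq_mul_one_div (4 : ℚ), div_eq_mul_one_div (9 : ℚ)]
    linarith
  have hXr : -397 ≤ X ∧ X ≤ -21 := by
    by_contra hh
    have h := b2 405 (by norm_num) fun h => by have := (xb h).2.1 rfl; omega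
    push_cast at h
    refine hK (K_small e ?_ ho)
    rw [div_eq_mul_one_div (36 : ℚ), div_eq_mul_one_div (4 : ℚ), div_eq_mul_one_div (9 : ℚ)]
    linarith
  have hZr : -77 ≤ Z ∧ Z ≤ -13 := by
    by_contra hh
    have h := b3 85 (by norm_num) fun h => by have := (zb h).2.2.2.2 rfl; omega
    push_cast at h
    refine hK (K_small' e' ?_ ho)
    rw [div_eq_mul_one_div (4 : ℚ) (Q : ℚ), div_eq_mul_one_div (4 : ℚ) (R : ℚ), div_eq_mul_one_div (25 : ℚ)]
    linarith
  obtain ⟨a, ha, rfl⟩ : ∃ a : ℕ, a < 5 ∧ P = -42 - 8 * (a : ℤ) := ⟨((-42 - P) / 8).toNat, by omega, by omega⟩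
  obtain ⟨b, hb, rfl⟩ : ∃ b : ℕ, b < 9 ∧ Z = -13 - 8 * (b : ℤ) := ⟨((-13 - Z) / 8).toNat, by omega, by omega⟩
  obtain ⟨c, hc, rfl⟩ : ∃ c : ℕ, c < 48 ∧ X = -21 - 8 * (c : ℤ) := ⟨((-21 - X) / 8).toNat, by omega, by omega⟩
  obtain rfl : Q = -1 - (-42 - 8 * (a : ℤ)) - (-21 - 8 * (c : ℤ)) := by omega
  obtain rfl : R = -1 - (-1 - (-42 - 8 * (a : ℤ)) - (-21 - 8 * (c : ℤ))) - (-13 - 8 * (b : ℤ)) := by omega
  have h := of_decide_eq_true (List.all_eq_true.1 (List.all_eq_true.1 (List.all_eq_true.1 exceptional a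
    (List.mem_range.2 ha)) b (List.mem_range.2 hb)) c (List.mem_range.2 hc))
  refine (h.resolve_left r0) ?_
  have hK0 : (K : ℚ) ≠ 0 := fun h0 => by rw [h0, zero_mul] at e; norm_num at e
  generalize (-42 - 8 * (a : ℤ)) = P at *
  generalize (-21 - 8 * (c : ℤ)) = X at *
  generalize (-13 - 8 * (b : ℤ)) = Z at *
  generalize -1 - (-1 - P - X) - Z = R at *
  generalize -1 - P - X = Q at *
  have h1 : (5 : ℚ) * (1 + 4 / Q + 4 / R + 25 / Z) = 3 * (1 + 36 / P + 4 / Q + 9 / X) := by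
    refine mul_left_cancel₀ hK0 ?_
    linear_combination (5 : ℚ) * e' - 3 * e
  have p' : (P : ℚ) ≠ 0 := by exact_mod_cast p0
  have q' : (Q : ℚ) ≠ 0 := by exact_mod_cast q0
  have r' : (R : ℚ) ≠ 0 := by exact_mod_cast r0
  have x' : (X : ℚ) ≠ 0 := by exact_mod_cast x0
  have z' : (Z : ℚ) ≠ 0 := by exact_mod_cast z0
  field_simp at h1
  have : ((5 * (Q * R * Z + 4 * R * Z + 4 * Q * Z + 25 * Q * R) * P * X : ℤ) : ℚ) =
      ((3 * (P * Q * X + 36 * Q * X + 4 * P * X + 9 * P * Q) * R * Z : ℤ) : ℚ) := by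
    push_cast
    linear_combination h1
  exact_mod_cast this

theorem small_II {K : ℕ} (h : CaseII K) (ho : K % 2 = 1) : K < 10000 := by
  obtain ⟨P, Q, R, X, Y, Z, hP, hQ, hR, hX, hY, hZ, s1, s2, s3, e1, e2, e3⟩ := h
  obtain ⟨p0, pb⟩ := adm_bounds hP
  obtain ⟨q0, qb⟩ := adm_bounds hQ
  obtain ⟨r0, rb⟩ := adm_bounds hR
  obtain ⟨z0, zb⟩ := adm_bounds hZ
  have aq := inv_lb q0 10 (by norm_num) fun h => (qb h).2.2.2.1 rfl
  have ar := inv_lb r0 10 (by norm_num) fun h => (rb h).2.2.2.1 rfl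
  push_cast at aq ar
  by_cases hq : 0 < Q
  · exact small_II_pos hP hQ hR hX hZ s1 s3 e1 e3 hq ho
  by_cases hr : 0 < R
  · refine small_II_pos hP hR hQ hY hZ s2 (by omega) e2 ?_ hr ho
    rw [← e3]; ring
  have zp := one_div_pos.2 (show (0 : ℚ) < Z from Int.cast_pos.2 (by omega))
  refine K_small' e3 ?_ ho
  rw [div_eq_mul_one_div (4 : ℚ) (Q : ℚ), div_eq_mul_one_div (4 : ℚ) (R : ℚ), div_eq_mul_one_div (25 : ℚ)]
  linarith

/-- The two possible orders. -/
theorem solve {K : ℕ} (ho : K % 2 = 1) (h : CaseI K ∨ CaseIZ K ∨ CaseII K) : K = 1463 ∨ K = 1575 := by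
  by_contra hh
  push Not at hh
  rcases h with h | h | h
  · obtain ⟨W, X, X', Z, Z', hW, hX, hX', hZ, hZ', s1, s2, e1, e2⟩ := h
    have hK := small_I hW hX hX' s1 e1 ho
    obtain rfl : X' = -1 - W - X := by omega
    obtain rfl : Z' = -1 - W - Z := by omega
    generalize hX'' : -1 - W - X = X' at hX' e1
    generalize hZ'' : -1 - W - Z = Z' at hZ' e2
    have w' : (W : ℚ) ≠ 0 := by exact_mod_cast hW.1
    have x' : (X : ℚ) ≠ 0 := by exact_mod_cast hX.1
    have y' : (X' : ℚ) ≠ 0 := by exact_mod_cast hX'.1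
    have z' : (Z : ℚ) ≠ 0 := by exact_mod_cast hZ.1
    have u' : (Z' : ℚ) ≠ 0 := by exact_mod_cast hZ'.1
    field_simp at e1 e2
    have i1 : (K : ℤ) * (W * X * X' + X * X' + 9 * W * (X + X')) = 1200 * W * X * X' := by
      have : ((K : ℤ) : ℚ) * ((W * X * X' + X * X' + 9 * W * (X + X') : ℤ) : ℚ) = ((1200 * W * X * X' : ℤ) : ℚ) := by
        push_cast; linear_combination e1
      exact_mod_cast this
    have i2 : (K : ℤ) * (W * Z * Z' + Z * Z' + 25 * W * (Z + Z')) = 720 * W * Z * Z' := by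
      have : ((K : ℤ) : ℚ) * ((W * Z * Z' + Z * Z' + 25 * W * (Z + Z') : ℤ) : ℚ) = ((720 * W * Z * Z' : ℤ) : ℚ) := by
        push_cast; linear_combination e2
      exact_mod_cast this
    obtain ⟨m1, m2⟩ := div_eq i1 (by simp [hW.1, hX.1, hX'.1])
    subst hX'' hZ''
    have hc := List.all_eq_true.1 (List.all_eq_true.1 allI W (mem_cand hK hW)) X (mem_cand hK hX)
    simp only [chkI, m1, m2, if_true, bad_of hK ho hh.1 hh.2, List.all_eq_true, decide_eq_true_eq] at hc
    exact hc Z (mem_cand hK hZ) i2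
  · obtain ⟨W, X, X', D, hW, hX, hX', hD, -, s1, s2, e1, e2⟩ := h
    have hK := small_I hW hX hX' s1 e1 ho
    have w' : (W : ℚ) ≠ 0 := by exact_mod_cast hW.1
    have d' : (D : ℚ) ≠ 0 := by exact_mod_cast hD.1
    field_simp at e2
    have i2 : (K : ℤ) * (W * D + D + 82 * W) = 720 * W * D := by
      have : ((K : ℤ) : ℚ) * ((W * D + D + 82 * W : ℤ) : ℚ) = ((720 * W * D : ℤ) : ℚ) := by
        push_cast; linear_combination e2
      exact_mod_cast this
    obtain rfl : W = -1 - D - D := by omega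
    obtain ⟨m1, m2⟩ := div_eq i2 (by simp [hW.1, hD.1])
    have hc := List.all_eq_true.1 allIZ D (mem_cand hK hD)
    simp [chkIZ, m1, m2, bad_of hK ho hh.1 hh.2] at hc
  · have hK := small_II h ho
    obtain ⟨P, Q, R, X, Y, Z, hP, hQ, hR, hX, -, hZ, s1, -, s3, e1, -, e3⟩ := h
    obtain rfl : X = -1 - P - Q := by omega
    obtain rfl : R = -1 - Q - Z := by omega
    generalize hX'' : -1 - P - Q = X at hX e1
    generalize hR'' : -1 - Q - Z = R at hR e3
    have p' : (P : ℚ) ≠ 0 := by exact_mod_cast hP.1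
    have q' : (Q : ℚ) ≠ 0 := by exact_mod_cast hQ.1
    have r' : (R : ℚ) ≠ 0 := by exact_mod_cast hR.1
    have x' : (X : ℚ) ≠ 0 := by exact_mod_cast hX.1
    have z' : (Z : ℚ) ≠ 0 := by exact_mod_cast hZ.1
    field_simp at e1 e3
    have i1 : (K : ℤ) * (P * Q * X + 36 * Q * X + 4 * P * X + 9 * P * Q) = 1200 * P * Q * X := by
      have : ((K : ℤ) : ℚ) * ((P * Q * X + 36 * Q * X + 4 * P * X + 9 * P * Q : ℤ) : ℚ) =
          ((1200 * P * Q * X : ℤ) : ℚ) := by
        push_cast; linear_combination e1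
      exact_mod_cast this
    have i3 : (K : ℤ) * (Q * R * Z + 4 * R * Z + 4 * Q * Z + 25 * Q * R) = 720 * Q * R * Z := by
      have : ((K : ℤ) : ℚ) * ((Q * R * Z + 4 * R * Z + 4 * Q * Z + 25 * Q * R : ℤ) : ℚ) =
          ((720 * Q * R * Z : ℤ) : ℚ) := by
        push_cast; linear_combination e3
      exact_mod_cast this
    obtain ⟨m1, m2⟩ := div_eq i3 (by simp [hQ.1, hR.1, hZ.1])
    subst hX'' hR''
    have hc := List.all_eq_true.1 (List.all_eq_true.1 allII Q (mem_cand hK hQ)) Z (mem_cand hK hZ)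
    simp only [chkII, m1, m2, if_true, bad_of hK ho hh.1 hh.2, admB_of hR, Bool.and_self, List.all_eq_true,
      decide_eq_true_eq] at hc
    exact hc P (mem_cand hK hP) i1

end Cfsg.Agent.JOneRecog.Arith
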