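import Cfsg.Agent.JOneRecog.Model
import Cfsg.Agent.TwoTransfer.Basic

/-!
A simple group with an involution whose centraliser is `2 × A₅` and Sylow 2-subgroups of order 8: fusion and the
normaliser of a Sylow 2-subgroup.
-/

set_option autoImplicit false
set_option maxRecDepth 100000
set_option synthInstance.maxSize 10000
set_option synthInstance.maxHeartbeats 1000000
set_option linter.all false

namespace Cfsg.Agent.JOneRecog

open Equiv

/-- The central involution of the model. -/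
def zM : M0 := (Multiplicative.ofAdd 1, 1)

/-- An involution. -/
def vA : A5 := ⟨swap 0 1 * swap 2 3, Perm.mem_alternatingGroup.2 (by decide)⟩

/-- A second involution. -/
def uA : A5 := ⟨swap 0 2 * swap 1 3, Perm.mem_alternatingGroup.2 (by decide)⟩

/-- An element of order three. -/
def rA : A5 := ⟨swap 0 1 * swap 1 2, Perm.mem_alternatingGroup.2 (by decide)⟩

/-- An element of order five. -/
def hA : A5 := ⟨swap 0 1 * swap 1 2 * swap 2 3 * swap 3 4, Perm.mem_alternatingGroup.2 (by decide)⟩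

/-- The four group and the centre, as vectors. -/
abbrev V3 : Type := ZMod 2 × ZMod 2 × ZMod 2

/-- An element of the Sylow subgroup of the model. -/
def vM (w : V3) : M0 :=
  (Multiplicative.ofAdd w.1, (if w.2.1 = 0 then 1 else vA) * (if w.2.2 = 0 then 1 else uA))

theorem vM_add : ∀ a b : V3, vM (a + b) = vM a * vM b := by decide +kernel

/-- The Sylow subgroup of the model. -/
def phi : Multiplicative V3 →* M0 where
  toFun w := vM (Multiplicative.toAdd w)
  map_one' := by decide +kernel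
  map_mul' := fun a b => vM_add _ _

theorem vM_inj : Function.Injective vM := by
  intro a b h
  exact (by decide +kernel : ∀ a b : V3, vM a = vM b → a = b) a b h

variable {G : Type*} [Group G]

/-- The hypotheses. -/
structure JD (G : Type*) [Group G] where
  /-- the involution -/
  t : G
  /-- the structure of its centraliser -/
  e : ↥(Subgroup.centralizer ({t} : Set G)) ≃* M0
  ht : orderOf t = 2
  h8 : Nat.card G % 16 = 8

namespace JD

variable (D : JD G)

/-- The embedding of the model. -/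
def emb : M0 →* G := (Subgroup.centralizer ({D.t} : Set G)).subtype.comp D.e.symm.toMonoidHom

theorem emb_injective : Function.Injective D.emb := fun _ _ h => D.e.symm.injective (Subtype.ext h)

theorem emb_mem (m : M0) : D.emb m * D.t = D.t * D.emb m :=
  Subgroup.mem_centralizer_singleton_iff.1 (D.e.symm m).2

theorem exists_emb {x : G} (h : x * D.t = D.t * x) : ∃ m, D.emb m = x :=
  ⟨D.e ⟨x, Subgroup.mem_centralizer_singleton_iff.2 h⟩, congrArg Subtype.val (D.e.symm_apply_apply _)⟩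

theorem emb_e (c : Subgroup.centralizer ({D.t} : Set G)) : D.emb (D.e c) = c :=
  congrArg Subtype.val (D.e.symm_apply_apply c)

theorem tt : D.t * D.t = 1 := by rw [← pow_two, ← D.ht, pow_orderOf_eq_one]

theorem tinv : D.t⁻¹ = D.t := inv_eq_of_mul_eq_one_right D.tt

theorem t_ne : D.t ≠ 1 := fun h => by
  have := D.ht
  rw [h, orderOf_one] at this
  omega

theorem emb_zM : D.emb zM = D.t := by
  obtain ⟨a, ha⟩ := D.exists_emb (x := D.t) rfl
  have hsq : a * a = 1 := D.emb_injective (by rw [map_mul, map_one, ha, D.tt])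
  have hq : toQ a = qt := by
    refine central_eq _ (mem_els.1 (toQ_mem a)) (by rw [← toQ_mul, hsq, toQ_one]) (fun h => ?_) fun r hr => ?_
    · rw [toQ_injective (h.trans toQ_one.symm), map_one] at ha
      exact D.t_ne ha.symm
    · obtain ⟨b, rfl⟩ := toQ_surj (mem_els.2 hr)
      rw [← toQ_mul, ← toQ_mul]
      refine congrArg toQ (D.emb_injective ?_)
      rw [map_mul, map_mul, ha, D.emb_mem]
  rw [show zM = a from toQ_injective ((by decide +kernel : toQ zM = qt).trans hq.symm), ha]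

theorem card_C : Nat.card (Subgroup.centralizer ({D.t} : Set G)) = 120 := by
  rw [Nat.card_congr D.e.toEquiv, card_M0]

/-- The Sylow subgroup. -/
def S0 : Subgroup G := (D.emb.comp phi).range

/-- Its elements. -/
def sv (w : V3) : G := D.emb (vM w)

theorem sv_add (a b : V3) : D.sv (a + b) = D.sv a * D.sv b := by rw [sv, vM_add, map_mul]; rfl

theorem sv_inj : Function.Injective D.sv := D.emb_injective.comp vM_inj

theorem sv_zero : D.sv 0 = 1 := by
  rw [sv, show vM 0 = 1 from (by decide +kernel), map_one]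

theorem sv_t : D.sv (1, 0, 0) = D.t := by
  rw [sv, show vM (1, 0, 0) = zM from (by decide +kernel), D.emb_zM]

theorem mem_S0 {x : G} : x ∈ D.S0 ↔ ∃ w, D.sv w = x :=
  ⟨fun ⟨w, hw⟩ => ⟨Multiplicative.toAdd w, hw⟩, fun ⟨w, hw⟩ => ⟨Multiplicative.ofAdd w, hw⟩⟩

theorem sv_mem (w : V3) : D.sv w ∈ D.S0 := D.mem_S0.2 ⟨w, rfl⟩

theorem card_S0 : Nat.card D.S0 = 8 := by
  have hinj : Function.Injective (D.emb.comp phi) := fun a b h =>
    Multiplicative.toAdd.injective (D.sv_inj h)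
  rw [S0, ← Nat.card_congr (MonoidHom.ofInjective hinj).toEquiv, Nat.card_congr Multiplicative.toAdd,
    Nat.card_eq_fintype_card]
  rfl

theorem sv_comm (a b : V3) : D.sv a * D.sv b = D.sv b * D.sv a := by
  rw [← D.sv_add, ← D.sv_add, add_comm]

theorem sv_sq (a : V3) : D.sv a * D.sv a = 1 := by
  rw [← D.sv_add, show a + a = 0 from (by decide +kernel : ∀ a : V3, a + a = 0) a, D.sv_zero]

theorem sv_ne {a : V3} (h : a ≠ 0) : D.sv a ≠ 1 := fun e => h (D.sv_inj (e.trans D.sv_zero.symm))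

theorem sv_tc (w : V3) : D.sv w * D.t = D.t * D.sv w := D.emb_mem _

variable [Finite G]

theorem sylow_exists : ∃ S : Sylow 2 G, (S : Subgroup G) = D.S0 := by
  obtain ⟨S, hS⟩ := (IsPGroup.of_card (n := 3) (by rw [D.card_S0]; norm_num) : IsPGroup 2 D.S0).exists_le_sylow
  refine ⟨S, (Subgroup.eq_of_le_of_card_ge hS ?_).symm⟩
  obtain ⟨k, hk⟩ := IsPGroup.iff_card.1 S.isPGroup'
  rw [hk, D.card_S0]
  by_contra h
  have h4 : 4 ≤ k := by
    by_contra hk3
    exact h ((Nat.pow_le_pow_right (by norm_num) (by omega : k ≤ 3)).trans (by norm_num))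
  have h16 : 16 ∣ Nat.card G :=
    ((pow_dvd_pow 2 h4).trans (dvd_of_eq hk.symm)).trans (S : Subgroup G).card_subgroup_dvd_card
  have := D.h8
  omega

/-- The Sylow 2-subgroup. -/
noncomputable def S : Sylow 2 G := D.sylow_exists.choose

theorem S_eq : (D.S : Subgroup G) = D.S0 := D.sylow_exists.choose_spec

theorem mem_S {x : G} : x ∈ (D.S : Subgroup G) ↔ ∃ w, D.sv w = x := by rw [D.S_eq, D.mem_S0]

instance instComm : IsMulCommutative ↥(D.S : Subgroup G) := ⟨⟨fun a b => by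
  obtain ⟨u, hu⟩ := D.mem_S.1 a.2
  obtain ⟨w, hw⟩ := D.mem_S.1 b.2
  exact Subtype.ext (show (a : G) * b = b * a by rw [← hu, ← hw, D.sv_comm])⟩⟩

theorem mem_N {n : G} (hn : n ∈ Subgroup.normalizer ((D.S : Subgroup G) : Set G)) (w : V3) :
    ∃ w', n * D.sv w * n⁻¹ = D.sv w' := by
  obtain ⟨w', h⟩ := D.mem_S.1 ((Subgroup.mem_normalizer_iff.1 hn (D.sv w)).1 (D.mem_S.2 ⟨w, rfl⟩))
  exact ⟨w', h.symm⟩

/-- Conjugacy in `G` inside the Sylow subgroup is conjugacy in its normaliser. -/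
theorem burnside {a b : V3} {g : G} (h : g * D.sv a * g⁻¹ = D.sv b) :
    ∃ n ∈ Subgroup.normalizer ((D.S : Subgroup G) : Set G), n * D.sv a * n⁻¹ = D.sv b := by
  obtain ⟨n, hn, e⟩ := D.S.conj_eq_normalizer_conj_of_mem (D.sv a) g⁻¹ (D.mem_S.2 ⟨a, rfl⟩)
    (by rw [inv_inv, h]; exact D.mem_S.2 ⟨b, rfl⟩)
  refine ⟨n⁻¹, inv_mem hn, ?_⟩
  rw [inv_inv, h] at e
  rw [inv_inv, e]

/-- Conjugates inside the centraliser of `t`. -/
theorem conj_C {a b : M0} (h : IsConj a b) : IsConj (D.emb a) (D.emb b) :=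
  (isConj_iff.2 (by
    obtain ⟨c, hc⟩ := isConj_iff.1 h
    exact ⟨D.emb c, by rw [← map_inv, ← map_mul, ← map_mul, hc]⟩))

theorem v_class : IsConj (vM (0, 1, 0)) (vM (0, 0, 1)) ∧ IsConj (vM (0, 1, 0)) (vM (0, 1, 1)) ∧
    IsConj (vM (1, 1, 0)) (vM (1, 0, 1)) ∧ IsConj (vM (1, 1, 0)) (vM (1, 1, 1)) := by
  simp only [isConj_iff]
  exact ⟨⟨(1, rA⁻¹), by decide +kernel⟩, ⟨(1, rA), by decide +kernel⟩, ⟨(1, rA⁻¹), by decide +kernel⟩,
    ⟨(1, rA), by decide +kernel⟩⟩

variable [IsSimpleGroup G]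

include D in
theorem no_index_two {N : Subgroup G} (hN : N.Normal) (hi : N.index = 2) : False := by
  rcases hN.eq_bot_or_eq_top with h | h
  · rw [h, Subgroup.index_bot] at hi
    have := D.h8
    omega
  · rw [h, Subgroup.index_top] at hi
    omega

/-- A hyperplane of the Sylow subgroup cannot avoid a whole fusion class. -/
theorem no_avoid (φ : V3 →+ ZMod 2) (x : V3) (hx : φ x = 1)
    (h : ∀ g : G, ∀ w : V3, g⁻¹ * D.sv x * g = D.sv w → φ w = 1) : False := by
  let M : Subgroup G := ((D.emb.comp phi).comp (MonoidHom.ker φ.toMultiplicative).subtype).range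
  have hmem : ∀ y, y ∈ M ↔ ∃ w, φ w = 0 ∧ D.sv w = y := by
    intro y
    constructor
    · rintro ⟨w, rfl⟩
      exact ⟨Multiplicative.toAdd (w : Multiplicative V3), w.2, rfl⟩
    · rintro ⟨w, hw, rfl⟩
      exact ⟨⟨Multiplicative.ofAdd w, hw⟩, rfl⟩
  have hM : M.relIndex (D.S : Subgroup G) = 2 := by
    rw [Subgroup.relIndex, Subgroup.index_eq_two_iff]
    refine ⟨⟨D.sv x, D.mem_S.2 ⟨x, rfl⟩⟩, fun b => ?_⟩
    obtain ⟨w, hw⟩ := D.mem_S.1 b.2
    have e1 : (b * ⟨D.sv x, D.mem_S.2 ⟨x, rfl⟩⟩ : (D.S : Subgroup G)) ∈ M.subgroupOf (D.S : Subgroup G) ↔ φ w = 1 := by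
      rw [Subgroup.mem_subgroupOf, hmem]
      show (∃ w', φ w' = 0 ∧ D.sv w' = (b : G) * D.sv x) ↔ _
      rw [← hw, ← D.sv_add]
      refine ⟨fun ⟨w', h0, e⟩ => ?_, fun h1 => ⟨w + x, by rw [map_add, h1, hx]; decide, rfl⟩⟩
      rw [D.sv_inj e, map_add, hx] at h0
      exact (by decide : ∀ z : ZMod 2, z + 1 = 0 → z = 1) _ h0
    have e2 : b ∈ M.subgroupOf (D.S : Subgroup G) ↔ φ w = 0 := by
      rw [Subgroup.mem_subgroupOf, hmem]
      refine ⟨fun ⟨w', h0, e⟩ => ?_, fun h1 => ⟨w, h1, hw⟩⟩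
      rwa [D.sv_inj (e.trans hw.symm)] at h0
    rw [e1, e2]
    rcases (by decide : ∀ z : ZMod 2, z = 0 ∨ z = 1) (φ w) with h0 | h0 <;> simp [h0, Xor']
  obtain ⟨N, hN, hi, -⟩ := TwoTransfer.exists_index_two D.S M hM (D.sv x) (D.mem_S.2 ⟨x, rfl⟩)
    (fun k g hk _ => by
      obtain ⟨j, rfl⟩ := Nat.exists_eq_add_of_le' hk
      rw [pow_succ', pow_mul, pow_two, D.sv_sq, one_pow, mul_one, inv_mul_cancel]
      exact one_mem _)
    (fun g hg hM' => by
      obtain ⟨w, h0, e⟩ := (hmem _).1 hM'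
      rw [h g w e.symm] at h0
      exact one_ne_zero h0)
  exact D.no_index_two hN hi

theorem ordOf_sv {w : V3} (h : w ≠ 0) : orderOf (D.sv w) = 2 :=
  orderOf_eq_prime (hp := ⟨Nat.prime_two⟩) (by rw [pow_two, D.sv_sq]) (D.sv_ne h)

/-- All involutions of the Sylow subgroup are conjugate to `t`. -/
theorem sv_conj {w : V3} (h : w ≠ 0) : IsConj D.t (D.sv w) := by
  obtain ⟨c1, c2, c3, c4⟩ := v_class
  have d1 := D.conj_C c1
  have d2 := D.conj_C c2
  have d3 := D.conj_C c3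
  have d4 := D.conj_C c4
  have hv : IsConj D.t (D.sv (0, 1, 0)) := by
    by_contra hno
    refine D.no_avoid (AddMonoidHom.fst _ _) (1, 0, 0) rfl fun g w e => ?_
    rw [D.sv_t] at e
    rcases (by decide +kernel : ∀ w : V3, (AddMonoidHom.fst (ZMod 2) (ZMod 2 × ZMod 2)) w = 1 ∨ w = 0 ∨
      w = (0, 1, 0) ∨ w = (0, 0, 1) ∨ w = (0, 1, 1)) w with h | rfl | rfl | rfl | rfl
    · exact h
    · exfalso
      rw [D.sv_zero] at e
      exact D.t_ne (conj_eq_one_iff.1 (show g⁻¹ * D.t * g⁻¹⁻¹ = 1 by rw [inv_inv, e]))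
    all_goals
      exfalso
      have hc : IsConj D.t (D.sv _) := isConj_iff.2 ⟨g⁻¹, by rw [inv_inv]; exact e⟩
      apply hno
    · exact hc
    · exact hc.trans d1.symm
    · exact hc.trans d2.symm
  have htv : IsConj D.t (D.sv (1, 1, 0)) := by
    by_contra hno
    obtain ⟨g, hg⟩ := isConj_iff.1 hv
    rw [← D.sv_t] at hg
    obtain ⟨n, hn, hnt⟩ := D.burnside hg
    -- the other class is permuted and its product is `t`
    have hperm : ∀ w, w = (1, 1, 0) ∨ w = (1, 0, 1) ∨ w = (1, 1, 1) →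
        ∃ w', (w' = (1, 1, 0) ∨ w' = (1, 0, 1) ∨ w' = (1, 1, 1)) ∧ n * D.sv w * n⁻¹ = D.sv w' := by
      intro w hw
      obtain ⟨w', hw'⟩ := D.mem_N hn w
      refine ⟨w', ?_, hw'⟩
      have hcw : IsConj (D.sv (1, 1, 0)) (D.sv w') := by
        refine IsConj.trans ?_ (isConj_iff.2 ⟨n, hw'⟩)
        rcases hw with rfl | rfl | rfl
        exacts [IsConj.refl _, d3, d4]
      rcases (by decide +kernel : ∀ w : V3, (w = (1, 1, 0) ∨ w = (1, 0, 1) ∨ w = (1, 1, 1)) ∨ w = 0 ∨
        w = (1, 0, 0) ∨ w = (0, 1, 0) ∨ w = (0, 0, 1) ∨ w = (0, 1, 1)) w' with h | rfl | rfl | rfl | rfl | rfl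
      · exact h
      · exfalso
        rw [D.sv_zero, isConj_comm, isConj_one_right] at hcw
        exact D.sv_ne (a := (1, 1, 0)) (by decide) hcw
      all_goals exfalso; apply hno
      · rw [← D.sv_t]; exact hcw.symm
      · exact hv.trans hcw.symm
      · exact (hv.trans d1).trans hcw.symm
      · exact (hv.trans d2).trans hcw.symm
    obtain ⟨a, ha, ea⟩ := hperm _ (Or.inl rfl)
    obtain ⟨b, hb, eb⟩ := hperm _ (Or.inr (Or.inl rfl))
    obtain ⟨c, hc, ec⟩ := hperm _ (Or.inr (Or.inr rfl))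
    have hab : a ≠ b := fun h => absurd
      (D.sv_inj ((MulAut.conj n).injective (ea.trans (h ▸ eb.symm) :))) (by decide)
    have hac : a ≠ c := fun h => absurd
      (D.sv_inj ((MulAut.conj n).injective (ea.trans (h ▸ ec.symm) :))) (by decide)
    have hbc : b ≠ c := fun h => absurd
      (D.sv_inj ((MulAut.conj n).injective (eb.trans (h ▸ ec.symm) :))) (by decide)
    have hsum : a + b + c = (1, 0, 0) := (by decide +kernel : ∀ a b c : V3,
      (a = (1, 1, 0) ∨ a = (1, 0, 1) ∨ a = (1, 1, 1)) → (b = (1, 1, 0) ∨ b = (1, 0, 1) ∨ b = (1, 1, 1)) →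
      (c = (1, 1, 0) ∨ c = (1, 0, 1) ∨ c = (1, 1, 1)) → a ≠ b → a ≠ c → b ≠ c → a + b + c = (1, 0, 0))
      a b c ha hb hc hab hac hbc
    have h1 : n * D.sv (1, 0, 0) * n⁻¹ = D.sv (a + b + c) := by
      rw [D.sv_add, D.sv_add, ← ea, ← eb, ← ec,
        show ((1, 0, 0) : V3) = (1, 1, 0) + (1, 0, 1) + (1, 1, 1) from (by decide +kernel), D.sv_add, D.sv_add]
      group
    rw [hsum, hnt] at h1
    exact absurd (D.sv_inj h1) (by decide)
  rcases (by decide +kernel : ∀ w : V3, w = 0 ∨ w = (1, 0, 0) ∨ w = (0, 1, 0) ∨ w = (0, 0, 1) ∨ w = (0, 1, 1) ∨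
    w = (1, 1, 0) ∨ w = (1, 0, 1) ∨ w = (1, 1, 1)) w with rfl | rfl | rfl | rfl | rfl | rfl | rfl | rfl
  · exact absurd rfl h
  · rw [D.sv_t]
  · exact hv
  · exact hv.trans d1
  · exact hv.trans d2
  · exact htv
  · exact htv.trans d3
  · exact htv.trans d4

/-- All involutions are conjugate to `t`. -/
theorem isConj_t {x : G} (hx : x * x = 1) (hx1 : x ≠ 1) : IsConj D.t x := by
  haveI : Fact (Nat.Prime 2) := ⟨Nat.prime_two⟩
  have ho : orderOf x = 2 := orderOf_eq_prime (by rw [pow_two, hx]) hx1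
  obtain ⟨P, hP⟩ := (IsPGroup.of_card (n := 1) (by rw [Nat.card_zpowers, ho, pow_one]) :
    IsPGroup 2 (Subgroup.zpowers x)).exists_le_sylow
  obtain ⟨g, hg⟩ := MulAction.exists_smul_eq G P D.S
  have hxS : g * x * g⁻¹ ∈ (D.S : Subgroup G) := by
    rw [← hg, Sylow.coe_subgroup_smul]
    exact Subgroup.smul_mem_pointwise_smul _ _ _ (hP (Subgroup.mem_zpowers x))
  obtain ⟨w, hw⟩ := D.mem_S.1 hxS
  have hw0 : w ≠ 0 := by
    rintro rfl
    rw [D.sv_zero] at hw
    exact hx1 (conj_eq_one_iff.1 hw.symm)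
  exact (D.sv_conj hw0).trans (isConj_iff.2 ⟨g, rfl⟩ |>.symm |> fun h => hw ▸ h)

end JD

end Cfsg.Agent.JOneRecog
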