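import Mathlib

/-!
The four multiplicity vectors and the resulting equations for signed degrees.
-/

set_option autoImplicit false
set_option linter.all false

namespace Cfsg.Agent.JOneRecog.Comb

/-- The admissible signed degrees. -/
def Adm (K : ℕ) (c D : ℤ) : Prop :=
  D ≠ 0 ∧ 8 ∣ D - c ∧ (0 < D → 0 ≤ D + 7 * c ∧ c < D) ∧ (D < 0 → 0 ≤ -D - 7 * c ∧ D < c) ∧
    D * D ≤ 120 * K

/-- A common point of the three vectors, the last one plain. -/
def CaseI (K : ℕ) : Prop :=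
  ∃ W X X' Z Z' : ℤ, Adm K 1 W ∧ Adm K 3 X ∧ Adm K 3 X' ∧ Adm K (-5) Z ∧ Adm K (-5) Z' ∧
    W + X + X' = -1 ∧ W + Z + Z' = -1 ∧ (K : ℚ) * (1 + 1 / W + 9 / X + 9 / X') = 1200 ∧
    (K : ℚ) * (1 + 1 / W + 25 / Z + 25 / Z') = 720

/-- A common point, the last vector through both constituents of the first one. -/
def CaseIZ (K : ℕ) : Prop :=
  ∃ W X X' D : ℤ, Adm K 1 W ∧ Adm K 3 X ∧ Adm K 3 X' ∧ Adm K (-1) D ∧ Adm K (-9) D ∧
    W + X + X' = -1 ∧ W + D + D = -1 ∧ (K : ℚ) * (1 + 1 / W + 9 / X + 9 / X') = 1200 ∧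
    (K : ℚ) * (1 + 1 / W + 82 / D) = 720

/-- A triangle. -/
def CaseII (K : ℕ) : Prop :=
  ∃ P Q R X Y Z : ℤ, Adm K 6 P ∧ Adm K (-2) Q ∧ Adm K (-2) R ∧ Adm K 3 X ∧ Adm K 3 Y ∧ Adm K (-5) Z ∧
    P + Q + X = -1 ∧ P + R + Y = -1 ∧ Q + R + Z = -1 ∧
    (K : ℚ) * (1 + 36 / P + 4 / Q + 9 / X) = 1200 ∧ (K : ℚ) * (1 + 36 / P + 4 / R + 9 / Y) = 1200 ∧
    (K : ℚ) * (1 + 4 / Q + 4 / R + 25 / Z) = 720

variable {ι : Type*} [Fintype ι] [DecidableEq ι]

/-- The value at the involution, away from the trivial character. -/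
def cv (A X Y Z : ι → ℤ) (i : ι) : ℤ := 4 * A i + 3 * X i + 3 * Y i + -5 * Z i

/-- The system. -/
structure Sys (K : ℕ) (o : ι) (d A X Y Z : ι → ℤ) : Prop where
  pos : ∀ i, 0 < d i
  sq : ∀ i, d i * d i ≤ 120 * K
  Xo : X o = 0
  Yo : Y o = 0
  Zo : Z o = 0
  AA : ∑ i, A i ^ 2 = 2
  XX : ∑ i, X i ^ 2 = 3
  YY : ∑ i, Y i ^ 2 = 3
  ZZ : ∑ i, Z i ^ 2 = 3
  AX : ∑ i, A i * X i = 0
  AY : ∑ i, A i * Y i = 0
  AZ : ∑ i, A i * Z i = 0
  XY : ∑ i, X i * Y i = 1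
  XZ : ∑ i, X i * Z i = 1
  YZ : ∑ i, Y i * Z i = 1
  dA : ∑ i, A i * d i = 0
  dX : ∑ i, X i * d i = -1
  dY : ∑ i, Y i * d i = -1
  dZ : ∑ i, Z i * d i = -1
  res : ∀ i, i ≠ o → 8 ∣ d i - cv A X Y Z i ∧ 0 ≤ d i + 7 * cv A X Y Z i ∧ cv A X Y Z i < d i
  eX : (K : ℚ) * (1 + ∑ i, (X i : ℚ) * (cv A X Y Z i : ℚ) ^ 2 / (d i : ℚ)) = 1200
  eY : (K : ℚ) * (1 + ∑ i, (Y i : ℚ) * (cv A X Y Z i : ℚ) ^ 2 / (d i : ℚ)) = 1200
  eZ : (K : ℚ) * (1 + ∑ i, (Z i : ℚ) * (cv A X Y Z i : ℚ) ^ 2 / (d i : ℚ)) = 720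

omit [DecidableEq ι] in
theorem Sys.swap {K : ℕ} {o : ι} {d A X Y Z : ι → ℤ} (H : Sys K o d A X Y Z) : Sys K o d A Y X Z := by
  have hc : cv A Y X Z = cv A X Y Z := by funext i; simp only [cv]; ring
  exact
    { pos := H.pos, sq := H.sq, Xo := H.Yo, Yo := H.Xo, Zo := H.Zo
      AA := H.AA, XX := H.YY, YY := H.XX, ZZ := H.ZZ, AX := H.AY, AY := H.AX, AZ := H.AZ
      XY := by rw [← H.XY]; simp only [mul_comm]
      XZ := H.YZ, YZ := H.XZ, dA := H.dA, dX := H.dY, dY := H.dX, dZ := H.dZ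
      res := by rw [hc]; exact H.res
      eX := by rw [hc]; exact H.eY
      eY := by rw [hc]; exact H.eX
      eZ := by rw [hc]; exact H.eZ }

/-- A vector of small norm has few entries, all units. -/
theorem supp_small {m : ι → ℤ} {n : ℕ} (h : ∑ i, m i ^ 2 = n) (hn : n ≤ 3) :
    (∀ i, m i = 0 ∨ m i = 1 ∨ m i = -1) ∧ (Finset.univ.filter fun i => m i ≠ 0).card = n := by
  have hb : ∀ i, m i = 0 ∨ m i = 1 ∨ m i = -1 := fun i => by
    have h1 := Finset.single_le_sum (f := fun j => m j ^ 2) (fun j _ => sq_nonneg _) (Finset.mem_univ i)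
    have h2 : m i ^ 2 ≤ 3 := by omega
    have h3 : m i < 2 := by nlinarith
    have h4 : -2 < m i := by nlinarith
    omega
  refine ⟨hb, ?_⟩
  have h1 : ∀ i, m i ^ 2 = if m i ≠ 0 then 1 else 0 := fun i => by
    rcases hb i with e | e | e <;> simp [e]
  rw [Finset.sum_congr rfl fun i _ => h1 i, Finset.sum_boole] at h
  exact_mod_cast h

/-- A vector of norm three with one known entry. -/
theorem split_three {m : ι → ℤ} (h : ∑ i, m i ^ 2 = 3) {p : ι} (hp : m p ≠ 0) :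
    ∃ a b, a ≠ b ∧ a ≠ p ∧ b ≠ p ∧ m a ≠ 0 ∧ m b ≠ 0 ∧ (∀ i, m i ≠ 0 → i = p ∨ i = a ∨ i = b) ∧
      ∀ {M : Type} [AddCommMonoid M] (F : ι → M), (∀ i, m i = 0 → F i = 0) → ∑ i, F i = F p + F a + F b := by
  obtain ⟨-, hc⟩ := supp_small (n := 3) (by exact_mod_cast h) le_rfl
  obtain ⟨a, b, hab, hs⟩ := Finset.card_eq_two.1
    (show ((Finset.univ.filter fun i => m i ≠ 0).erase p).card = 2 by
      rw [Finset.card_erase_of_mem (by simp [hp]), hc])
  have ha : a ∈ (Finset.univ.filter fun i => m i ≠ 0).erase p := by rw [hs]; simp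
  have hb : b ∈ (Finset.univ.filter fun i => m i ≠ 0).erase p := by rw [hs]; simp
  simp at ha hb
  have hall : ∀ i, m i ≠ 0 → i = p ∨ i = a ∨ i = b := fun i hi => by
    by_cases hip : i = p
    · exact Or.inl hip
    · have : i ∈ (Finset.univ.filter fun i => m i ≠ 0).erase p := by simp [hi, hip]
      rw [hs] at this
      simp at this
      exact Or.inr this
  refine ⟨a, b, hab, ha.1, hb.1, ha.2, hb.2, hall, fun {M} _ F hF => ?_⟩
  rw [← Finset.sum_subset (Finset.subset_univ ({p, a, b} : Finset ι)) fun i _ hi => ?_,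
    Finset.sum_insert (by simp [Ne.symm ha.1, Ne.symm hb.1]), Finset.sum_pair hab, add_assoc]
  refine hF i (by_contra fun h0 => hi ?_)
  simpa using hall i h0

/-- A vector of norm three with two known entries. -/
theorem split_three' {m : ι → ℤ} (h : ∑ i, m i ^ 2 = 3) {p q : ι} (hpq : p ≠ q) (hp : m p ≠ 0) (hq : m q ≠ 0) :
    ∃ a, a ≠ p ∧ a ≠ q ∧ m a ≠ 0 ∧ (∀ i, m i ≠ 0 → i = p ∨ i = q ∨ i = a) ∧
      ∀ {M : Type} [AddCommMonoid M] (F : ι → M), (∀ i, m i = 0 → F i = 0) → ∑ i, F i = F p + F q + F a := by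
  obtain ⟨a, b, hab, hap, hbp, ha, hb, hall, hsum⟩ := split_three h hp
  rcases (hall q hq).resolve_left hpq.symm with rfl | rfl
  · exact ⟨b, hbp, hab.symm, hb, hall, fun F hF => hsum F hF⟩
  · refine ⟨a, hap, hab, ha, fun i hi => ?_, fun F hF => ?_⟩
    · rcases hall i hi with e | e | e <;> simp [e]
    · rw [hsum F hF, add_right_comm]

/-- Two vectors of norm three meet once, with equal signs. -/
theorem meet {d U V : ι → ℤ} (hd : ∀ i, 0 < d i) (hU : ∑ i, U i ^ 2 = 3) (hV : ∑ i, V i ^ 2 = 3)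
    (hUV : ∑ i, U i * V i = 1) (hdeg : ∑ i, U i * d i = ∑ i, V i * d i) :
    ∃ p, U p = V p ∧ U p ≠ 0 ∧ ∀ i, U i ≠ 0 → V i ≠ 0 → i = p := by
  obtain ⟨bu, -⟩ := supp_small (n := 3) (by exact_mod_cast hU) le_rfl
  obtain ⟨bv, -⟩ := supp_small (n := 3) (by exact_mod_cast hV) le_rfl
  obtain ⟨p, -, hp⟩ := Finset.exists_ne_zero_of_sum_ne_zero (f := fun i => U i * V i) (by rw [hUV]; norm_num)
  obtain ⟨hp1, hp2⟩ := mul_ne_zero_iff.1 hp
  obtain ⟨a, b, hab, hap, hbp, ha, hb, hall, hsum⟩ := split_three hU hp1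
  rw [hsum (fun i => U i * V i) fun i hi => by simp [hi]] at hUV
  have ua := (bu a).resolve_left ha
  have ub := (bu b).resolve_left hb
  have up := (bu p).resolve_left hp1
  have vp := (bv p).resolve_left hp2
  by_cases va : V a = 0
  · by_cases vb : V b = 0
    · refine ⟨p, ?_, hp1, fun i h1 h2 => ?_⟩
      · rw [va, vb] at hUV
        rcases up with e | e <;> rcases vp with e' | e' <;> rw [e, e'] at hUV ⊢ <;> omega
      · rcases hall i h1 with e | e | e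
        · exact e
        · exact absurd (e ▸ va) h2
        · exact absurd (e ▸ vb) h2
    · exfalso
      rw [va] at hUV
      rcases up with e | e <;> rcases vp with e' | e' <;> rcases ub with f | f <;>
        rcases (bv b).resolve_left vb with f' | f' <;> rw [e, e', f, f'] at hUV <;> omega
  · by_cases vb : V b = 0
    · exfalso
      rw [vb] at hUV
      rcases up with e | e <;> rcases vp with e' | e' <;> rcases ua with f | f <;>
        rcases (bv a).resolve_left va with f' | f' <;> rw [e, e', f, f'] at hUV <;> omega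
    · exfalso
      obtain ⟨c, hcp, hca, hc, hall', hsum'⟩ := split_three' hV hap.symm hp2 va
      obtain rfl : b = c := ((hall' b vb).resolve_left hbp).resolve_left hab.symm
      rw [hsum (fun i => U i * d i) fun i hi => by simp [hi],
        hsum' (fun i => V i * d i) fun i hi => by simp [hi]] at hdeg
      have := hd p
      have := hd a
      have := hd b
      rcases up with e | e <;> rcases vp with e' | e' <;> rcases ua with f | f <;>
        rcases (bv a).resolve_left va with f' | f' <;> rcases ub with g | g <;>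
        rcases (bv b).resolve_left vb with g' | g' <;> rw [e, e', f, f', g, g'] at hUV hdeg <;> omega

/-- A signed constituent. -/
theorem term {K : ℕ} {d v σ c : ℤ} (hσ : σ = 1 ∨ σ = -1) (hd : 0 < d) (hv : v = σ * c)
    (hsq : d * d ≤ 120 * K) (hres : 8 ∣ d - v ∧ 0 ≤ d + 7 * v ∧ v < d) :
    Adm K c (σ * d) ∧ (σ : ℚ) * (v : ℚ) ^ 2 / (d : ℚ) = (c : ℚ) ^ 2 / ((σ * d : ℤ) : ℚ) := by
  obtain ⟨h1, h2, h3⟩ := hres
  subst hv
  rcases hσ with rfl | rfl
  · refine ⟨⟨by omega, by simpa using h1, fun _ => by omega, fun h => by omega, by nlinarith⟩, ?_⟩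
    push_cast; ring
  · refine ⟨⟨by omega, by omega, fun h => by omega, fun h => by omega, by nlinarith⟩, ?_⟩
    push_cast; ring

variable {K : ℕ} {o : ι} {d A X Y Z : ι → ℤ}

theorem Sys.common (H : Sys K o d A X Y Z) {h k p : ι} (hhk : h ≠ k) (hA2 : A k = -A h) (hdk : d k = d h)
    (hA0 : ∀ i, A i ≠ 0 → i = h ∨ i = k) (bAh : A h = 0 ∨ A h = 1 ∨ A h = -1) (hAh : A h ≠ 0)
    (hXhk : X h = X k) (hZhk : Z h = Z k) (hXh : X h = 0) (ep : X p = Y p) (eq : X p = Z p) (hp : X p ≠ 0)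
    (uq : ∀ i, X i ≠ 0 → Z i ≠ 0 → i = p) (onlyX : ∀ i, X i ≠ 0 → i ≠ p → Y i = 0 ∧ Z i = 0)
    (hne_o : ∀ i, X i ≠ 0 ∨ Y i ≠ 0 ∨ Z i ≠ 0 → i ≠ o) : CaseI K ∨ CaseIZ K ∨ CaseII K := by
  obtain ⟨bX, -⟩ := supp_small (n := 3) (by exact_mod_cast H.XX) le_rfl
  obtain ⟨bY, -⟩ := supp_small (n := 3) (by exact_mod_cast H.YY) le_rfl
  obtain ⟨bZ, -⟩ := supp_small (n := 3) (by exact_mod_cast H.ZZ) le_rfl
  have T : ∀ i σ c, i ≠ o → (σ = 1 ∨ σ = -1) → cv A X Y Z i = σ * c → Adm K c (σ * d i) ∧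
      (σ : ℚ) * (cv A X Y Z i : ℚ) ^ 2 / (d i : ℚ) = (c : ℚ) ^ 2 / ((σ * d i : ℤ) : ℚ) :=
    fun i σ c hi hσ hv => term hσ (H.pos i) hv (H.sq i) (H.res i hi)
  have hAX : ∀ i, X i ≠ 0 → A i = 0 := fun i hi => by
    by_contra hne
    rcases hA0 i hne with rfl | rfl
    · exact hi hXh
    · exact hi (hXhk ▸ hXh)
  have hZp : Z p ≠ 0 := eq ▸ hp
  obtain ⟨a, b, hab, hap, hbp, ha, hb, hallX, sX⟩ := split_three H.XX hp
  obtain ⟨hYa, hZa⟩ := onlyX a ha hap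
  obtain ⟨hYb, hZb⟩ := onlyX b hb hbp
  obtain ⟨Tp, Fp⟩ := T p (X p) 1 (hne_o p (Or.inl hp)) ((bX p).resolve_left hp)
    (by simp only [cv, hAX p hp, ← ep, ← eq]; ring)
  obtain ⟨Ta, Fa⟩ := T a (X a) 3 (hne_o a (Or.inl ha)) ((bX a).resolve_left ha)
    (by simp only [cv, hAX a ha, hYa, hZa]; ring)
  obtain ⟨Tb, Fb⟩ := T b (X b) 3 (hne_o b (Or.inl hb)) ((bX b).resolve_left hb)
    (by simp only [cv, hAX b hb, hYb, hZb]; ring)
  have dX := H.dX
  rw [sX (fun i => X i * d i) fun i hi => by simp [hi]] at dX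
  have eX : (K : ℚ) * (1 + 1 / ((X p * d p : ℤ) : ℚ) + 9 / ((X a * d a : ℤ) : ℚ) +
      9 / ((X b * d b : ℤ) : ℚ)) = 1200 := by
    have e := H.eX
    rw [sX (fun i => (X i : ℚ) * (cv A X Y Z i : ℚ) ^ 2 / (d i : ℚ)) fun i hi => by simp [hi], Fp, Fa, Fb] at e
    rw [← e]; push_cast; ring
  have offX : ∀ i, Z i ≠ 0 → i ≠ p → X i = 0 := fun i hi hip => by_contra fun hx => hip (uq i hx hi)
  have offY : ∀ i, Z i ≠ 0 → i ≠ p → Y i = 0 := fun i hi hip => by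
    by_contra hy
    obtain ⟨r, er, hr, ur⟩ := meet H.pos H.YY H.ZZ H.YZ (H.dY.trans H.dZ.symm)
    exact hip ((ur i hy hi).trans (ur p (ep ▸ hp) hZp).symm)
  by_cases hZh : Z h = 0
  · left
    have hAZ : ∀ i, Z i ≠ 0 → A i = 0 := fun i hi => by
      by_contra hne
      rcases hA0 i hne with rfl | rfl
      · exact hi hZh
      · exact hi (hZhk ▸ hZh)
    obtain ⟨f, g, hfg, hfp, hgp, hf, hg, -, sZ⟩ := split_three H.ZZ hZp
    obtain ⟨Tf, Ff⟩ := T f (Z f) (-5) (hne_o f (Or.inr (Or.inr hf))) ((bZ f).resolve_left hf)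
      (by simp only [cv, hAZ f hf, offX f hf hfp, offY f hf hfp]; ring)
    obtain ⟨Tg, Fg⟩ := T g (Z g) (-5) (hne_o g (Or.inr (Or.inr hg))) ((bZ g).resolve_left hg)
      (by simp only [cv, hAZ g hg, offX g hg hgp, offY g hg hgp]; ring)
    have dZ := H.dZ
    rw [sZ (fun i => Z i * d i) fun i hi => by simp [hi], ← eq] at dZ
    refine ⟨_, _, _, _, _, Tp, Ta, Tb, Tf, Tg, dX, dZ, eX, ?_⟩
    have e := H.eZ
    rw [sZ (fun i => (Z i : ℚ) * (cv A X Y Z i : ℚ) ^ 2 / (d i : ℚ)) fun i hi => by simp [hi],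
      ← eq, Fp, Ff, Fg] at e
    rw [← e]; push_cast; ring
  · right; left
    have hZk : Z k ≠ 0 := hZhk ▸ hZh
    have hhp : h ≠ p := fun e => hp (e ▸ hXh)
    have hkp : k ≠ p := fun e => hp (e ▸ hXhk ▸ hXh)
    obtain ⟨w, hwh, hwk, hw, hallZ, sZ⟩ := split_three' H.ZZ hhk hZh hZk
    obtain rfl : p = w := ((hallZ p hZp).resolve_left hhp.symm).resolve_left hkp.symm
    have σh := (bZ h).resolve_left hZh
    -- the two values on the pair
    obtain ⟨u, v, huv, hu⟩ : ∃ u v, ((u = h ∧ v = k) ∨ (u = k ∧ v = h)) ∧ A u = Z h := by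
      rcases bAh.resolve_left hAh with e | e <;> rcases σh with e' | e'
      · exact ⟨h, k, Or.inl ⟨rfl, rfl⟩, by rw [e, e']⟩
      · exact ⟨k, h, Or.inr ⟨rfl, rfl⟩, by rw [hA2, e, e']⟩
      · exact ⟨k, h, Or.inr ⟨rfl, rfl⟩, by rw [hA2, e, e']; rfl⟩
      · exact ⟨h, k, Or.inl ⟨rfl, rfl⟩, by rw [e, e']⟩
    obtain ⟨hZu, hZv, hAv, hdu, hdv, hun, hvn⟩ : Z u = Z h ∧ Z v = Z h ∧ A v = -Z h ∧ d u = d h ∧ d v = d h ∧
        u ≠ p ∧ v ≠ p := by
      rcases huv with ⟨rfl, rfl⟩ | ⟨rfl, rfl⟩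
      · exact ⟨rfl, hZhk.symm, by rw [hA2, hu], rfl, hdk, hhp, hkp⟩
      · exact ⟨hZhk.symm, rfl, by rw [← hu, hA2, neg_neg], hdk, rfl, hkp, hhp⟩
    have hu0 : Z u ≠ 0 := hZu ▸ hZh
    have hv0 : Z v ≠ 0 := hZv ▸ hZh
    obtain ⟨Tu, Fu⟩ := T u (Z h) (-1) (hne_o u (Or.inr (Or.inr hu0))) σh
      (by simp only [cv, hu, hZu, offX u hu0 hun, offY u hu0 hun]; ring)
    obtain ⟨Tv, Fv⟩ := T v (Z h) (-9) (hne_o v (Or.inr (Or.inr hv0))) σh
      (by simp only [cv, hAv, hZv, offX v hv0 hvn, offY v hv0 hvn]; ring)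
    rw [hdu] at Tu Fu
    rw [hdv] at Tv Fv
    have dZ := H.dZ
    rw [sZ (fun i => Z i * d i) fun i hi => by simp [hi], ← eq, ← hZhk, hdk] at dZ
    refine ⟨_, _, _, _, Tp, Ta, Tb, Tu, Tv, dX, (by linarith), eX, ?_⟩
    have e := H.eZ
    rw [sZ (fun i => (Z i : ℚ) * (cv A X Y Z i : ℚ) ^ 2 / (d i : ℚ)) fun i hi => by simp [hi]] at e
    rw [← eq, Fp] at e
    rcases huv with ⟨rfl, rfl⟩ | ⟨rfl, rfl⟩
    · rw [← hZhk, hdk] at e
      rw [Fu, Fv] at e
      rw [← e]; push_cast; ring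
    · rw [← hZhk, hdk] at e
      rw [Fu, Fv] at e
      rw [← e]; push_cast; ring

theorem Sys.cases (H : Sys K o d A X Y Z) : CaseI K ∨ CaseIZ K ∨ CaseII K := by
  obtain ⟨bA, cA⟩ := supp_small (n := 2) (by exact_mod_cast H.AA) (by norm_num)
  obtain ⟨h, k, hhk, hs⟩ := Finset.card_eq_two.1 cA
  have hAh : A h ≠ 0 ∧ A k ≠ 0 := by
    constructor
    · have : h ∈ Finset.univ.filter fun i => A i ≠ 0 := by rw [hs]; simp
      simpa using this
    · have : k ∈ Finset.univ.filter fun i => A i ≠ 0 := by rw [hs]; simp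
      simpa using this
  have hA0 : ∀ i, A i ≠ 0 → i = h ∨ i = k := fun i hi => by
    have : i ∈ Finset.univ.filter fun i => A i ≠ 0 := by simp [hi]
    rw [hs] at this
    simpa using this
  have hAsum : ∀ F : ι → ℤ, ∑ i, A i * F i = A h * F h + A k * F k := fun F => by
    rw [← Finset.sum_subset (Finset.subset_univ ({h, k} : Finset ι)) fun i _ hi => ?_, Finset.sum_pair hhk]
    rw [show A i = 0 from by_contra fun h0 => hi (by simpa using hA0 i h0), zero_mul]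
  have hA2 : A k = -A h := by
    have e := H.dA
    rw [hAsum] at e
    have := H.pos h
    have := H.pos k
    rcases (bA h).resolve_left hAh.1 with a | a <;> rcases (bA k).resolve_left hAh.2 with b | b <;>
      rw [a, b] at e ⊢ <;> omega
  have hdk : d k = d h := by
    have e := H.dA
    rw [hAsum, hA2] at e
    rcases (bA h).resolve_left hAh.1 with a | a <;> rw [a] at e <;> omega
  have horth : ∀ V : ι → ℤ, ∑ i, A i * V i = 0 → V h = V k := fun V e => by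
    rw [hAsum, hA2] at e
    rcases (bA h).resolve_left hAh.1 with a | a <;> rw [a] at e <;> omega
  have hXhk := horth X H.AX
  have hYhk := horth Y H.AY
  have hZhk := horth Z H.AZ
  -- where a vector misses the pair, the first vector vanishes on it
  have hplain : ∀ V : ι → ℤ, V h = V k → V h = 0 → ∀ i, V i ≠ 0 → A i = 0 := fun V e1 e2 i hi => by
    by_contra hne
    rcases hA0 i hne with rfl | rfl
    · exact hi e2
    · exact hi (e1 ▸ e2)
  obtain ⟨bX, -⟩ := supp_small (n := 3) (by exact_mod_cast H.XX) le_rfl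
  obtain ⟨bY, -⟩ := supp_small (n := 3) (by exact_mod_cast H.YY) le_rfl
  obtain ⟨bZ, -⟩ := supp_small (n := 3) (by exact_mod_cast H.ZZ) le_rfl
  obtain ⟨p, ep, hp, up⟩ := meet H.pos H.XX H.YY H.XY (H.dX.trans H.dY.symm)
  obtain ⟨q, eq, hq, uq⟩ := meet H.pos H.XX H.ZZ H.XZ (H.dX.trans H.dZ.symm)
  obtain ⟨r, er, hr, ur⟩ := meet H.pos H.YY H.ZZ H.YZ (H.dY.trans H.dZ.symm)
  have hYp : Y p ≠ 0 := ep ▸ hp
  have hZq : Z q ≠ 0 := eq ▸ hq
  have hZr : Z r ≠ 0 := er ▸ hr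
  have hne_o : ∀ i, X i ≠ 0 ∨ Y i ≠ 0 ∨ Z i ≠ 0 → i ≠ o := by
    rintro i (hi | hi | hi) rfl
    exacts [hi H.Xo, hi H.Yo, hi H.Zo]
  have T : ∀ i σ c, i ≠ o → (σ = 1 ∨ σ = -1) → cv A X Y Z i = σ * c → Adm K c (σ * d i) ∧
      (σ : ℚ) * (cv A X Y Z i : ℚ) ^ 2 / (d i : ℚ) = (c : ℚ) ^ 2 / ((σ * d i : ℤ) : ℚ) :=
    fun i σ c hi hσ hv => term hσ (H.pos i) hv (H.sq i) (H.res i hi)
  have onlyX : ∀ i, X i ≠ 0 → i ≠ p → i ≠ q → Y i = 0 ∧ Z i = 0 := fun i hi h1 h2 =>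
    ⟨by_contra fun hy => h1 (up i hi hy), by_contra fun hz => h2 (uq i hi hz)⟩
  have onlyY : ∀ i, Y i ≠ 0 → i ≠ p → i ≠ r → X i = 0 ∧ Z i = 0 := fun i hi h1 h2 =>
    ⟨by_contra fun hx => h1 (up i hx hi), by_contra fun hz => h2 (ur i hi hz)⟩
  have onlyZ : ∀ i, Z i ≠ 0 → i ≠ q → i ≠ r → X i = 0 ∧ Y i = 0 := fun i hi h1 h2 =>
    ⟨by_contra fun hx => h1 (uq i hx hi), by_contra fun hy => h2 (ur i hy hi)⟩
  by_cases hZp : Z p = 0
  · -- triangle
    right; right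
    have hpq : p ≠ q := fun e => hZq (e ▸ hZp)
    have hpr : p ≠ r := fun e => hZr (e ▸ hZp)
    have hqr : q ≠ r := fun e => hpq (up q hq (e ▸ hr)).symm
    obtain ⟨a, hap, haq, ha, hallX, sX⟩ := split_three' H.XX hpq hp hq
    obtain ⟨b, hbp, hbr, hb, hallY, sY⟩ := split_three' H.YY hpr hYp hr
    obtain ⟨c, hcq, hcr, hc, hallZ, sZ⟩ := split_three' H.ZZ hqr hZq hZr
    obtain ⟨hYa, hZa⟩ := onlyX a ha hap haq
    obtain ⟨hXb, hZb⟩ := onlyY b hb hbp hbr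
    obtain ⟨hXc, hYc⟩ := onlyZ c hc hcq hcr
    have hYq : Y q = 0 := by_contra fun hy => hpq (up q hq hy).symm
    have hXr : X r = 0 := by_contra fun hx => hpr (up r hx hr).symm
    have hXh : X h = 0 := by
      by_contra hxh
      have hxk : X k ≠ 0 := hXhk ▸ hxh
      have hh : ∀ i j, i ≠ j → X i ≠ 0 → X j ≠ 0 → (i = p → Y j ≠ 0) → (i = q → Z j ≠ 0) → i = a := by
        intro i j hij hi hj h1 h2
        rcases hallX i hi with e | e | e
        · exact absurd (e.trans (up j hj (h1 e)).symm) hij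
        · exact absurd (e.trans (uq j hj (h2 e)).symm) hij
        · exact e
      exact hhk ((hh h k hhk hxh hxk (fun e => hYhk ▸ e ▸ hYp) fun e => hZhk ▸ e ▸ hZq).trans
        (hh k h hhk.symm hxk hxh (fun e => hYhk.symm ▸ e ▸ hYp) fun e => hZhk.symm ▸ e ▸ hZq).symm)
    have hYh : Y h = 0 := by
      by_contra hyh
      have hyk : Y k ≠ 0 := hYhk ▸ hyh
      have hh : ∀ i j, i ≠ j → Y i ≠ 0 → Y j ≠ 0 → (i = p → X j ≠ 0) → (i = r → Z j ≠ 0) → i = b := by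
        intro i j hij hi hj h1 h2
        rcases hallY i hi with e | e | e
        · exact absurd (e.trans (up j (h1 e) hj).symm) hij
        · exact absurd (e.trans (ur j hj (h2 e)).symm) hij
        · exact e
      exact hhk ((hh h k hhk hyh hyk (fun e => hXhk ▸ e ▸ hp) fun e => hZhk ▸ e ▸ hZr).trans
        (hh k h hhk.symm hyk hyh (fun e => hXhk.symm ▸ e ▸ hp) fun e => hZhk.symm ▸ e ▸ hZr).symm)
    have hZh : Z h = 0 := by
      by_contra hzh
      have hzk : Z k ≠ 0 := hZhk ▸ hzh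
      have hh : ∀ i j, i ≠ j → Z i ≠ 0 → Z j ≠ 0 → (i = q → X j ≠ 0) → (i = r → Y j ≠ 0) → i = c := by
        intro i j hij hi hj h1 h2
        rcases hallZ i hi with e | e | e
        · exact absurd (e.trans (uq j (h1 e) hj).symm) hij
        · exact absurd (e.trans (ur j (h2 e) hj).symm) hij
        · exact e
      exact hhk ((hh h k hhk hzh hzk (fun e => hXhk ▸ e ▸ hq) fun e => hYhk ▸ e ▸ hr).trans
        (hh k h hhk.symm hzk hzh (fun e => hXhk.symm ▸ e ▸ hq) fun e => hYhk.symm ▸ e ▸ hr).symm)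
    obtain ⟨Tp, Fp⟩ := T p (X p) 6 (hne_o p (Or.inl hp)) ((bX p).resolve_left hp)
      (by simp only [cv, hplain X hXhk hXh p hp, ← ep, hZp]; ring)
    obtain ⟨Tq, Fq⟩ := T q (X q) (-2) (hne_o q (Or.inl hq)) ((bX q).resolve_left hq)
      (by simp only [cv, hplain X hXhk hXh q hq, hYq, ← eq]; ring)
    obtain ⟨Tr, Fr⟩ := T r (Y r) (-2) (hne_o r (Or.inr (Or.inl hr))) ((bY r).resolve_left hr)
      (by simp only [cv, hplain Y hYhk hYh r hr, hXr, ← er]; ring)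
    obtain ⟨Ta, Fa⟩ := T a (X a) 3 (hne_o a (Or.inl ha)) ((bX a).resolve_left ha)
      (by simp only [cv, hplain X hXhk hXh a ha, hYa, hZa]; ring)
    obtain ⟨Tb, Fb⟩ := T b (Y b) 3 (hne_o b (Or.inr (Or.inl hb))) ((bY b).resolve_left hb)
      (by simp only [cv, hplain Y hYhk hYh b hb, hXb, hZb]; ring)
    obtain ⟨Tc, Fc⟩ := T c (Z c) (-5) (hne_o c (Or.inr (Or.inr hc))) ((bZ c).resolve_left hc)
      (by simp only [cv, hplain Z hZhk hZh c hc, hXc, hYc]; ring)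
    have dX := H.dX
    have dY := H.dY
    have dZ := H.dZ
    rw [sX (fun i => X i * d i) fun i hi => by simp [hi]] at dX
    rw [sY (fun i => Y i * d i) fun i hi => by simp [hi], ← ep] at dY
    rw [sZ (fun i => Z i * d i) fun i hi => by simp [hi], ← eq, ← er] at dZ
    refine ⟨_, _, _, _, _, _, Tp, Tq, Tr, Ta, Tb, Tc, dX, dY, dZ, ?_, ?_, ?_⟩
    · have e := H.eX
      rw [sX (fun i => (X i : ℚ) * (cv A X Y Z i : ℚ) ^ 2 / (d i : ℚ)) fun i hi => by simp [hi],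
        Fp, Fq, Fa] at e
      rw [← e]; push_cast; ring
    · have e := H.eY
      rw [sY (fun i => (Y i : ℚ) * (cv A X Y Z i : ℚ) ^ 2 / (d i : ℚ)) fun i hi => by simp [hi],
        ← ep, Fp, Fr, Fb] at e
      rw [← e]; push_cast; ring
    · have e := H.eZ
      rw [sZ (fun i => (Z i : ℚ) * (cv A X Y Z i : ℚ) ^ 2 / (d i : ℚ)) fun i hi => by simp [hi],
        ← eq, Fq, ← er, Fr, Fc] at e
      rw [← e]; push_cast; ring
  · -- common point
    obtain rfl : p = q := uq p hp hZp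
    obtain rfl : p = r := ur p hYp hZp
    by_cases hXh : X h = 0
    · exact H.common hhk hA2 hdk hA0 (bA h) hAh.1 hXhk hZhk hXh ep eq hp uq
        (fun i hi hip => onlyX i hi hip hip) hne_o
    · have hYh : Y h = 0 := by
        by_contra hyh
        exact hhk ((up h hXh hyh).trans (up k (hXhk ▸ hXh) (hYhk ▸ hyh)).symm)
      exact H.swap.common hhk hA2 hdk hA0 (bA h) hAh.1 hYhk hZhk hYh ep.symm er hYp ur
        (fun i hi hip => onlyY i hi hip hip) (fun i hi => hne_o i (hi.elim (fun h => Or.inr (Or.inl h)) fun h =>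
          h.elim Or.inl fun h => Or.inr (Or.inr h)))

end Cfsg.Agent.JOneRecog.Comb
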