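import Mathlib

/-!
A group of odd order with two commuting automorphisms of order two, one of which fixes exactly a central subgroup
inverted by the other.
-/

set_option autoImplicit false
set_option linter.all false

namespace Cfsg.Agent.JOneRecog

open scoped Classical

variable {K : Type*} [Group K] [Finite K]

theorem eq_one_of_sq_one (hodd : Odd (Nat.card K)) {x : K} (h : x * x = 1) : x = 1 := by
  have h2 : orderOf x ∣ 2 := orderOf_dvd_of_pow_eq_one (by rw [pow_two, h])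
  rcases (Nat.dvd_prime Nat.prime_two).1 h2 with e | e
  · exact orderOf_eq_one_iff.1 e
  · exact absurd (e ▸ orderOf_dvd_natCard x) (fun hd => (Nat.not_even_iff_odd.2 hodd) (even_iff_two_dvd.2 hd))

/-- The hypotheses. -/
structure FourAct (Z : Subgroup K) (τ σ : K ≃* K) : Prop where
  odd : Odd (Nat.card K)
  tt : ∀ k, τ (τ k) = k
  ss : ∀ k, σ (σ k) = k
  comm : ∀ k, σ (τ k) = τ (σ k)
  fix : ∀ k, τ k = k ↔ k ∈ Z
  central : ∀ z ∈ Z, ∀ k, k * z = z * k
  inv : ∀ z ∈ Z, σ z = z⁻¹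

theorem mmmc {M : Type*} [Group M] {a b c d : M} (e : Commute b c) : a * b * (c * d) = a * c * (b * d) := by
  rw [mul_assoc, ← mul_assoc b, e.eq]; group

namespace FourAct

variable {Z : Subgroup K} {τ σ : K ≃* K} (h : FourAct Z τ σ)
include h

theorem normal : Z.Normal := ⟨fun z hz g => by rw [h.central z hz, mul_inv_cancel_right]; exact hz⟩

theorem map_Z {z : K} (hz : z ∈ Z) : τ z = z := (h.fix z).2 hz

/-- The automorphism inverts modulo the fixed subgroup and the quotient is abelian. -/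
theorem mod_Z : (∀ k, k * τ k ∈ Z) ∧ ∀ a b : K, (a * b)⁻¹ * (b * a) ∈ Z := by
  haveI := h.normal
  let f : K ⧸ Z →* K ⧸ Z := QuotientGroup.map Z Z τ.toMonoidHom (fun z hz => by
    show τ z ∈ Z
    rw [h.map_Z hz]; exact hz)
  have hfp : MonoidHom.FixedPointFree f := by
    intro q
    induction q using QuotientGroup.induction_on with
    | _ k =>
      intro hq
      have hz : k⁻¹ * τ k ∈ Z := QuotientGroup.eq.1 (hq.symm)
      have h1 := h.map_Z hz
      rw [map_mul, map_inv, h.tt] at h1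
      have h2 : (k⁻¹ * τ k) * (k⁻¹ * τ k) = 1 := by
        nth_rewrite 2 [← h1]; group
      have h3 : k⁻¹ * τ k = 1 := eq_one_of_sq_one h.odd h2
      exact (QuotientGroup.eq_one_iff k).2 ((h.fix k).1 (by rw [inv_mul_eq_one] at h3; exact h3.symm))
  have hinv : Function.Involutive f := by
    intro q
    induction q using QuotientGroup.induction_on with
    | _ k => exact congrArg QuotientGroup.mk (h.tt k)
  refine ⟨fun k => ?_, fun a b => ?_⟩
  · have e : f (k : K ⧸ Z) = (k : K ⧸ Z)⁻¹ := congrFun (hfp.coe_eq_inv_of_involutive hinv) _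
    rw [← QuotientGroup.eq_one_iff, QuotientGroup.mk_mul]
    rw [show ((τ k : K) : K ⧸ Z) = f k from rfl, e, mul_inv_cancel]
  · exact QuotientGroup.eq.1 (hfp.commute_all_of_involutive hinv (a : K ⧸ Z) (b : K ⧸ Z)).eq

/-- The fixed points of `σ` are inverted by `τ`. -/
theorem inv_A {a : K} (ha : σ a = a) : τ a = a⁻¹ := by
  have hz := h.mod_Z.1 a
  have h1 := h.inv _ hz
  rw [map_mul, h.comm, ha] at h1
  have : a * τ a = 1 := eq_one_of_sq_one h.odd (by nth_rewrite 2 [h1]; rw [mul_inv_cancel])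
  exact eq_inv_of_mul_eq_one_right this

theorem inv_B {b : K} (hb : σ (τ b) = b) : τ b = b⁻¹ := by
  have hz := h.mod_Z.1 b
  have h1 := h.inv _ hz
  rw [map_mul, hb] at h1
  have e : σ b = τ b := by
    have := congrArg σ hb
    rw [h.ss] at this
    exact this.symm
  rw [e] at h1
  have hc : τ b * b = b * τ b := by
    have h2 := h.central _ hz b
    calc τ b * b = b⁻¹ * ((b * τ b) * b) := by group
      _ = b⁻¹ * (b * (b * τ b)) := by rw [← h2]
      _ = b * τ b := by group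
  rw [hc] at h1
  exact eq_inv_of_mul_eq_one_right (eq_one_of_sq_one h.odd (by nth_rewrite 2 [h1]; rw [mul_inv_cancel]))

/-- The order of the group. -/
theorem card_eq : Nat.card K = Nat.card Z * Nat.card {k : K // σ k = k} * Nat.card {k : K // σ (τ k) = k} := by
  haveI := h.normal
  obtain ⟨n, hn⟩ := h.odd
  have hpow : ∀ x : K, x ^ (2 * (n + 1)) = x := fun x => by
    rw [show 2 * (n + 1) = Nat.card K + 1 by omega, pow_succ, pow_card_eq_one', one_mul]
  have hab : ∀ x y : K ⧸ Z, Commute x y := by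
    intro x y
    induction x using QuotientGroup.induction_on with
    | _ a =>
      induction y using QuotientGroup.induction_on with
      | _ b => exact QuotientGroup.eq.2 (h.mod_Z.2 a b)
  have hs : ∀ x y : K, (x : K ⧸ Z) = y → ((σ x : K) : K ⧸ Z) = σ y := fun x y e => by
    rw [QuotientGroup.eq] at e ⊢
    rw [← map_inv, ← map_mul, h.inv _ e]
    exact inv_mem e
  -- lifting fixed points
  have hlift : ∀ ρ : K ≃* K, (∀ k, ρ (ρ k) = k) → (∀ z ∈ Z, ρ z = z⁻¹) → ∀ k : K,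
      ∃ a, ρ a = a ∧ (a : K ⧸ Z) = ((k : K ⧸ Z) * (ρ k : K)) ^ (n + 1) := by
    intro ρ hρ hρz k
    set c := (k * ρ k) ^ (n + 1) with hc
    have hcz : c⁻¹ * ρ c ∈ Z := by
      rw [← QuotientGroup.eq, hc, map_pow, map_mul, hρ, QuotientGroup.mk_pow, QuotientGroup.mk_pow,
        QuotientGroup.mk_mul, QuotientGroup.mk_mul, (hab _ _).eq]
    set z0 := c⁻¹ * ρ c with hz0
    refine ⟨c * z0 ^ (n + 1), ?_, ?_⟩
    · rw [map_mul, show ρ c = c * z0 by rw [hz0, mul_inv_cancel_left], map_pow, hρz _ hcz, mul_assoc]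
      congr 1
      have h2 := hpow z0
      rw [pow_mul, pow_two] at h2
      rw [inv_pow]
      calc z0 * (z0 ^ (n + 1))⁻¹ = (z0 ^ 2) ^ (n + 1) * (z0 ^ (n + 1))⁻¹ := by rw [← pow_mul, hpow]
        _ = z0 ^ (n + 1) := by rw [← pow_mul, two_mul, pow_add, mul_inv_cancel_right]
    · rw [QuotientGroup.mk_mul, (QuotientGroup.eq_one_iff (z0 ^ (n + 1))).2 (pow_mem hcz _), mul_one, hc,
        QuotientGroup.mk_pow, QuotientGroup.mk_mul]
  rw [← Nat.card_prod, ← Nat.card_prod]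
  refine (Nat.card_congr (Equiv.ofBijective (fun p => (p.1.1 : K) * p.1.2.1 * p.2.1) ⟨?_, ?_⟩)).symm
  · rintro ⟨⟨⟨z, hz⟩, ⟨a, ha⟩⟩, ⟨b, hb⟩⟩ ⟨⟨⟨z', hz'⟩, ⟨a', ha'⟩⟩, ⟨b', hb'⟩⟩ e
    simp only at e
    have e0 : ((a * b : K) : K ⧸ Z) = ((a' * b' : K) : K ⧸ Z) := by
      have := congrArg (QuotientGroup.mk (s := Z)) e
      simpa [QuotientGroup.mk_mul, (QuotientGroup.eq_one_iff _).2 hz, (QuotientGroup.eq_one_iff _).2 hz'] using this
    have sb : ∀ {b : K}, σ (τ b) = b → σ b = b⁻¹ := fun {b} hb => by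
      rw [← h.inv_B hb]
      have := congrArg σ hb
      rw [h.ss] at this
      exact this.symm
    have e1 := hs _ _ e0
    rw [map_mul, map_mul, ha, ha', sb hb, sb hb'] at e1
    simp only [QuotientGroup.mk_mul, QuotientGroup.mk_inv] at e0 e1
    have e2 : ((a : K ⧸ Z)) * a = (a' : K ⧸ Z) * a' := by
      calc (a : K ⧸ Z) * a = ((a : K ⧸ Z) * b) * ((a : K ⧸ Z) * (b : K ⧸ Z)⁻¹) := by
            rw [mmmc (hab _ _), mul_inv_cancel, mul_one]
        _ = ((a' : K ⧸ Z) * b') * ((a' : K ⧸ Z) * (b' : K ⧸ Z)⁻¹) := by rw [e0, e1]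
        _ = (a' : K ⧸ Z) * a' := by rw [mmmc (hab _ _), mul_inv_cancel, mul_one]
    have e3 : (a : K ⧸ Z) = a' := by
      have h3 : ∀ x : K, ((x : K ⧸ Z) * x) ^ (n + 1) = x := fun x => by
        rw [← pow_two, ← pow_mul, ← QuotientGroup.mk_pow, hpow]
      rw [← h3 a, e2, h3 a']
    have haa : a = a' := by
      have hz0 := QuotientGroup.eq.1 e3
      have h4 := h.inv _ hz0
      rw [map_mul, map_inv, ha, ha'] at h4
      exact inv_mul_eq_one.1 (eq_one_of_sq_one h.odd (by nth_rewrite 2 [h4]; rw [mul_inv_cancel]))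
    subst haa
    have hbb : b = b' := by
      have hz0 : b⁻¹ * b' ∈ Z := QuotientGroup.eq.1 (mul_left_cancel e0)
      have h4 := h.map_Z hz0
      have h5 : τ (b⁻¹ * b') = b * b'⁻¹ := by rw [map_mul, map_inv, h.inv_B hb, h.inv_B hb', inv_inv]
      rw [h5] at h4
      have hc : b * b'⁻¹ = (b⁻¹ * b')⁻¹ := by
        rw [mul_inv_rev, inv_inv]
        have h6 := h.central _ hz0 b
        calc b * b'⁻¹ = b * (b⁻¹ * b')⁻¹ * b⁻¹ := by group
          _ = ((b⁻¹ * b') * b⁻¹)⁻¹ * b⁻¹ := by group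
          _ = (b'⁻¹ * b) := by
            have h7 := h.central _ (inv_mem hz0) b
            calc ((b⁻¹ * b') * b⁻¹)⁻¹ * b⁻¹ = b * (b⁻¹ * b')⁻¹ * b⁻¹ := by group
              _ = (b⁻¹ * b')⁻¹ * b * b⁻¹ := by rw [h7]
              _ = b'⁻¹ * b := by group
      rw [hc] at h4
      exact inv_mul_eq_one.1 (eq_one_of_sq_one h.odd (by nth_rewrite 1 [← h4]; rw [inv_mul_cancel]))
    subst hbb
    have : z = z' := mul_right_cancel (mul_right_cancel e)
    subst this
    rfl
  · intro k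
    obtain ⟨a, ha, hak⟩ := hlift σ h.ss h.inv k
    obtain ⟨b, hb, hbk⟩ := hlift (τ.trans σ) (fun x => by
      show σ (τ (σ (τ x))) = x
      rw [← h.comm, h.tt, h.ss]) (fun z hz => by
      show σ (τ z) = z⁻¹
      rw [h.map_Z hz, h.inv z hz]) k
    have hq : ((σ (τ k) : K) : K ⧸ Z) = ((σ k : K) : K ⧸ Z)⁻¹ := by
      have : ((τ k : K) : K ⧸ Z) = ((k⁻¹ : K) : K ⧸ Z) := by
        rw [QuotientGroup.mk_inv, eq_inv_iff_mul_eq_one, (hab _ _).eq, ← QuotientGroup.mk_mul,
          QuotientGroup.eq_one_iff]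
        exact h.mod_Z.1 k
      rw [hs _ _ this, map_inv, QuotientGroup.mk_inv]
    have hz : k * (a * b)⁻¹ ∈ Z := by
      rw [← QuotientGroup.eq_one_iff, QuotientGroup.mk_mul, QuotientGroup.mk_inv, QuotientGroup.mk_mul, hak, hbk,
        show ((τ.trans σ) k : K) = σ (τ k) from rfl, hq, ← (hab _ _).mul_pow,
        mmmc (hab _ _), mul_inv_cancel, mul_one, ← pow_two, ← pow_mul, ← QuotientGroup.mk_pow,
        hpow, mul_inv_cancel]
    exact ⟨⟨⟨⟨_, hz⟩, ⟨a, ha⟩⟩, ⟨b, hb⟩⟩, by simp [mul_assoc]⟩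

end FourAct

end Cfsg.Agent.JOneRecog
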