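import Cfsg.Agent.JOneRecog.Local
import Cfsg.Agent.JOneRecog.Cert.Rels

/-!
The letters inside the model, and the finite checks on them.
-/

set_option autoImplicit false
set_option maxRecDepth 100000
set_option synthInstance.maxSize 10000
set_option synthInstance.maxHeartbeats 1000000
set_option linter.all false

namespace Cfsg.Agent.JOneRecog

open Equiv

/-- The letters of the centraliser. -/
def mv : ℕ → M0
  | 0 => zM
  | 1 => (1, vA)
  | 2 => (1, uA)
  | 3 => (1, rA)
  | 4 => (1, rA)⁻¹
  | 5 => (1, hA)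
  | 6 => (1, hA)⁻¹
  | _ => 1

/-- The value of a word. -/
def mw (w : List ℕ) : M0 := (w.map mv).prod

theorem mv_invL : ∀ n, n < 7 → mv (Cert.invL n) = (mv n)⁻¹ := by decide +kernel

theorem centRels_ok : (Cert.centRels.all fun w => decide (mw w = 1) && w.all fun x => decide (x < 7)) = true := by
  decide +kernel

theorem centWords_ok : (elsL.all fun q => Cert.centWords.any fun w =>
    decide (toQ (mw w) = q) && w.all fun x => decide (x ∈ [0, 1, 2, 5, 6, 3, 4])) = true := by decide +kernel

/-- The element conjugating the second frame to the first. -/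
def cM : M0 := (1, ⟨swap 0 4 * swap 4 1, Perm.mem_alternatingGroup.2 (by decide)⟩)

theorem frame_ok : cM * (1, bh) * cM⁻¹ = vM (0, 1, 0) ∧ cM * (zM * (1, bh)) * cM⁻¹ = vM (1, 1, 0) ∧
    ((cM * (1, hA) * cM⁻¹) ^ 2 = mw [2, 5] ∨ (cM * (1, hA) * cM⁻¹) ^ 3 = mw [2, 5]) := by decide +kernel

/-- An element inverted by an involution is one of four. -/
def fourCases (p : V3) (a b : List ℕ) : Bool :=
  elsL.all fun q => decide (qmul q (qmul q q) = qone → q ≠ qone → qmul (toQ (vM p)) q = qmul (qmul q q) (toQ (vM p)) →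
    q = toQ (mw a) ∨ q = toQ (mw a * mw a) ∨ q = toQ (mw b) ∨ q = toQ (mw b * mw b))

theorem four_v : fourCases (1, 1, 1) [3, 6] [1, 6, 4] = true := by decide +kernel

theorem four_tv : fourCases (0, 0, 1) [1, 5] [1, 6] = true := by decide +kernel

theorem four_spec {p : V3} {a b : List ℕ} (h : fourCases p a b = true) {m : M0} (h3 : m * (m * m) = 1) (h1 : m ≠ 1)
    (hinv : vM p * m = m * m * vM p) : m = mw a ∨ m = mw a * mw a ∨ m = mw b ∨ m = mw b * mw b := by
  have h' := of_decide_eq_true (List.all_eq_true.1 h _ (mem_els.1 (toQ_mem m)))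
    (by rw [← toQ_mul, ← toQ_mul, h3, toQ_one]) (fun e => h1 (toQ_injective (e.trans toQ_one.symm)))
    (by rw [← toQ_mul, ← toQ_mul, ← toQ_mul, hinv])
  rcases h' with e | e | e | e <;> simp [toQ_injective e]

theorem closure_letters (K : Subgroup M0) (h : ∀ n, n < 7 → mv n ∈ K) (m : M0) : m ∈ K := by
  obtain ⟨w, -, hw⟩ := List.any_eq_true.1 (List.all_eq_true.1 centWords_ok _ (mem_els.1 (toQ_mem m)))
  simp only [Bool.and_eq_true, decide_eq_true_eq, List.all_eq_true] at hw
  rw [← toQ_injective hw.1]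
  refine K.list_prod_mem fun y hy => ?_
  obtain ⟨x, hx, rfl⟩ := List.mem_map.1 hy
  refine h x ?_
  have := hw.2 x hx
  simp only [List.mem_cons, List.not_mem_nil, or_false] at this
  omega

end Cfsg.Agent.JOneRecog
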