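import Cfsg.Agent.JOneRecog.Basic

/-!
The element of order seven normalising the Sylow 2-subgroup.
-/

set_option autoImplicit false
set_option maxRecDepth 100000
set_option synthInstance.maxSize 10000
set_option synthInstance.maxHeartbeats 1000000
set_option linter.all false

namespace Cfsg.Agent.JOneRecog

open Equiv

/-- The linear map with given images of the basis. -/
def lin3 (x y z w : V3) : V3 :=
  (if w.1 = 0 then 0 else x) + (if w.2.1 = 0 then 0 else y) + (if w.2.2 = 0 then 0 else z)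

/-- The map of order seven. -/
def gam (w : V3) : V3 := (w.2.1, w.2.2, w.1 + w.2.1)

/-- The action of the element of order three. -/
def rho (w : V3) : V3 := (w.1, w.2.1 + w.2.2, w.2.1)

/-- Its inverse. -/
def rho2 (w : V3) : V3 := rho (rho w)

/-- Iteration. -/
def itV (f : V3 → V3) : ℕ → V3 → V3
  | 0, w => w
  | n + 1, w => f (itV f n w)

/-- The standard basis. -/
def basisV : List V3 := [(1, 0, 0), (0, 1, 0), (0, 0, 1)]

theorem gam_unique : ∀ x y z : V3, ∀ k : Fin 7,
    (basisV.all fun w => decide (itV (lin3 x y z) 7 w = w)) = true → x ≠ (1, 0, 0) →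
    (basisV.all fun w => decide (rho (lin3 x y z (rho2 w)) = itV (lin3 x y z) k w)) = true →
    k = 4 ∨ (k = 2 ∧ ∃ j : Fin 7, (basisV.all fun w => decide (itV (lin3 x y z) j w = gam w)) = true) := by
  decide +kernel

theorem rA_conj : ∀ w : V3, ((1, rA) : M0) * vM w = vM (rho w) * (1, rA) := by decide +kernel

theorem rho_cube : ∀ w : V3, rho (rho2 w) = w := by decide +kernel

theorem basis_eq {f h : V3 → V3} (hf : ∀ a b, f (a + b) = f a + f b) (hh : ∀ a b, h (a + b) = h a + h b)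
    (hb : (basisV.all fun w => decide (f w = h w)) = true) (w : V3) : f w = h w := by
  simp only [basisV, List.all_cons, List.all_nil, Bool.and_eq_true, decide_eq_true_eq, and_true] at hb
  obtain ⟨h1, h2, h3⟩ := hb
  have hf0 : f 0 = 0 := by have := hf 0 0; rw [add_zero] at this; exact left_eq_add.1 this
  have hh0 : h 0 = 0 := by have := hh 0 0; rw [add_zero] at this; exact left_eq_add.1 this
  rcases (by decide +kernel : ∀ w : V3, w = 0 ∨ w = (1, 0, 0) ∨ w = (0, 1, 0) ∨ w = (0, 0, 1) ∨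
    w = (1, 0, 0) + (0, 1, 0) ∨ w = (1, 0, 0) + (0, 0, 1) ∨ w = (0, 1, 0) + (0, 0, 1) ∨
    w = (1, 0, 0) + (0, 1, 0) + (0, 0, 1)) w with rfl | rfl | rfl | rfl | rfl | rfl | rfl | rfl
  all_goals simp only [hf, hh, h1, h2, h3, hf0, hh0]

/-- Conjugation by a transposition. -/
def sigA : A5 ≃* A5 where
  toFun g := ⟨swap 0 1 * g.1 * swap 0 1, Perm.mem_alternatingGroup.2 (by
    rw [map_mul, map_mul, Perm.mem_alternatingGroup.1 g.2, Perm.sign_swap (by decide), mul_one]
    rfl)⟩
  invFun g := ⟨swap 0 1 * g.1 * swap 0 1, Perm.mem_alternatingGroup.2 (by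
    rw [map_mul, map_mul, Perm.mem_alternatingGroup.1 g.2, Perm.sign_swap (by decide), mul_one]
    rfl)⟩
  left_inv g := Subtype.ext (by simp [mul_assoc])
  right_inv g := Subtype.ext (by simp [mul_assoc])
  map_mul' a b := Subtype.ext (by simp [mul_assoc])

/-- The automorphism of the model inverting the element of order three. -/
def sigM : M0 ≃* M0 := MulEquiv.prodCongr (MulEquiv.refl _) sigA

theorem sig_rA : sigM.symm (1, rA) * (1, rA) = 1 := by decide +kernel

theorem sig_vM : ∀ w : V3, sigM.symm (vM w) = vM (w.1, w.2.1 + w.2.2, w.2.2) := by decide +kernel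

/-- Tuples normalising the Sylow subgroup of the model. -/
def normQ (q : Q) : Bool :=
  (List.finRange 8).all fun i => (List.finRange 8).any fun j =>
    let w : Fin 8 → V3 := ![0, (1, 0, 0), (0, 1, 0), (0, 0, 1), (1, 1, 0), (1, 0, 1), (0, 1, 1), (1, 1, 1)]
    qmul q (toQ (vM (w i))) == qmul (toQ (vM (w j))) q

theorem normQ_count : (elsL.filter normQ).length = 24 := by decide +kernel

theorem V3_surj : ∀ w : V3, ∃ i : Fin 8,
    (![0, (1, 0, 0), (0, 1, 0), (0, 0, 1), (1, 1, 0), (1, 0, 1), (0, 1, 1), (1, 1, 1)] : Fin 8 → V3) i = w := by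
  decide +kernel

theorem normQ_iff (m : M0) : normQ (toQ m) = true ↔ ∀ w, ∃ w', m * vM w = vM w' * m := by
  simp only [normQ, List.all_eq_true, List.any_eq_true, List.mem_finRange, true_and, forall_const, beq_iff_eq,
    ← toQ_mul, toQ_injective.eq_iff]
  constructor
  · intro h w
    obtain ⟨i, rfl⟩ := V3_surj w
    obtain ⟨j, hj⟩ := h i
    exact ⟨_, hj⟩
  · intro h i
    obtain ⟨w', hw'⟩ := h _
    obtain ⟨j, rfl⟩ := V3_surj w'
    exact ⟨j, hw'⟩

theorem elsL_nodup : elsL.Nodup := by decide +kernel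

theorem card_mem_list {α : Type} [DecidableEq α] (l : List α) (hn : l.Nodup) :
    Nat.card {q // q ∈ l} = l.length := by
  rw [← List.toFinset_card_of_nodup hn, Nat.card_congr (Equiv.subtypeEquivRight fun q => List.mem_toFinset.symm)]
  exact Nat.card_eq_fintype_card.trans (Fintype.card_coe _)

namespace JD

variable {G : Type*} [Group G] (D : JD G)

/-- The same group with the model turned by the transposition. -/
def twist : JD G where
  t := D.t
  e := D.e.trans sigM
  ht := D.ht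
  h8 := D.h8

theorem twist_emb (m : M0) : D.twist.emb m = D.emb (sigM.symm m) := rfl

theorem twist_r : D.twist.emb (1, rA) = (D.emb (1, rA))⁻¹ := by
  refine eq_inv_of_mul_eq_one_left ?_
  rw [twist_emb, ← map_mul, sig_rA, map_one]

theorem twist_sv (w : V3) : D.twist.sv w = D.sv (w.1, w.2.1 + w.2.2, w.2.2) := by
  rw [sv, twist_emb, sig_vM]; rfl

theorem r_sv (w : V3) : D.emb (1, rA) * D.sv w * (D.emb (1, rA))⁻¹ = D.sv (rho w) := by
  rw [mul_inv_eq_iff_eq_mul, sv, sv, ← map_mul, ← map_mul, rA_conj]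

theorem r_inv_sv (w : V3) : (D.emb (1, rA))⁻¹ * D.sv w * D.emb (1, rA) = D.sv (rho2 w) := by
  conv_lhs => rw [← rho_cube w, ← D.r_sv]
  group

variable [Finite G]

/-- Recognising the exponent. -/
theorem core {g : G} (h7 : g ^ 7 = 1) (hg : g ≠ 1) (hN : ∀ w, ∃ w', g * D.sv w * g⁻¹ = D.sv w') (k : Fin 7)
    (hk : D.emb (1, rA) * g * (D.emb (1, rA))⁻¹ = g ^ (k : ℕ)) :
    k = 4 ∨ (k = 2 ∧ ∃ j : ℕ, ∀ w, g ^ j * D.sv w * (g ^ j)⁻¹ = D.sv (gam w)) := by
  choose f hf using hN
  have hadd : ∀ a b, f (a + b) = f a + f b := fun a b => D.sv_inj (by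
    rw [← hf, D.sv_add, D.sv_add, ← hf, ← hf]; group)
  have hlin : ∀ w, f w = lin3 (f (1, 0, 0)) (f (0, 1, 0)) (f (0, 0, 1)) w := by
    refine basis_eq hadd (fun a b => ?_) ?_
    · have hz : ∀ (x : V3) (p q : ZMod 2),
          (if p + q = 0 then 0 else x) = (if p = 0 then 0 else x) + (if q = 0 then 0 else x) := fun x p q => by
        rcases (by decide : ∀ z : ZMod 2, z = 0 ∨ z = 1) p with rfl | rfl <;>
          rcases (by decide : ∀ z : ZMod 2, z = 0 ∨ z = 1) q with rfl | rfl <;>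
          simp [(by decide : (1 : ZMod 2) + 1 = 0), (by decide +kernel : ∀ x : V3, x + x = 0) x]
      simp only [lin3, Prod.fst_add, Prod.snd_add, hz]
      abel
    · simp [basisV, lin3]
  have hit : ∀ (n : ℕ) (w : V3),
      g ^ n * D.sv w * (g ^ n)⁻¹ = D.sv (itV (lin3 (f (1, 0, 0)) (f (0, 1, 0)) (f (0, 0, 1))) n w) := by
    intro n
    induction n with
    | zero => intro w; simp [itV]
    | succ n ih =>
      intro w
      rw [itV, ← hlin, ← hf, ← ih, pow_succ']
      group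
  have hne : f (1, 0, 0) ≠ (1, 0, 0) := by
    intro e
    have hc : g * D.t = D.t * g := by
      have := hf (1, 0, 0)
      rw [e, D.sv_t] at this
      exact mul_inv_eq_iff_eq_mul.1 this
    obtain ⟨m, hm⟩ := D.exists_emb hc
    have ho : orderOf g = 7 := orderOf_eq_prime (hp := ⟨by norm_num⟩) h7 hg
    have h : orderOf m ∣ 120 := card_M0 ▸ orderOf_dvd_natCard m
    rw [← orderOf_injective D.emb D.emb_injective m, hm, ho] at h
    norm_num at h
  have hall := gam_unique (f (1, 0, 0)) (f (0, 1, 0)) (f (0, 0, 1)) k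
    (List.all_eq_true.2 fun w _ => decide_eq_true (D.sv_inj (by rw [← hit, h7]; group)))
    hne
    (List.all_eq_true.2 fun w _ => decide_eq_true (D.sv_inj (by
      rw [← hit, ← hlin, ← D.r_sv, ← hf, ← D.r_inv_sv, ← hk]
      group)))
  rcases hall with h | ⟨h, j, hj⟩
  · exact Or.inl h
  refine Or.inr ⟨h, j, fun w => ?_⟩
  rw [hit]
  refine congrArg D.sv (basis_eq (fun a b => D.sv_inj ?_) (fun a b => ?_) hj w)
  · rw [← hit, D.sv_add, D.sv_add, ← hit, ← hit]; group
  · exact (by decide +kernel : ∀ a b : V3, gam (a + b) = gam a + gam b) a b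

variable [IsSimpleGroup G]

theorem card_N : Nat.card (Subgroup.normalizer ((D.S : Subgroup G) : Set G)) = 168 := by
  classical
  set N := Subgroup.normalizer ((D.S : Subgroup G) : Set G) with hNdef
  set K := (Subgroup.centralizer ({D.t} : Set G)).subgroupOf N with hK
  have hex : ∀ n : N, ∃ w : {w : V3 // w ≠ 0}, (n : G) * D.t * (n : G)⁻¹ = D.sv w.1 := fun n => by
    obtain ⟨w, hw⟩ := D.mem_N n.2 (1, 0, 0)
    rw [D.sv_t] at hw
    refine ⟨⟨w, ?_⟩, hw⟩
    rintro rfl
    rw [D.sv_zero] at hw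
    exact D.t_ne (conj_eq_one_iff.1 hw)
  choose F hF using hex
  have hFeq : ∀ a b : N, F a = F b ↔ a⁻¹ * b ∈ K := fun a b => by
    rw [hK, Subgroup.mem_subgroupOf, Subgroup.mem_centralizer_singleton_iff, Subgroup.coe_mul, InvMemClass.coe_inv]
    constructor
    · intro e
      have h1 : (a : G) * D.t * (a : G)⁻¹ = b * D.t * (b : G)⁻¹ := by rw [hF, hF, e]
      calc (a : G)⁻¹ * b * D.t = (a : G)⁻¹ * (b * D.t * (b : G)⁻¹) * b := by group
        _ = D.t * ((a : G)⁻¹ * b) := by rw [← h1]; group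
    · intro e
      refine Subtype.ext (D.sv_inj ?_)
      rw [← hF, ← hF]
      calc (a : G) * D.t * (a : G)⁻¹ = a * (D.t * ((a : G)⁻¹ * b)) * (b : G)⁻¹ := by group
        _ = (b : G) * D.t * (b : G)⁻¹ := by rw [← e]; group
  let Fq : N ⧸ K → {w : V3 // w ≠ 0} := Quotient.lift F fun a b hab =>
    (hFeq a b).2 (QuotientGroup.leftRel_apply.1 hab)
  have hbij : Function.Bijective Fq := by
    constructor
    · rintro ⟨a⟩ ⟨b⟩ h
      exact QuotientGroup.eq.2 ((hFeq a b).1 h)
    · intro w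
      obtain ⟨x, hx⟩ := isConj_iff.1 (D.sv_conj w.2)
      rw [← D.sv_t] at hx
      obtain ⟨n, hn, e⟩ := D.burnside hx
      refine ⟨QuotientGroup.mk ⟨n, hn⟩, Subtype.ext (D.sv_inj ?_)⟩
      show D.sv (F ⟨n, hn⟩).1 = _
      rw [← hF, ← e, D.sv_t]
  have hKcard : Nat.card K = 24 := by
    have e : K ≃ {m : M0 // normQ (toQ m) = true} :=
      { toFun := fun x => ⟨D.e ⟨x.1.1, x.2⟩, (normQ_iff _).2 fun w => by
          obtain ⟨w', hw'⟩ := D.mem_N x.1.2 w
          refine ⟨w', D.emb_injective ?_⟩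
          rw [map_mul, map_mul, D.emb_e, ← sv, ← sv]
          exact mul_inv_eq_iff_eq_mul.1 hw'⟩
        invFun := fun m => ⟨⟨D.emb m.1, by
          have hm := (normQ_iff _).1 m.2
          rw [hNdef, Subgroup.mem_normalizer_iff]
          have hle : ∀ y, y ∈ (D.S : Subgroup G) → D.emb m.1 * y * (D.emb m.1)⁻¹ ∈ (D.S : Subgroup G) := fun y hy => by
            obtain ⟨w, rfl⟩ := D.mem_S.1 hy
            obtain ⟨w', hw'⟩ := hm w
            exact D.mem_S.2 ⟨w', by rw [sv, sv, eq_mul_inv_iff_mul_eq, ← map_mul, ← map_mul, hw']⟩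
          intro y
          refine ⟨hle y, fun hy => ?_⟩
          have hcj : (D.S : Subgroup G).map (MulAut.conj (D.emb m.1)).toMonoidHom = (D.S : Subgroup G) := by
            refine Subgroup.eq_of_le_of_card_ge ?_ ?_
            · rintro _ ⟨z, hz, rfl⟩; exact hle z hz
            · rw [Subgroup.card_map_of_injective (MulAut.conj (D.emb m.1)).injective]
          rw [← hcj] at hy
          obtain ⟨z, hz, e⟩ := hy
          rwa [← (MulAut.conj (D.emb m.1)).injective e]⟩, Subgroup.mem_centralizer_singleton_iff.2 (D.emb_mem _)⟩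
        left_inv := fun x => Subtype.ext (Subtype.ext (D.emb_e _))
        right_inv := fun m => Subtype.ext (D.e.apply_symm_apply _) }
    rw [Nat.card_congr e, ← normQ_count]
    have e2 : {m : M0 // normQ (toQ m) = true} ≃ {q // q ∈ (elsL.filter normQ)} :=
      Equiv.ofBijective (fun m => ⟨toQ m.1, List.mem_filter.2 ⟨mem_els.1 (toQ_mem _), m.2⟩⟩)
        ⟨fun a b h => Subtype.ext (toQ_injective (congrArg Subtype.val h)), fun q => by
          obtain ⟨h1, h2⟩ := List.mem_filter.1 q.2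
          obtain ⟨m, hm⟩ := toQ_surj (mem_els.2 h1)
          exact ⟨⟨m, by rw [hm]; exact h2⟩, Subtype.ext hm⟩⟩
    rw [Nat.card_congr e2]
    exact card_mem_list _ (List.Nodup.filter _ elsL_nodup)
  rw [Subgroup.card_eq_card_quotient_mul_card_subgroup K, Nat.card_congr (Equiv.ofBijective _ hbij), hKcard,
    Nat.card_eq_fintype_card, show Fintype.card {w : V3 // w ≠ 0} = 7 by decide +kernel]

/-- The element of order seven. -/
theorem exists_g : ∃ D' : JD G, D'.t = D.t ∧ ∃ g : G, g ^ 7 = 1 ∧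
    D'.emb (1, rA) * g * (D'.emb (1, rA))⁻¹ = g ^ 2 ∧ ∀ w, g * D'.sv w * g⁻¹ = D'.sv (gam w) := by
  classical
  haveI : Fact (Nat.Prime 7) := ⟨by norm_num⟩
  haveI : Fact (Nat.Prime 3) := ⟨by norm_num⟩
  set N := Subgroup.normalizer ((D.S : Subgroup G) : Set G) with hNdef
  have hr : D.emb (1, rA) ∈ N := by
    rw [hNdef, Subgroup.mem_normalizer_iff]
    intro y
    refine ⟨fun hy => ?_, fun hy => ?_⟩
    · obtain ⟨w, rfl⟩ := D.mem_S.1 hy
      exact D.mem_S.2 ⟨rho w, (D.r_sv w).symm⟩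
    · obtain ⟨w, hw⟩ := D.mem_S.1 hy
      exact D.mem_S.2 ⟨rho2 w, by rw [← D.r_inv_sv, hw]; group⟩
  let r : N := ⟨D.emb (1, rA), hr⟩
  have hn7 : Nat.card (Sylow 7 N) = 1 ∨ Nat.card (Sylow 7 N) = 8 := by
    obtain ⟨P⟩ : Nonempty (Sylow 7 N) := inferInstance
    have h1 := P.card_dvd_index
    have hP : Nat.card (P : Subgroup N) = 7 := by
      rw [P.card_eq_multiplicity, D.card_N, show (168 : ℕ) = 7 ^ 1 * 24 from rfl,
        Nat.factorization_mul (by norm_num) (by norm_num)]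
      simp [Nat.Prime.factorization (by norm_num : Nat.Prime 7),
        Nat.factorization_eq_zero_of_not_dvd (by norm_num : ¬ 7 ∣ 24)]
    have hi := (P : Subgroup N).card_mul_index
    rw [hP, D.card_N] at hi
    have h24 : (P : Subgroup N).index = 24 := by omega
    rw [h24] at h1
    have h2 := card_sylow_modEq_one 7 N
    have h3 : ∀ m ∈ Nat.divisors 24, m % 7 = 1 → m = 1 ∨ m = 8 := by decide +kernel
    exact h3 _ (Nat.mem_divisors.2 ⟨h1, by norm_num⟩) h2
  have hr3 : IsPGroup 3 (Subgroup.zpowers r) := by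
    refine IsPGroup.of_card (n := 1) ?_
    rw [Nat.card_zpowers, ← Subgroup.orderOf_coe, pow_one]
    exact (orderOf_injective D.emb D.emb_injective _).trans
      (orderOf_eq_prime (by decide +kernel) (by decide +kernel))
  have hfix := hr3.card_modEq_card_fixedPoints (Sylow 7 N)
  obtain ⟨P, hP⟩ : (MulAction.fixedPoints (Subgroup.zpowers r) (Sylow 7 N)).Nonempty := by
    by_contra h
    rw [Set.not_nonempty_iff_eq_empty] at h
    rw [h] at hfix
    simp only [Nat.card_coe_set_eq, Set.ncard_empty] at hfix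
    rcases hn7 with e | e <;> rw [e] at hfix <;> simp [Nat.ModEq] at hfix
  have hP7 : Nat.card (P : Subgroup N) = 7 := by
    rw [P.card_eq_multiplicity, D.card_N, show (168 : ℕ) = 7 ^ 1 * 24 from rfl,
      Nat.factorization_mul (by norm_num) (by norm_num)]
    simp [Nat.Prime.factorization (by norm_num : Nat.Prime 7),
      Nat.factorization_eq_zero_of_not_dvd (by norm_num : ¬ 7 ∣ 24)]
  obtain ⟨x, hx⟩ := exists_prime_orderOf_dvd_card' (G := (P : Subgroup N)) 7 (hP7.symm.dvd)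
  have hgen : Subgroup.zpowers ((x : N)) = (P : Subgroup N) :=
    Subgroup.eq_of_le_of_card_ge (Subgroup.zpowers_le.2 x.2)
      (by rw [Nat.card_zpowers, Subgroup.orderOf_coe, hx, hP7])
  have hconj : r * (x : N) * r⁻¹ ∈ (P : Subgroup N) := by
    have h := hP ⟨r, Subgroup.mem_zpowers r⟩
    have h2 : r * (x : N) * r⁻¹ ∈ (((⟨r, Subgroup.mem_zpowers r⟩ : Subgroup.zpowers r) • P : Sylow 7 N) : Subgroup N) := by
      rw [Subgroup.smul_def, Sylow.coe_subgroup_smul]
      exact Subgroup.smul_mem_pointwise_smul _ _ _ x.2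
    rwa [h] at h2
  replace hconj : r * (x : N) * r⁻¹ ∈ Subgroup.zpowers (x : N) := by
    have := SetLike.ext_iff.1 hgen (r * (x : N) * r⁻¹)
    exact this.2 hconj
  have hxo : orderOf (x : N) = 7 := (Subgroup.orderOf_coe x).trans hx
  obtain ⟨k, hk7, hk⟩ := (mem_zpowers_iff_mem_range_orderOf.1 hconj : _) |> Finset.mem_image.1
  rw [hxo, Finset.mem_range] at hk7
  set g : G := ((x : N) : G) with hgdef
  have hg7 : g ^ 7 = 1 := by
    rw [hgdef, ← Subgroup.coe_pow, show (x : N) ^ 7 = 1 from orderOf_dvd_iff_pow_eq_one.1 hxo.dvd]; rfl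
  have hgne : g ≠ 1 := fun e => by
    have : (x : N) = 1 := Subtype.ext e
    rw [this, orderOf_one] at hxo
    omega
  have hgN : ∀ w, ∃ w', g * D.sv w * g⁻¹ = D.sv w' := D.mem_N (x : N).2
  have hkG : D.emb (1, rA) * g * (D.emb (1, rA))⁻¹ = g ^ k := by
    rw [hgdef, ← Subgroup.coe_pow, hk]; rfl
  have finish : ∀ (D' : JD G) (y : G) (j : ℕ), y ^ 7 = 1 → D'.emb (1, rA) * y * (D'.emb (1, rA))⁻¹ = y ^ 2 →
      (∀ w, y ^ j * D'.sv w * (y ^ j)⁻¹ = D'.sv (gam w)) →
      ∃ g : G, g ^ 7 = 1 ∧ D'.emb (1, rA) * g * (D'.emb (1, rA))⁻¹ = g ^ 2 ∧ ∀ w, g * D'.sv w * g⁻¹ = D'.sv (gam w) := by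
    intro D' y j hy h2 hj
    refine ⟨y ^ j, by rw [← pow_mul, mul_comm, pow_mul, hy, one_pow], ?_, hj⟩
    rw [← conj_pow, h2, ← pow_mul, ← pow_mul, mul_comm]
  rcases D.core hg7 hgne hgN ⟨k, hk7⟩ hkG with h | ⟨h, j, hj⟩
  · have hk4 : k = 4 := congrArg Fin.val h
    subst hk4
    have h2 : D.twist.emb (1, rA) * g * (D.twist.emb (1, rA))⁻¹ = g ^ ((2 : Fin 7) : ℕ) := by
      rw [D.twist_r, inv_inv]
      have e3 : D.emb (1, rA) * D.emb (1, rA) * D.emb (1, rA) = 1 := by
        rw [← map_mul, ← map_mul, show ((1, rA) : M0) * (1, rA) * (1, rA) = 1 from (by decide +kernel), map_one]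
      have e3i : (D.emb (1, rA))⁻¹ = D.emb (1, rA) * D.emb (1, rA) := (eq_inv_of_mul_eq_one_left e3).symm
      calc (D.emb (1, rA))⁻¹ * g * D.emb (1, rA)
          = (D.emb (1, rA))⁻¹ * g * (D.emb (1, rA))⁻¹⁻¹ := by rw [inv_inv]
        _ = D.emb (1, rA) * (D.emb (1, rA) * g * (D.emb (1, rA))⁻¹) * (D.emb (1, rA))⁻¹ := by
            calc (D.emb (1, rA))⁻¹ * g * (D.emb (1, rA))⁻¹⁻¹
                = (D.emb (1, rA) * D.emb (1, rA)) * g * (D.emb (1, rA) * D.emb (1, rA))⁻¹ := by rw [← e3i]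
              _ = _ := by group
        _ = g ^ ((2 : Fin 7) : ℕ) := by
            rw [hkG, ← conj_pow, hkG, ← pow_mul]
            calc g ^ (4 * 4) = g ^ (7 * 2 + 2) := rfl
              _ = g ^ 2 := by rw [pow_add, pow_mul, hg7, one_pow, one_mul]
    have hN' : ∀ w, ∃ w', g * D.twist.sv w * g⁻¹ = D.twist.sv w' := fun w => by
      rw [twist_sv]
      obtain ⟨w', hw'⟩ := hgN (w.1, w.2.1 + w.2.2, w.2.2)
      refine ⟨(w'.1, w'.2.1 + w'.2.2, w'.2.2), ?_⟩
      rw [hw', twist_sv]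
      exact congrArg D.sv ((by decide +kernel : ∀ a : V3, a = (a.1, a.2.1 + a.2.2 + a.2.2, a.2.2)) w')
    rcases D.twist.core hg7 hgne hN' 2 h2 with h' | ⟨-, j, hj⟩
    · exact absurd h' (by decide)
    · exact ⟨D.twist, rfl, finish _ g j hg7 h2 hj⟩
  · have hk2 : k = 2 := congrArg Fin.val h
    subst hk2
    exact ⟨D, rfl, finish _ g j hg7 hkG hj⟩

end JD

end Cfsg.Agent.JOneRecog
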