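import Cfsg.Agent.JOneRecog.Witness
import Cfsg.Agent.JOneRecog.Normal
import Cfsg.Agent.JOneRecog.Letters
import Cfsg.Agent.JOneRecog.Cert.Table

/-!
A simple group of order 175560 with such a centraliser is the permutation group of the table.
-/

set_option autoImplicit false
set_option maxRecDepth 100000
set_option linter.all false

namespace Cfsg.Agent.JOneRecog.JD

open Equiv

variable {G : Type*} [Group G] [Finite G] [IsSimpleGroup G] (D : JD G)

/-- The values of the letters. -/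
def lv (g : G) : ℕ → G
  | 7 => g
  | 8 => g⁻¹
  | n => D.emb (mv n)

theorem lv_low (g : G) {n : ℕ} (h : n < 7) : D.lv g n = D.emb (mv n) := by
  match n, h with
  | 0, _ | 1, _ | 2, _ | 3, _ | 4, _ | 5, _ | 6, _ => rfl

theorem lv_word (g : G) (w : List ℕ) (h : ∀ x ∈ w, x < 7) : (w.map (D.lv g)).prod = D.emb (mw w) := by
  rw [mw, map_list_prod, List.map_map]
  exact congrArg List.prod (List.map_congr_left fun x hx => D.lv_low g (h x hx))

theorem lv_inv (g : G) : ∀ n, D.lv g (Cert.invL n) = (D.lv g n)⁻¹ := by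
  intro n
  by_cases hn : n < 7
  · have h : Cert.invL n < 7 := by interval_cases n <;> decide
    rw [D.lv_low g hn, D.lv_low g h, mv_invL n hn, map_inv]
  · match n, hn with
    | 7, _ => rfl
    | 8, _ => exact (inv_inv g).symm
    | n + 9, _ =>
      show D.emb 1 = (D.emb 1)⁻¹
      rw [map_one, inv_one]

include D in
/-- The identification. -/
theorem equiv_TG (hG : Nat.card G = 175560) : Nonempty (G ≃* ↥Cert.TG) := by
  classical
  obtain ⟨D, -, g, g7, gr, gv⟩ := D.exists_g
  obtain ⟨s, hs, w, w3, w1, wF, ws, wt⟩ := D.exists_witness hG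
  have hg1 : g ≠ 1 := by
    rintro rfl
    have := gv (1, 0, 0)
    rw [one_mul, inv_one, mul_one] at this
    exact absurd (D.sv_inj this) (by decide +kernel)
  -- powers of the element of order seven
  have gpow : ∀ (k : ℕ) (a : V3), g ^ k * D.sv a * (g ^ k)⁻¹ = D.sv (itV gam k a) := by
    intro k
    induction k with
    | zero => intro a; simp [itV]
    | succ k ih =>
      intro a
      rw [itV, ← gv, ← ih, pow_succ']
      group
  have gneg : ∀ (k j : ℕ) (a : V3), k + j = 7 → (g ^ k)⁻¹ * D.sv a * g ^ k = D.sv (itV gam j a) := by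
    intro k j a hkj
    rw [← gpow, show (g ^ k)⁻¹ = g ^ j from inv_eq_of_mul_eq_one_right (by rw [← pow_add, hkj, g7])]
    congr 1
    exact (inv_eq_of_mul_eq_one_right (by rw [← pow_add, Nat.add_comm, hkj, g7])).symm
  -- move the witness to the frame
  set c := D.emb cM with hc
  obtain ⟨hf1, hf2, hf3⟩ := frame_ok
  obtain ⟨k, j, p, xa, xb, hkj, hcase, hs', hpp, hfour⟩ : ∃ (k j : ℕ) (p : V3) (xa xb : List ℕ), k + j = 7 ∧
      ((k = 2 ∧ xa = [3, 6] ∧ xb = [1, 6, 4]) ∨ (k = 6 ∧ xa = [1, 5] ∧ xb = [1, 6])) ∧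
      c * s * c⁻¹ = D.sv (itV gam k (1, 0, 0)) ∧ p = itV gam j (1, 0, 0) ∧ fourCases p xa xb = true := by
    rcases hs with e | e
    · refine ⟨2, 5, _, _, _, rfl, Or.inl ⟨rfl, rfl, rfl⟩, ?_, rfl, ?_⟩
      · rw [e, hc, ← map_inv, ← map_mul, ← map_mul, hf1]
        exact congrArg D.emb (congrArg vM (by decide +kernel))
      · rw [show itV gam 5 ((1, 0, 0) : V3) = (1, 1, 1) from by decide +kernel]; exact four_v
    · refine ⟨6, 1, _, _, _, rfl, Or.inr ⟨rfl, rfl, rfl⟩, ?_, rfl, ?_⟩
      · rw [e, ← D.emb_zM, ← map_mul, hc, ← map_inv, ← map_mul, ← map_mul, hf2]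
        exact congrArg D.emb (congrArg vM (by decide +kernel))
      · rw [show itV gam 1 ((1, 0, 0) : V3) = (0, 0, 1) from by decide +kernel]; exact four_tv
  set w' := c * w * c⁻¹ with hw'
  set f := D.emb (mw [2, 5]) with hf
  have hcf : Commute (c * D.F * c⁻¹) w' := by
    have h := (show Commute D.F w from wF.symm).map (MulAut.conj c).toMonoidHom
    exact h
  have hfw : Commute f w' := by
    have e : c * D.F * c⁻¹ = D.emb (cM * (1, hA) * cM⁻¹) := by rw [hc, F, ← map_inv, ← map_mul, ← map_mul]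
    rcases hf3 with h | h <;>
      · rw [hf, ← h, map_pow, ← e]
        exact hcf.pow_left _
  have hw's : w' * D.sv (itV gam k (1, 0, 0)) = D.sv (itV gam k (1, 0, 0)) * w' := by
    rw [← hs']
    have h := (show Commute w s from ws).map (MulAut.conj c).toMonoidHom
    exact h.eq
  have hw't : D.t * w' * D.t⁻¹ = w'⁻¹ := by
    have e : D.t * c = c * D.t := (D.emb_mem _).symm
    have e' : c⁻¹ * D.t⁻¹ = D.t⁻¹ * c⁻¹ := by rw [← mul_inv_rev, ← mul_inv_rev, e]
    calc D.t * w' * D.t⁻¹ = (D.t * c) * w * (c⁻¹ * D.t⁻¹) := by rw [hw']; group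
      _ = (c * D.t) * w * (D.t⁻¹ * c⁻¹) := by rw [e, e']
      _ = c * (D.t * w * D.t) * c⁻¹ := by rw [D.tinv]; group
      _ = w'⁻¹ := by rw [wt, hw']; group
  set y := (g ^ k)⁻¹ * w' * g ^ k with hy
  have hyt : y * D.t = D.t * y := by
    have e : D.t = (g ^ k)⁻¹ * D.sv (itV gam k (1, 0, 0)) * g ^ k := by
      rw [← gpow, D.sv_t]; group
    rw [e, hy]
    calc _ = (g ^ k)⁻¹ * (w' * D.sv (itV gam k (1, 0, 0))) * g ^ k := by group
      _ = (g ^ k)⁻¹ * (D.sv (itV gam k (1, 0, 0)) * w') * g ^ k := by rw [hw's]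
      _ = _ := by group
  have hyp : D.sv p * y = y⁻¹ * D.sv p := by
    rw [hpp, ← gneg k j _ hkj, D.sv_t, hy]
    calc (g ^ k)⁻¹ * D.t * g ^ k * ((g ^ k)⁻¹ * w' * g ^ k) = (g ^ k)⁻¹ * (D.t * w' * D.t⁻¹) * D.t * g ^ k := by group
      _ = _ := by rw [hw't]; group
  obtain ⟨m, hm⟩ := D.exists_emb hyt
  have w'3 : w' ^ 3 = 1 := by rw [hw', conj_pow, w3, mul_one, mul_inv_cancel]
  have y3 : y * (y * y) = 1 := by
    calc y * (y * y) = (g ^ k)⁻¹ * w' ^ 3 * g ^ k := by rw [hy, pow_succ, pow_two]; group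
      _ = 1 := by rw [w'3]; group
  have y1 : y ≠ 1 := fun e => w1 (by
    have e1 : w' = g ^ k * y * (g ^ k)⁻¹ := by rw [hy]; group
    rw [e, mul_one, mul_inv_cancel, hw'] at e1
    exact conj_eq_one_iff.1 e1)
  have hm4 := four_spec hfour (m := m) (D.emb_injective (by rw [map_mul, map_mul, map_one, hm, y3]))
    (fun e => y1 (by rw [← hm, e, map_one]))
    (D.emb_injective (by
      rw [map_mul, map_mul, map_mul, hm, ← JD.sv, hyp, inv_eq_of_mul_eq_one_right y3]))
  have hcube : mw xa * (mw xa * mw xa) = 1 ∧ mw xb * (mw xb * mw xb) = 1 := by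
    rcases hcase with ⟨-, rfl, rfl⟩ | ⟨-, rfl, rfl⟩ <;> decide +kernel
  have key : ∃ b, (b = xa ∨ b = xb) ∧ Commute (g ^ k * D.emb (mw b) * (g ^ k)⁻¹) f := by
    have e1 : w' = g ^ k * y * (g ^ k)⁻¹ := by rw [hy]; group
    have e2 : w' * w' = g ^ k * (y * y) * (g ^ k)⁻¹ := by rw [e1]; group
    have hsq : ∀ b, mw b * (mw b * mw b) = 1 → m = mw b * mw b → g ^ k * D.emb (mw b) * (g ^ k)⁻¹ = w' * w' :=
      fun b hb3 hb => by
      have e3 : mw b * mw b * (mw b * mw b) = mw b := by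
        calc mw b * mw b * (mw b * mw b) = mw b * (mw b * mw b) * mw b := by group
          _ = mw b := by rw [hb3, one_mul]
      rw [e2, ← hm, hb, ← map_mul, e3]
    have hw2 : Commute (w' * w') f := (hfw.symm.mul_left hfw.symm)
    rcases hm4 with e | e | e | e
    · exact ⟨xa, Or.inl rfl, by rw [← e, hm, ← e1]; exact hfw.symm⟩
    · exact ⟨xa, Or.inl rfl, by rw [hsq xa hcube.1 e]; exact hw2⟩
    · exact ⟨xb, Or.inr rfl, by rw [← e, hm, ← e1]; exact hfw.symm⟩
    · exact ⟨xb, Or.inr rfl, by rw [hsq xb hcube.2 e]; exact hw2⟩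
  obtain ⟨b, hb, hcomm⟩ := key
  -- the letters
  set val := D.lv g with hval
  have h9 : val 9 = 1 := by
    show D.emb 1 = 1
    rw [map_one]
  have v0 : val 0 = D.t := D.emb_zM
  have hbase : ∀ r ∈ Cert.centRels ++ Cert.normRels, (r.map val).prod = 1 := by
    intro r hr
    rcases List.mem_append.1 hr with h | h
    · have h' := List.all_eq_true.1 centRels_ok r h
      simp only [Bool.and_eq_true, decide_eq_true_eq, List.all_eq_true] at h'
      rw [hval, D.lv_word g r h'.2, h'.1, map_one]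
    · have a1 : val 1 = D.sv (0, 1, 0) := congrArg D.emb (by decide +kernel)
      have a2 : val 2 = D.sv (0, 0, 1) := congrArg D.emb (by decide +kernel)
      have a0 : val 0 = D.sv (1, 0, 0) := congrArg D.emb (by decide +kernel)
      have a7 : val 7 = g := rfl
      have a8 : val 8 = g⁻¹ := rfl
      have a3 : val 3 = D.emb (1, rA) := rfl
      have a4 : val 4 = (D.emb (1, rA))⁻¹ := map_inv _ _
      have i0 : g * D.sv (1, 0, 0) * g⁻¹ = D.sv (0, 0, 1) := (gv _).trans (congrArg D.sv (by decide +kernel))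
      have i1 : g * D.sv (0, 1, 0) * g⁻¹ = D.sv (1, 0, 1) := (gv _).trans (congrArg D.sv (by decide +kernel))
      have i2 : g * D.sv (0, 0, 1) * g⁻¹ = D.sv (0, 1, 0) := (gv _).trans (congrArg D.sv (by decide +kernel))
      simp only [Cert.normRels, List.mem_cons, List.not_mem_nil, or_false] at h
      rcases h with rfl | rfl | rfl | rfl | rfl <;>
        simp only [List.map_cons, List.map_nil, List.prod_cons, List.prod_nil, mul_one, a0, a1, a2, a3, a4, a7, a8]
      · rw [← g7]; simp only [pow_succ, pow_zero, one_mul, mul_assoc]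
      · calc _ = D.emb (1, rA) * g * (D.emb (1, rA))⁻¹ * (g ^ 2)⁻¹ := by rw [pow_two]; group
          _ = 1 := by rw [gr, mul_inv_cancel]
      · calc _ = g * D.sv (1, 0, 0) * g⁻¹ * D.sv (0, 0, 1) := by group
          _ = 1 := by rw [i0, D.sv_sq]
      · calc _ = g * D.sv (0, 1, 0) * g⁻¹ * (D.sv (0, 0, 1) * D.sv (1, 0, 0)) := by group
          _ = 1 := by
            rw [i1, ← D.sv_add (0, 0, 1), show ((0, 0, 1) : V3) + (1, 0, 0) = (1, 0, 1) from by decide +kernel,
              D.sv_sq]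
      · calc _ = g * D.sv (0, 0, 1) * g⁻¹ * D.sv (0, 1, 0) := by group
          _ = 1 := by rw [i2, D.sv_sq]
  -- the cosets
  set C := Subgroup.centralizer ({D.t} : Set G) with hC
  have hbasept : ∀ z : G, z • ((1 : G) : G ⧸ C) = ((1 : G) : G ⧸ C) ↔ z * D.t = D.t * z := fun z => by
    rw [MulAction.Quotient.smul_coe, smul_eq_mul, mul_one, QuotientGroup.eq, mul_one, inv_mem_iff]
    exact Subgroup.mem_centralizer_singleton_iff
  have hsub : ∀ n ∈ Cert.subL, val n • ((1 : G) : G ⧸ C) = ((1 : G) : G ⧸ C) := by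
    intro n hn
    rw [hbasept, hval, D.lv_low g ((by decide : ∀ n ∈ Cert.subL, n < 7) n hn)]
    exact D.emb_mem _
  have hne : val 7 • ((1 : G) : G ⧸ C) ≠ ((1 : G) : G ⧸ C) := fun e => by
    rw [hbasept] at e
    have h := gv (1, 0, 0)
    change g * D.t = D.t * g at e
    rw [D.sv_t, e, mul_inv_cancel_right, ← D.sv_t] at h
    exact absurd (D.sv_inj h) (by decide +kernel)
  have hgood : (Cert.rel_good.map val).prod = 1 := by
    have hrel : ∀ (r : List ℕ), ((r.map val).prod = g ^ k * D.emb (mw b) * (g ^ k)⁻¹ * f *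
        (g ^ k * D.emb (mw b) * (g ^ k)⁻¹)⁻¹ * f⁻¹) → (r.map val).prod = 1 := fun r hr => by
      rw [hr, hcomm.eq]; group
    have g6 : g ^ 6 = g⁻¹ := eq_inv_of_mul_eq_one_left (by rw [← pow_succ, g7])
    have a7 : val 7 = g := rfl
    have a8 : val 8 = g⁻¹ := rfl
    have l1 : val 1 = D.emb (mv 1) := rfl
    have l2 : val 2 = D.emb (mv 2) := rfl
    have l3 : val 3 = D.emb (mv 3) := rfl
    have l4 : val 4 = (D.emb (mv 3))⁻¹ := map_inv _ _
    have l5 : val 5 = D.emb (mv 5) := rfl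
    have l6 : val 6 = (D.emb (mv 5))⁻¹ := map_inv _ _
    have q2 : (D.emb (mv 2))⁻¹ = D.emb (mv 2) := by
      rw [← map_inv]; exact congrArg D.emb (by decide +kernel)
    have q1 : (D.emb (mv 1))⁻¹ = D.emb (mv 1) := by
      rw [← map_inv]; exact congrArg D.emb (by decide +kernel)
    have q4 : mv 4 = (mv 3)⁻¹ := rfl
    have q6 : mv 6 = (mv 5)⁻¹ := rfl
    rcases hcase with ⟨rfl, rfl, rfl⟩ | ⟨rfl, rfl, rfl⟩ <;> rcases hb with rfl | rfl
    · exfalso
      refine Cert.collapse h9 (D.lv_inv g) hbase hsub hne (r := Cert.rel_v0) (hrel _ ?_) Cert.cert_v0_check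
        Cert.cert_v0_last
      simp only [Cert.rel_v0, hf, mw, List.map_cons, List.map_nil, List.prod_cons, List.prod_nil, mul_one, map_mul,
        map_inv, q4, q6, a7, a8, l1, l2, l3, l4, l5, l6, mul_inv_rev, inv_inv, pow_two, q1, q2, mul_assoc]
    · exfalso
      refine Cert.collapse h9 (D.lv_inv g) hbase hsub hne (r := Cert.rel_v1) (hrel _ ?_) Cert.cert_v1_check
        Cert.cert_v1_last
      simp only [Cert.rel_v1, hf, mw, List.map_cons, List.map_nil, List.prod_cons, List.prod_nil, mul_one, map_mul,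
        map_inv, q4, q6, a7, a8, l1, l2, l3, l4, l5, l6, mul_inv_rev, inv_inv, pow_two, q1, q2, mul_assoc]
    · exfalso
      refine Cert.collapse h9 (D.lv_inv g) hbase hsub hne (r := Cert.rel_bad) (hrel _ ?_) Cert.cert_bad_check
        Cert.cert_bad_last
      simp only [Cert.rel_bad, hf, mw, List.map_cons, List.map_nil, List.prod_cons, List.prod_nil, mul_one, map_mul,
        map_inv, q4, q6, a7, a8, l1, l2, l3, l4, l5, l6, g6, mul_inv_rev, inv_inv, q1, q2, mul_assoc]
    · refine hrel _ ?_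
      simp only [Cert.rel_good, hf, mw, List.map_cons, List.map_nil, List.prod_cons, List.prod_nil, mul_one, map_mul,
        map_inv, q4, q6, a7, a8, l1, l2, l3, l4, l5, l6, g6, mul_inv_rev, inv_inv, q1, q2, mul_assoc]
  refine Cert.equiv_TG h9 (D.lv_inv g) hbase hsub hne hgood (fun z hz => ?_) ?_ fun z hz => ?_
  · rw [hbasept] at hz
    obtain ⟨m, rfl⟩ := D.exists_emb hz
    refine closure_letters (Subgroup.comap D.emb (Subgroup.closure (Set.range fun x : Fin 9 => val x)))
      (fun n hn => Subgroup.subset_closure ⟨⟨n, by omega⟩, D.lv_low g hn⟩) m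
  · have h := C.card_mul_index
    rw [hG, hC, D.card_C] at h
    show Nat.card (G ⧸ C) = 1463
    rw [← Subgroup.index_eq_card, hC]
    omega
  · have hN : C.normalCore = ⊥ := C.normalCore_normal.eq_bot_or_eq_top.resolve_right fun e => by
      have htop : C = ⊤ := top_le_iff.1 (e ▸ C.normalCore_le)
      have h := D.card_C
      rw [← hC, htop, Subgroup.card_top, hG] at h
      omega
    rw [← Subgroup.mem_bot, ← hN, Subgroup.normalCore_eq_ker, MonoidHom.mem_ker]
    exact Equiv.ext hz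

end Cfsg.Agent.JOneRecog.JD
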