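import Cfsg.Agent.JOneRecog.Order
import Cfsg.Agent.JOneRecog.Present
import Cfsg.Agent.JankoOne.Centralizer
import Cfsg.Agent.JankoOne.Simple

/-!
Recognition of the first Janko group.
-/

set_option autoImplicit false
set_option linter.all false

namespace Cfsg.Agent.JOneRecog

/-- A group in the setting has order 175560. -/
theorem JD.card_of {G : Type*} [Group G] [Finite G] [IsSimpleGroup G] (D : JD G) : Nat.card G = 175560 := by
  haveI := Fintype.ofFinite G
  exact D.card_eq

/-- A group in the setting is the first Janko group. -/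
theorem JD.isoJ1 {G : Type*} [Group G] [Finite G] [IsSimpleGroup G] (D : JD G) : Cfsg.Spor.IsoJ1 G := by
  obtain ⟨e1⟩ := D.equiv_TG D.card_of
  haveI := JankoOne.isSimple_J1
  haveI : Finite Spor.J1 := Nat.finite_of_card_ne_zero (by rw [JankoOne.card_J1]; norm_num)
  obtain ⟨e⟩ := JankoOne.nonempty_cent_equiv
  let D' : JD Spor.J1 := ⟨JankoOne.tG, e, JankoOne.orderOf_tG, by rw [JankoOne.card_J1]⟩
  obtain ⟨e2⟩ := D'.equiv_TG JankoOne.card_J1
  exact ⟨e1.trans e2.symm⟩

/-- A Sylow 2-subgroup of order eight. -/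
theorem mod_sixteen {G : Type*} [Group G] [Finite G] (S : Sylow 2 G) (h8 : Nat.card S = 8) :
    Nat.card G % 16 = 8 := by
  have h := (S : Subgroup G).card_mul_index
  rw [h8] at h
  have hodd : ¬ 2 ∣ (S : Subgroup G).index := S.not_dvd_index
  omega

/-- A 2-central involution with such a centraliser. -/
theorem exists_JD {G : Type*} [Group G] [Finite G] (t : G) (ht : Cfsg.IsTwoCentralInvolution t)
    (e : Subgroup.centralizer ({t} : Set G) ≃* Multiplicative (ZMod 2) × alternatingGroup (Fin 5)) :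
    ∃ D : JD G, D.t = t := by
  obtain ⟨h2, P, -, hP⟩ := ht
  refine ⟨⟨t, e, h2, mod_sixteen P ?_⟩, rfl⟩
  have hC : Nat.card (Subgroup.centralizer ({t} : Set G)) = 120 := by
    rw [Nat.card_congr e.toEquiv]; exact card_M0
  have hle : (P : Subgroup G) ≤ Subgroup.centralizer ({t} : Set G) := fun x hx =>
    Subgroup.mem_centralizer_singleton_iff.2 (hP x hx)
  have hd := Subgroup.card_dvd_of_le hle
  rw [hC] at hd
  obtain ⟨n, hn⟩ := IsPGroup.iff_card.1 P.isPGroup'
  have h1 : n ≤ 3 := by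
    by_contra h
    have : 2 ^ 4 ∣ 120 := (pow_dvd_pow 2 (by omega : 4 ≤ n)).trans (hn ▸ hd)
    norm_num at this
  have h2' : 2 ^ 3 ∣ Nat.card G := by
    refine (show 2 ^ 3 ∣ 120 by norm_num).trans ?_
    rw [← hC]
    exact Subgroup.card_subgroup_dvd_card _
  have h3 : 2 ^ 3 ∣ Nat.card (P : Subgroup G) := by
    rw [P.card_eq_multiplicity]
    exact pow_dvd_pow 2 ((Nat.prime_two.pow_dvd_iff_le_factorization Nat.card_pos.ne').1 h2')
  rw [hn] at h3 ⊢
  have h4 : 3 ≤ n := (Nat.pow_dvd_pow_iff_le_right (by norm_num)).1 h3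
  rw [show n = 3 by omega]
  rfl

end Cfsg.Agent.JOneRecog
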