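import Cfsg.Agent.JOneRecog.SubCount
import Cfsg.Agent.JOneRecog.Main
import Cfsg.Agent.Classical.SmallSimple

/-!
A simple group of order 175560 has an involution with centraliser `2 × A5`.
-/

set_option autoImplicit false
set_option linter.all false

namespace Cfsg.Agent.JOneRecog.FromOrder

open Cfsg.Agent.Order175560

universe u

theorem fact2 : Fact (Nat.Prime 2) := ⟨Nat.prime_two⟩
theorem fact3 : Fact (Nat.Prime 3) := ⟨Nat.prime_three⟩
theorem fact5 : Fact (Nat.Prime 5) := ⟨by norm_num⟩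
theorem fact7 : Fact (Nat.Prime 7) := ⟨by norm_num⟩
theorem fact11 : Fact (Nat.Prime 11) := ⟨by norm_num⟩
theorem fact19 : Fact (Nat.Prime 19) := ⟨by norm_num⟩

attribute [local instance] fact2 fact3 fact5 fact7 fact11 fact19

variable {G : Type u} [Group G] [Finite G]

/-! ### Four groups -/

/-- The four group spanned by two commuting involutions. -/
def four {A : Type*} [Group A] (a b : A) (ha : a * a = 1) (hb : b * b = 1) (hab : a * b = b * a) : Subgroup A where
  carrier := {1, a, b, a * b}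
  one_mem' := Or.inl rfl
  mul_mem' := by
    intro x y hx hy
    have h1 : a * (a * b) = b := by rw [← mul_assoc, ha, one_mul]
    have h2 : b * (a * b) = a := by rw [hab, ← mul_assoc, hb, one_mul]
    have h3 : a * b * a = b := by rw [hab, mul_assoc, ha, mul_one]
    have h4 : a * b * b = a := by rw [mul_assoc, hb, mul_one]
    have h5 : a * b * (a * b) = 1 := by rw [← mul_assoc, h3, hb]
    simp only [Set.mem_insert_iff, Set.mem_singleton_iff] at hx hy ⊢
    rcases hx with rfl | rfl | rfl | rfl <;> rcases hy with rfl | rfl | rfl | rfl <;>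
      simp only [one_mul, mul_one, ha, hb, h1, h2, h3, h4, h5, ← hab, true_or, or_true]
  inv_mem' := by
    intro x hx
    have h5 : (a * b)⁻¹ = a * b := by
      rw [mul_inv_rev, inv_eq_of_mul_eq_one_right ha, inv_eq_of_mul_eq_one_right hb, hab]
    simp only [Set.mem_insert_iff, Set.mem_singleton_iff] at hx ⊢
    rcases hx with rfl | rfl | rfl | rfl
    · simp
    · simp [inv_eq_of_mul_eq_one_right ha]
    · simp [inv_eq_of_mul_eq_one_right hb]
    · simp [h5]

theorem card_four {A : Type*} [Group A] {a b : A} (ha : a * a = 1) (hb : b * b = 1) (hab : a * b = b * a)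
    (ha1 : a ≠ 1) (hb1 : b ≠ 1) (hne : a ≠ b) : Nat.card (four a b ha hb hab) = 4 := by
  have h1 : a * b ≠ 1 := fun h => hne ((eq_inv_of_mul_eq_one_left h).trans (inv_eq_of_mul_eq_one_right hb))
  have h2 : a * b ≠ a := fun h => hb1 (mul_eq_left.1 h)
  have h3 : a * b ≠ b := fun h => ha1 (mul_eq_right.1 h)
  show Nat.card ({1, a, b, a * b} : Set A) = 4
  rw [Nat.card_coe_set_eq, Set.ncard_insert_of_notMem (by simp [ha1.symm, hb1.symm, h1.symm]),
    Set.ncard_insert_of_notMem (by simp [hne, h2.symm]), Set.ncard_pair h3.symm]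

theorem mul_self_of_orderOf {A : Type*} [Group A] {a : A} (h : orderOf a = 2) : a * a = 1 := by
  rw [← pow_two, ← h, pow_orderOf_eq_one]

theorem four_dvd_card {A : Type*} [Group A] {L : Subgroup A} {a b : A} (ha : orderOf a = 2) (hb : orderOf b = 2)
    (hab : a * b = b * a) (hne : a ≠ b) (haL : a ∈ L) (hbL : b ∈ L) : 4 ∣ Nat.card L := by
  have h1 : a ≠ 1 := fun h => by rw [h, orderOf_one] at ha; omega
  have h2 : b ≠ 1 := fun h => by rw [h, orderOf_one] at hb; omega
  rw [← card_four (mul_self_of_orderOf ha) (mul_self_of_orderOf hb) hab h1 h2 hne]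
  refine Subgroup.card_dvd_of_le ?_
  rintro x (rfl | rfl | rfl | rfl)
  · exact L.one_mem
  · exact haL
  · exact hbL
  · exact L.mul_mem haL hbL

/-! ### The centraliser is `2 × A5` -/

theorem orderOf_two_of_ne_one {A : Type*} [Group A] [Finite A] {x : A} {k : ℕ}
    (h4 : ∀ g : A, orderOf g ≠ 4) (hx : orderOf x ∣ 2 ^ k) (hx1 : x ≠ 1) : orderOf x = 2 := by
  obtain ⟨i, -, hi⟩ := (Nat.dvd_prime_pow Nat.prime_two).1 hx
  rcases i with _ | _ | i
  · exact absurd (orderOf_eq_one_iff.1 (by rw [hi, pow_zero])) hx1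
  · rw [hi]; rfl
  · exfalso
    refine h4 (x ^ (2 ^ i)) ?_
    rw [orderOf_pow, hi, show i + 1 + 1 = i + 2 from rfl, pow_add,
      Nat.gcd_eq_right (dvd_mul_right (2 ^ i) (2 ^ 2)), Nat.mul_div_cancel_left _ (Nat.two_pow_pos i)]
    norm_num

theorem exists_ne_of_card {A : Type*} [Finite A] (s : Finset A) (h : s.card < Nat.card A) : ∃ x, x ∉ s := by
  by_contra! hc
  haveI := Fintype.ofFinite A
  have h1 : Finset.univ ⊆ s := fun x _ => hc x
  have h2 := Finset.card_le_card h1
  rw [Finset.card_univ, ← Nat.card_eq_fintype_card] at h2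
  omega

theorem equiv_of_data {H : Type u} [Group H] [Finite H] (hcard : Nat.card H = 120) {t : H} (ht : orderOf t = 2)
    (hc : ∀ x : H, x * t = t * x) (h4 : ∀ g : H, orderOf g ≠ 4)
    (h5 : Nat.card {x : H // orderOf x = 5} = 24) (h3 : Nat.card {x : H // orderOf x = 3} = 20)
    (hfour : ∀ y k : H, orderOf y = 5 → orderOf k = 2 → y * k = k * y → k = t) :
    Nonempty (H ≃* Multiplicative (ZMod 2) × alternatingGroup (Fin 5)) := by
  classical
  obtain ⟨S⟩ : Nonempty (Sylow 2 H) := inferInstance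
  have hS : Nat.card (S : Subgroup H) = 8 := by
    simpa using SmallOrder.card_sylow_eq_pow (a := 3) (m := 15) (by rw [hcard]; norm_num) (by norm_num) S
  have htS : t ∈ (S : Subgroup H) := by
    obtain ⟨T, hT⟩ := (IsPGroup.of_card (n := 1) (by rw [Nat.card_zpowers, ht, pow_one]) :
      IsPGroup 2 (Subgroup.zpowers t)).exists_le_sylow
    obtain ⟨g, hg⟩ := MulAction.exists_smul_eq H T S
    rw [← hg, Sylow.coe_subgroup_smul]
    refine ⟨t, hT (Subgroup.mem_zpowers t), ?_⟩
    show g * t * g⁻¹ = t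
    rw [hc g, mul_inv_cancel_right]
  have hinv : ∀ x : (S : Subgroup H), x ≠ 1 → orderOf (x : H) = 2 := fun x hx => by
    refine orderOf_two_of_ne_one h4 (k := 3) ?_ fun h => hx (Subtype.ext h)
    have := (S : Subgroup H).orderOf_dvd_natCard x.2
    rw [hS] at this
    exact this
  have hsq : ∀ x : (S : Subgroup H), x * x = 1 := fun x => by
    rcases eq_or_ne x 1 with rfl | hx
    · rw [one_mul]
    · exact Subtype.ext (mul_self_of_orderOf (hinv x hx))
  have hcomm : ∀ x y : (S : Subgroup H), x * y = y * x := fun x y => by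
    calc x * y = (x * y)⁻¹ := eq_inv_of_mul_eq_one_left (hsq _)
      _ = y⁻¹ * x⁻¹ := mul_inv_rev x y
      _ = y * x := by rw [inv_eq_of_mul_eq_one_right (hsq x), inv_eq_of_mul_eq_one_right (hsq y)]
  set t' : (S : Subgroup H) := ⟨t, htS⟩
  have ht' : t' ≠ 1 := fun h => by
    rw [show t = 1 from congrArg Subtype.val h, orderOf_one] at ht
    omega
  obtain ⟨a, ha⟩ := exists_ne_of_card ({1, t'} : Finset (S : Subgroup H)) (by
    rw [hS]; exact lt_of_le_of_lt Finset.card_le_two (by norm_num))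
  obtain ⟨b, hb⟩ := exists_ne_of_card ({1, t', a, a * t'} : Finset (S : Subgroup H)) (by
    rw [hS]; exact lt_of_le_of_lt Finset.card_le_four (by norm_num))
  simp only [Finset.mem_insert, Finset.mem_singleton, not_or] at ha hb
  set M₀ := four a b (hsq a) (hsq b) (hcomm a b) with hM₀
  have hM4 : Nat.card M₀ = 4 := card_four _ _ _ ha.1 hb.1 (Ne.symm hb.2.2.1)
  have htM : t' ∉ M₀ := by
    rintro (h | h | h | h)
    · exact ht' h
    · exact ha.2 h.symm
    · exact hb.2.1 h.symm
    · refine hb.2.2.2 ?_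
      rw [show a * t' = a * (a * b) by rw [← h], ← mul_assoc, hsq a, one_mul]
  set M := M₀.map (S : Subgroup H).subtype with hM
  have hrel : M.relIndex (S : Subgroup H) = 2 := by
    show (M.subgroupOf (S : Subgroup H)).index = 2
    rw [hM, Subgroup.subgroupOf, Subgroup.comap_map_eq_self_of_injective (Subgroup.subtype_injective _)]
    have h := M₀.card_mul_index
    rw [hM4, hS] at h
    omega
  have htM' : t ∉ M := by
    rintro ⟨x, hx, hxt⟩
    exact htM (by rwa [show t' = x from Subtype.ext hxt.symm])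
  obtain ⟨N, hN, hidx, htN⟩ := TwoTransfer.exists_index_two S M hrel t htS
    (fun k g hk _ => by
      have h1 : t ^ (2 ^ k) = 1 := by
        rw [← orderOf_dvd_iff_pow_eq_one, ht]
        exact dvd_pow_self 2 (by omega)
      rw [h1]; simp)
    (fun g _ => by rwa [mul_assoc, ← hc g, inv_mul_cancel_left])
  have hNcard : Nat.card N = 60 := by
    have h := N.card_mul_index
    rw [hidx, hcard] at h
    omega
  have hmem : ∀ (p : ℕ) (x : H), Odd p → orderOf x = p → x ∈ N := fun p x hp hx => by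
    obtain ⟨i, hi⟩ := hp
    have h1 : x = (x ^ (i + 1)) ^ 2 := by
      rw [← pow_mul, show (i + 1) * 2 = orderOf x + 1 by omega, pow_succ, pow_orderOf_eq_one, one_mul]
    rw [h1, pow_two]
    exact Subgroup.mul_self_mem_of_index_two hidx _
  have hout : ∀ h : H, h ∉ N → t * h ∈ N := fun h hh =>
    (Subgroup.mul_mem_iff_of_index_two hidx).2 ⟨fun h' => absurd h' htN, fun h' => absurd h' hh⟩
  haveI : Nontrivial N := Finite.one_lt_card_iff_nontrivial.1 (by rw [hNcard]; norm_num)
  haveI : IsSimpleGroup N := ⟨fun K hK => by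
    rcases eq_or_ne K ⊥ with h | hK1
    · exact Or.inl h
    right
    set K' := K.map N.subtype with hK'
    have hK'n : K'.Normal := ⟨by
      rintro _ ⟨k, hk, rfl⟩ g
      by_cases hg : g ∈ N
      · exact ⟨⟨g, hg⟩ * k * ⟨g, hg⟩⁻¹, hK.conj_mem k hk _, rfl⟩
      · refine ⟨⟨t * g, hout g hg⟩ * k * ⟨t * g, hout g hg⟩⁻¹, hK.conj_mem k hk _, ?_⟩
        show t * g * (k : H) * (t * g)⁻¹ = g * (k : H) * g⁻¹
        rw [mul_inv_rev, show t * g * (k : H) * (g⁻¹ * t⁻¹) = t * (g * (k : H) * g⁻¹) * t⁻¹ by group,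
          ← hc, mul_inv_cancel_right]⟩
    have hcardK : Nat.card K' = Nat.card K := Subgroup.card_map_of_injective N.subtype_injective
    have hdvd : Nat.card K' ∣ 60 := by rw [hcardK, ← hNcard]; exact K.card_subgroup_dvd_card
    have hKN : K' ≤ N := Subgroup.map_subtype_le K
    have key : ∀ (p : ℕ), p.Prime → ¬ p ^ 2 ∣ 120 → p ∣ Nat.card K' → ∀ x : H, orderOf x = p → x ∈ K' := by
      intro p hp hsq hd x hx
      haveI : Fact p.Prime := ⟨hp⟩
      obtain ⟨y, hy⟩ := exists_prime_orderOf_dvd_card' (G := K') p hd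
      obtain ⟨P, hP⟩ := (IsPGroup.of_card (n := 1) (by rw [Nat.card_zpowers, hx, pow_one]) :
        IsPGroup p (Subgroup.zpowers x)).exists_le_sylow
      obtain ⟨Q, hQ⟩ := (IsPGroup.of_card (n := 1)
        (by rw [Nat.card_zpowers, Subgroup.orderOf_coe, hy, pow_one]) :
        IsPGroup p (Subgroup.zpowers (y : H))).exists_le_sylow
      have hQ' : Subgroup.zpowers (y : H) = (Q : Subgroup H) := by
        refine Subgroup.eq_of_le_of_card_ge hQ ?_
        rw [Nat.card_zpowers, Subgroup.orderOf_coe, hy]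
        obtain ⟨i, hi⟩ := IsPGroup.iff_card.1 Q.isPGroup'
        rw [hi]
        refine le_of_le_of_eq (Nat.pow_le_pow_right hp.pos (?_ : i ≤ 1)) (pow_one p)
        by_contra hi'
        refine hsq ((pow_dvd_pow p (show 2 ≤ i by omega)).trans ?_)
        rw [← hi, ← hcard]
        exact (Q : Subgroup H).card_subgroup_dvd_card
      obtain ⟨g, hg⟩ := MulAction.exists_smul_eq H Q P
      have hxP := hP (Subgroup.mem_zpowers x)
      rw [← hg, Sylow.coe_subgroup_smul, ← hQ'] at hxP
      obtain ⟨z, hz, rfl⟩ := hxP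
      exact hK'n.conj_mem z ((Subgroup.zpowers_le.2 y.2) hz) g
    have b5 : 5 ∣ Nat.card K' → 25 ≤ Nat.card K' ∧ (3 ∣ Nat.card K' → 45 ≤ Nat.card K') := by
      intro hd
      haveI := Fintype.ofFinite K'
      have e1 : Nat.card {x : H // orderOf x = 5} ≤ Nat.card {x : K' // orderOf x = 5} :=
        Nat.card_le_card_of_injective (fun x => ⟨⟨x.1, key 5 (by norm_num) (by norm_num) hd x.1 x.2⟩,
          (Subgroup.orderOf_mk x.1 _).trans x.2⟩) fun x y e => Subtype.ext (congrArg (fun z => (z.1 : H)) e)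
      have h1 : 1 ≤ Nat.card {x : K' // orderOf x = 1} :=
        haveI : Nonempty {x : K' // orderOf x = 1} := ⟨⟨1, orderOf_one⟩⟩
        Nat.card_pos
      constructor
      · by_contra hlt
        refine count_contra (G := K') rfl [(1, 1), (5, 24)] (by decide) ?_ ?_
        · simp only [List.mem_cons, List.not_mem_nil, or_false, forall_eq_or_imp, forall_eq]
          exact ⟨h1, h5 ▸ e1⟩
        · simp only [List.map_cons, List.map_nil, List.sum_cons, List.sum_nil]; omega
      · intro hd3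
        have e2 : Nat.card {x : H // orderOf x = 3} ≤ Nat.card {x : K' // orderOf x = 3} :=
          Nat.card_le_card_of_injective (fun x => ⟨⟨x.1, key 3 (by norm_num) (by norm_num) hd3 x.1 x.2⟩,
            (Subgroup.orderOf_mk x.1 _).trans x.2⟩) fun x y e => Subtype.ext (congrArg (fun z => (z.1 : H)) e)
        by_contra hlt
        refine count_contra (G := K') rfl [(1, 1), (5, 24), (3, 20)] (by decide) ?_ ?_
        · simp only [List.mem_cons, List.not_mem_nil, or_false, forall_eq_or_imp, forall_eq]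
          exact ⟨h1, h5 ▸ e1, h3 ▸ e2⟩
        · simp only [List.map_cons, List.map_nil, List.sum_cons, List.sum_nil]; omega
    have b3 : 3 ∣ Nat.card K' → 21 ≤ Nat.card K' := by
      intro hd3
      have e2 : Nat.card {x : H // orderOf x = 3} ≤ Nat.card {x : K' // orderOf x = 3} :=
        Nat.card_le_card_of_injective (fun x => ⟨⟨x.1, key 3 (by norm_num) (by norm_num) hd3 x.1 x.2⟩,
          (Subgroup.orderOf_mk x.1 _).trans x.2⟩) fun x y e => Subtype.ext (congrArg (fun z => (z.1 : H)) e)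
      have h1 : 1 ≤ Nat.card {x : K' // orderOf x = 1} :=
        haveI : Nonempty {x : K' // orderOf x = 1} := ⟨⟨1, orderOf_one⟩⟩
        Nat.card_pos
      by_contra hlt
      refine count_contra (G := K') rfl [(1, 1), (3, 20)] (by decide) ?_ ?_
      · simp only [List.mem_cons, List.not_mem_nil, or_false, forall_eq_or_imp, forall_eq]
        exact ⟨h1, h3 ▸ e2⟩
      · simp only [List.map_cons, List.map_nil, List.sum_cons, List.sum_nil]; omega
    have hall : ∀ m ∈ Nat.divisors 60, (5 ∣ m → 25 ≤ m ∧ (3 ∣ m → 45 ≤ m)) → (3 ∣ m → 21 ≤ m) →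
        m = 60 ∨ m = 1 ∨ m = 2 ∨ m = 4 := by decide +kernel
    rcases hall _ (Nat.mem_divisors.2 ⟨hdvd, by norm_num⟩) b5 b3 with h60 | h1 | hsmall
    · exact Subgroup.eq_top_of_card_eq K (by rw [← hcardK, h60, hNcard])
    · exact absurd (Subgroup.eq_bot_of_card_eq K (hcardK.symm.trans h1)) hK1
    exfalso
    obtain ⟨k, hk⟩ := exists_prime_orderOf_dvd_card' (G := K') 2 (by rcases hsmall with h | h <;> rw [h] <;> norm_num)
    have hk2 : orderOf (k : H) = 2 := (Subgroup.orderOf_coe k).trans hk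
    have hkt : (k : H) ≠ t := fun h => htN (h ▸ hKN k.2)
    have hmul := Invol.card_isConj_mul_card_centralizer (k : H)
    have hle : Nat.card {y : H // IsConj (k : H) y} < 4 := by
      have h1 : Nat.card {y : H // IsConj (k : H) y} ≤ Nat.card {z : K' // z ≠ 1} :=
        Nat.card_le_card_of_injective (fun y => ⟨⟨y.1, by
          obtain ⟨g, hg⟩ := isConj_iff.1 y.2
          exact hg ▸ hK'n.conj_mem _ k.2 g⟩, fun h => by
            have h' : y.1 = 1 := congrArg Subtype.val h
            have := y.2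
            rw [h', isConj_one_left] at this
            rw [this, orderOf_one] at hk2
            omega⟩) fun x y e => Subtype.ext (congrArg (fun z => (z.1 : H)) e)
      haveI := Fintype.ofFinite K'
      rw [Nat.card_eq_fintype_card (α := {z : K' // z ≠ 1}), Fintype.card_subtype_compl, Fintype.card_subtype_eq,
        ← Nat.card_eq_fintype_card] at h1
      omega
    rw [hcard] at hmul
    have h5d : 5 ∣ Nat.card (Subgroup.centralizer ({(k : H)} : Set H)) := by
      have : 5 ∣ Nat.card {y : H // IsConj (k : H) y} * Nat.card (Subgroup.centralizer ({(k : H)} : Set H)) := by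
        rw [hmul]; norm_num
      refine ((Nat.Prime.dvd_mul (by norm_num)).1 this).resolve_left fun hd => ?_
      obtain ⟨j, hj⟩ := hd
      have hne : Nat.card {y : H // IsConj (k : H) y} ≠ 0 := fun h0 => by rw [h0, zero_mul] at hmul; omega
      omega
    obtain ⟨y, hy⟩ := exists_prime_orderOf_dvd_card' (G := Subgroup.centralizer ({(k : H)} : Set H)) 5 h5d
    exact hkt (hfour y k ((Subgroup.orderOf_coe y).trans hy) hk2 (Subgroup.mem_centralizer_singleton_iff.1 y.2))⟩
  obtain ⟨φ⟩ := Cfsg.Agent.Classical.Small.simple_sixty (G := N) hNcard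
  have two : ∀ z : Multiplicative (ZMod 2), z = 1 ∨ z = Multiplicative.ofAdd 1 := by decide
  let f : Multiplicative (ZMod 2) →* H :=
    { toFun := fun z => if z = 1 then 1 else t
      map_one' := if_pos rfl
      map_mul' := fun z w => by
        have hne : (Multiplicative.ofAdd 1 : Multiplicative (ZMod 2)) ≠ 1 := by decide
        have hm : (Multiplicative.ofAdd 1 : Multiplicative (ZMod 2)) * Multiplicative.ofAdd 1 = 1 := by decide
        rcases two z with rfl | rfl <;> rcases two w with rfl | rfl <;>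
          simp [hne, hm, mul_self_of_orderOf ht] }
  let F : Multiplicative (ZMod 2) × N →* H := f.noncommCoprod N.subtype fun z n => by
    show Commute (if z = 1 then (1 : H) else t) (n : H)
    split_ifs
    · exact Commute.one_left _
    · exact (hc n).symm
  have hF : Function.Bijective F := by
    haveI : Finite (Multiplicative (ZMod 2) × N) := inferInstance
    rw [Nat.bijective_iff_injective_and_card, Nat.card_prod, hNcard, hcard,
      show Nat.card (Multiplicative (ZMod 2)) = 2 by simp]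
    refine ⟨(injective_iff_map_eq_one F).2 fun a ha => ?_, rfl⟩
    obtain ⟨z, n⟩ := a
    change (if z = 1 then (1 : H) else t) * (n : H) = 1 at ha
    by_cases hz : z = 1
    · rw [if_pos hz, one_mul] at ha
      exact Prod.ext hz (Subtype.ext ha)
    · rw [if_neg hz] at ha
      refine absurd ?_ htN
      rw [eq_inv_of_mul_eq_one_left ha]
      exact N.inv_mem n.2
  exact ⟨(MulEquiv.ofBijective F hF).symm.trans (MulEquiv.prodCongr (MulEquiv.refl _) φ)⟩

/-! ### General counting lemmas -/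

theorem dvd_of_not_dvd {d p m : ℕ} (hp : p.Prime) (h : d ∣ p * m) (hn : ¬ p ∣ d) : d ∣ m :=
  ((hp.coprime_iff_not_dvd.2 hn).symm).dvd_of_dvd_mul_left h

theorem loc_ne_top_cent {p n c e : ℕ} [Fact p.Prime] (h : Loc G p n c e) (P : Sylow p G) :
    Subgroup.centralizer ((P : Subgroup G) : Set G) ≠ ⊤ := fun ht => by
  have hc := h.cent P
  rw [ht, Subgroup.card_top, h.card] at hc
  have h1 : 1 ≤ n := by
    by_contra h0
    have := h.mod
    rw [show n = 0 by omega] at this
    simp at this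
  have h2 := h.two_le
  have h3 : 0 < p * c := Nat.pos_of_ne_zero fun h0 => by
    have := Nat.card_pos (α := G)
    rw [h.card, h0] at this
    simp at this
  have : p * c * 2 ≤ n * (p * c * e) :=
    le_trans (Nat.mul_le_mul_left _ h2) (Nat.le_mul_of_pos_left _ h1)
  omega

theorem self_le_centralizer {p n c e : ℕ} [hp : Fact p.Prime] (h : Loc G p n c e) (P : Sylow p G) :
    (P : Subgroup G) ≤ Subgroup.centralizer ((P : Subgroup G) : Set G) := by
  intro x hx
  haveI : IsCyclic (P : Subgroup G) := isCyclic_of_prime_card (h.sylow P)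
  refine Subgroup.mem_centralizer_iff.2 fun y hy => ?_
  letI := IsCyclic.commGroup (α := (P : Subgroup G))
  exact congrArg Subtype.val (mul_comm (⟨y, hy⟩ : (P : Subgroup G)) ⟨x, hx⟩)

/-- A Sylow subgroup is central in its centraliser, so it normalises the Sylow subgroups there. -/
theorem dvd_inf {p q n c e n' c' e' : ℕ} [Fact p.Prime] [Fact q.Prime] (h : Loc G p n c e)
    (h' : Loc G q n' c' e') (hpq : p ≠ q) (P : Sylow p G) (Q : Sylow q G) (H : Subgroup G)
    (hPH : (P : Subgroup G) ≤ H) (hQH : (Q : Subgroup G) ≤ H)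
    (hcm : (Q : Subgroup G) ≤ Subgroup.centralizer ((P : Subgroup G) : Set G)) :
    p * q ∣ Nat.card ↥(Subgroup.normalizer ((Q : Subgroup G) : Set G) ⊓ H) := by
  refine Nat.Coprime.mul_dvd_of_dvd_of_dvd ((Nat.coprime_primes Fact.out Fact.out).2 hpq) ?_ ?_
  · rw [← h.sylow P]
    exact Subgroup.card_dvd_of_le
      (le_inf ((Subgroup.le_centralizer_iff.1 hcm).trans (Subgroup.centralizer_le_normalizer _)) hPH)
  · exact (h'.sylow Q).symm.dvd.trans (Subgroup.card_dvd_of_le (le_inf Subgroup.le_normalizer hQH))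

theorem one_le_of_witness {A : Type*} [Group A] [Finite A] {k : ℕ} (g : A) (hg : orderOf g = k) :
    1 ≤ Nat.card {x : A // orderOf x = k} :=
  haveI : Nonempty {x : A // orderOf x = k} := ⟨⟨g, hg⟩⟩
  Nat.card_pos

theorem class_le_two {t : G} (ht : orderOf t = 2) :
    Nat.card {x : G // IsConj t x} ≤ Nat.card {x : G // orderOf x = 2} :=
  Nat.card_le_card_of_injective (fun x => ⟨x.1, by
    obtain ⟨g, hg⟩ := isConj_iff.1 x.2
    rw [← hg, show g * t * g⁻¹ = MulAut.conj g t from rfl, MulEquiv.orderOf_eq, ht]⟩)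
    fun x y e => Subtype.ext (congrArg Subtype.val e :)

/-- Two involutions for each Sylow subgroup. -/
theorem two_each {p n c e : ℕ} [hp : Fact p.Prime] (h : Loc G p n c e) (hp2 : p ≠ 2)
    (hP : ∀ P : Sylow p G, ∃ u : Fin 2 → G, Function.Injective u ∧ ∀ i, orderOf (u i) = 2 ∧
      u i ∈ Subgroup.centralizer ((P : Subgroup G) : Set G)) :
    n * ((p - 1) * 2) ≤ Nat.card {g : G // orderOf g = 2 * p} := by
  classical
  haveI := Fintype.ofFinite (Sylow p G)
  choose u hu hu2 using hP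
  have hxo : ∀ (P : Sylow p G) (x : (P : Subgroup G)), x ≠ 1 → orderOf (x : G) = p := fun P x hx => by
    rw [Subgroup.orderOf_coe]
    exact ((Nat.dvd_prime hp.out).1 ((orderOf_dvd_natCard x).trans (h.sylow P).dvd)).resolve_left
      fun h1 => hx (orderOf_eq_one_iff.1 h1)
  have hcm : ∀ (P : Sylow p G) (x : (P : Subgroup G)) (i : Fin 2), Commute (u P i) (x : G) := fun P x i =>
    (Subgroup.mem_centralizer_iff.1 (hu2 P i).2 _ x.2).symm
  let F : (Σ P : Sylow p G, {x : (P : Subgroup G) // x ≠ 1} × Fin 2) → {g : G // orderOf g = 2 * p} := fun a =>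
    ⟨u a.1 a.2.2 * (a.2.1.1 : G), by
      rw [(hcm _ _ _).orderOf_mul_eq_mul_orderOf_of_coprime (by
        rw [(hu2 _ _).1, hxo _ _ a.2.1.2]; exact (Nat.coprime_primes Nat.prime_two hp.out).2 (Ne.symm hp2)),
        (hu2 _ _).1, hxo _ _ a.2.1.2]⟩
  have hF : Function.Injective F := by
    rintro ⟨P, ⟨x, hx⟩, i⟩ ⟨P', ⟨x', hx'⟩, i'⟩ he
    have he' : u P i * (x : G) = u P' i' * (x' : G) := congrArg Subtype.val he
    have key : ∀ (P : Sylow p G) (x : (P : Subgroup G)) (i : Fin 2), (u P i * (x : G)) ^ (p + 1) = x := by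
      intro P x i
      have h1 : (x : G) ^ p = 1 := by
        have := pow_card_eq_one' (x := x)
        rw [h.sylow P] at this
        exact congrArg Subtype.val this
      obtain ⟨k, hk⟩ := hp.out.odd_of_ne_two hp2
      have h2 : u P i ^ (p + 1) = 1 := by
        rw [show p + 1 = 2 * (k + 1) by omega, pow_mul, ← (hu2 P i).1, pow_orderOf_eq_one, one_pow]
      rw [(hcm P x i).mul_pow, h2, one_mul, pow_succ, h1, one_mul]
    have hxx : (x : G) = x' := by rw [← key P x i, he', key P' x' i']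
    have hgen : ∀ (Q : Sylow p G) (x : (Q : Subgroup G)), x ≠ 1 → Subgroup.zpowers (x : G) = (Q : Subgroup G) :=
      fun Q x hx => Subgroup.eq_of_le_of_card_ge (Subgroup.zpowers_le.2 x.2)
        (by rw [h.sylow, Nat.card_zpowers, hxo Q x hx])
    obtain rfl : P = P' := Sylow.ext (by rw [← hgen P x hx, hxx, hgen P' x' hx'])
    obtain rfl : x = x' := Subtype.ext hxx
    obtain rfl : i = i' := hu P (mul_right_cancel he')
    rfl
  refine le_trans (le_of_eq ?_) (Nat.card_le_card_of_injective F hF)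
  rw [Nat.card_sigma, Finset.sum_congr rfl (g := fun _ => (p - 1) * 2) fun P _ => ?_,
    Finset.sum_const, Finset.card_univ, smul_eq_mul, ← Nat.card_eq_fintype_card, h.count]
  haveI := Fintype.ofFinite (P : Subgroup G)
  rw [Nat.card_prod, Nat.card_fin, Nat.card_eq_fintype_card, Fintype.card_subtype_compl,
    Fintype.card_subtype_eq, ← Nat.card_eq_fintype_card, h.sylow]

/-! ### The simple group -/

theorem not_comm [IsSimpleGroup G] (hN : Nat.card G = 175560) : ¬ IsMulCommutative G := fun hc => by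
  letI : CommGroup G := { ‹Group G› with mul_comm := fun a b => hc.1.comm a b }
  have h := (IsSimpleGroup.prime_card (α := G))
  rw [hN] at h
  norm_num at h

theorem cent_ne_top [IsSimpleGroup G] (hna : ¬ IsMulCommutative G) {t : G} (ht : orderOf t = 2) :
    Subgroup.centralizer ({t} : Set G) ≠ ⊤ := fun hD => by
  have : t ∈ Subgroup.center G := Subgroup.mem_center_iff.2 fun g =>
    Subgroup.mem_centralizer_singleton_iff.1 (hD ▸ Subgroup.mem_top g : g ∈ Subgroup.centralizer ({t} : Set G))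
  rw [SmallOrder.center_eq_bot hna, Subgroup.mem_bot] at this
  rw [this, orderOf_one] at ht
  omega

theorem normal19 (hN : Nat.card G = 175560) (P : Sylow 19 G) (H : Subgroup G) (hH : H ≠ ⊤)
    (hPH : (P : Subgroup G) ≤ H) (hP : Nat.card (P : Subgroup G) = 19) :
    H ≤ Subgroup.normalizer ((P : Subgroup G) : Set G) := by
  have hlt : Nat.card H < 175560 :=
    hN ▸ lt_of_le_of_ne H.card_le_card_group fun h => hH (Subgroup.eq_top_of_card_eq H h)
  have hn : ((P.subtype hPH : Sylow 19 H) : Subgroup H).Normal :=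
    below 175560 le_rfl H hlt (hN ▸ H.card_subgroup_dvd_card) (hP ▸ Subgroup.card_dvd_of_le hPH) _
  rw [← Subgroup.normal_subgroupOf_iff_le_normalizer hPH]
  exact hn

theorem eight_dvd [IsSimpleGroup G] (hN : Nat.card G = 175560) (hna : ¬ IsMulCommutative G) {t : G}
    (ht : orderOf t = 2) : 8 ∣ Nat.card (Subgroup.centralizer ({t} : Set G)) := by
  obtain ⟨S⟩ : Nonempty (Sylow 2 G) := inferInstance
  have hS : Nat.card (S : Subgroup G) = 8 := by
    simpa using SmallOrder.card_sylow_eq_pow (a := 3) (m := 21945) (by rw [hN]; norm_num) (by norm_num) S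
  exact eight_dvd_centralizer hna S hS t ht

theorem not19_even [IsSimpleGroup G] (hN : Nat.card G = 175560) (hna : ¬ IsMulCommutative G) {n c e : ℕ}
    (h : Loc G 19 n c e) (hc : 2 ∣ c) : 8 ∣ 19 * c * e := by
  obtain ⟨P⟩ : Nonempty (Sylow 19 G) := inferInstance
  obtain ⟨t, ht, -, hP⟩ := h.exists_invol hc P
  rw [← h.norm P]
  exact (eight_dvd hN hna ht).trans
    (Subgroup.card_dvd_of_le (normal19 hN P _ (cent_ne_top hna ht) hP (h.sylow P)))

variable {n3 c3 e3 n5 c5 e5 n7 c7 e7 n11 c11 e11 n19 c19 e19 : ℕ}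

theorem case19_three (hN : Nat.card G = 175560) (h19 : Loc G 19 1540 3 e19) (h11 : Loc G 11 n11 c11 e11)
    (h7 : Loc G 7 n7 c7 e7) (h5 : Loc G 5 n5 c5 e5) (h3 : Loc G 3 n3 c3 e3)
    (x11 : Check 11 (n11 / 11)) (x7 : Check 7 (n7 / 7)) (x5 : Check 5 (n5 / 5)) (x3 : Check 3 (n3 / 3)) :
    False := by
  have he : e19 = 2 := by have := h19.card; rw [hN] at this; omega
  subst he
  have h19c : 19 ∣ c3 := h19.adj h3 (by norm_num) dvd_rfl
  obtain ⟨P3⟩ : Nonempty (Sylow 3 G) := inferInstance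
  obtain ⟨P, hP⟩ := h19.exists_le (Subgroup.centralizer ((P3 : Subgroup G) : Set G))
    (by rw [h3.cent P3]; exact h19c.mul_left 3)
  have hd := Subgroup.card_dvd_of_le (normal19 hN P _ (loc_ne_top_cent h3 P3) hP (h19.sylow P))
  rw [h3.cent P3, h19.norm P] at hd
  have hd' : c3 ∣ 38 := Nat.dvd_of_mul_dvd_mul_left (by norm_num : 0 < 3) (by simpa using hd)
  have o3 := options (m := 58520) h3 (by rw [hN]) (Or.inl x3) (by norm_num) (by norm_num) [] (by simp)
    [(10, 2926), (22, 1330), (28, 1045), (55, 532), (70, 418), (76, 385), (133, 220), (154, 190), (190, 154),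
      (220, 133), (385, 76), (418, 70), (532, 55), (1045, 28), (1330, 22), (1540, 19), (2926, 10), (4180, 7),
      (7315, 4), (29260, 1)] (by decide +kernel)
  simp only [List.mem_cons, Prod.mk.injEq, List.not_mem_nil, or_false] at o3
  obtain ⟨rfl, rfl⟩ : n3 = 1540 ∧ c3 = 19 := by
    have := Nat.le_of_dvd (by norm_num) hd'
    omega
  clear o3 hd hd' h19c
  have b19 : ∀ {p n c e : ℕ} [Fact p.Prime], Loc G p n c e → p ≠ 19 → p ≠ 3 → ¬ 19 ∣ c := fun h hp hp' hd => by
    have := h.adj h19 hp hd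
    exact hp' ((Nat.prime_dvd_prime_iff_eq Fact.out Nat.prime_three).1 this)
  have b3 : ∀ {p n c e : ℕ} [Fact p.Prime], Loc G p n c e → p ≠ 3 → p ≠ 19 → ¬ 3 ∣ c := fun h hp hp' hd => by
    have := h.adj h3 hp hd
    exact hp' ((Nat.prime_dvd_prime_iff_eq Fact.out (by norm_num)).1 this)
  have o5 := options (m := 35112) h5 (by rw [hN]) (Or.inl x5) (by norm_num) (by norm_num) [3, 19]
    (by simpa using ⟨b3 h5 (by norm_num) (by norm_num), b19 h5 (by norm_num) (by norm_num)⟩)
    [(1596, 11), (17556, 1)] (by decide +kernel)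
  have o11 := options (m := 15960) h11 (by rw [hN]) (Or.inl x11) (by norm_num) (by norm_num) [3, 19]
    (by simpa using ⟨b3 h11 (by norm_num) (by norm_num), b19 h11 (by norm_num) (by norm_num)⟩)
    [(1596, 1), (1596, 2), (1596, 5)] (by decide +kernel)
  simp only [List.mem_cons, Prod.mk.injEq, List.not_mem_nil, or_false] at o5 o11
  have o7 := options (m := 25080) h7 (by rw [hN]) (Or.inl x7) (by norm_num) (by norm_num) [3, 19, 5, 11]
    (by simpa using ⟨b3 h7 (by norm_num) (by norm_num), b19 h7 (by norm_num) (by norm_num),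
      fun hd => by
        have := h7.adj h5 (by norm_num) hd
        rcases o5 with ⟨-, rfl⟩ | ⟨-, rfl⟩ <;> norm_num at this,
      fun hd => by
        have := h7.adj h11 (by norm_num) hd
        rcases o11 with ⟨-, rfl⟩ | ⟨-, rfl⟩ | ⟨-, rfl⟩ <;> norm_num at this⟩)
    [(4180, 1), (4180, 2)] (by decide +kernel)
  simp only [List.mem_cons, Prod.mk.injEq, List.not_mem_nil, or_false] at o7
  obtain rfl : n7 = 4180 := by omega
  obtain rfl : n11 = 1596 := by omega
  rcases o5 with ⟨rfl, rfl⟩ | ⟨rfl, rfl⟩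
  · refine count_contra hN [(19, 27720), (19 * 3, 55440), (3, 3080), (11, 15960), (7, 25080), (5, 6384),
      (5 * 11, 63840)] (by decide) ?_ (by norm_num)
    simp only [List.mem_cons, List.not_mem_nil, or_false, forall_eq_or_imp, forall_eq]
    exact ⟨h19.card_orderOf.ge, h19.card_orderOf_mul (by norm_num) dvd_rfl, h3.card_orderOf.ge,
      h11.card_orderOf.ge, h7.card_orderOf.ge, h5.card_orderOf.ge, h5.card_orderOf_mul (by norm_num) dvd_rfl⟩
  · refine count_contra hN [(19, 27720), (19 * 3, 55440), (3, 3080), (11, 15960), (7, 25080), (5, 70224)]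
      (by decide) ?_ (by norm_num)
    simp only [List.mem_cons, List.not_mem_nil, or_false, forall_eq_or_imp, forall_eq]
    exact ⟨h19.card_orderOf.ge, h19.card_orderOf_mul (by norm_num) dvd_rfl, h3.card_orderOf.ge,
      h11.card_orderOf.ge, h7.card_orderOf.ge, h5.card_orderOf.ge⟩

theorem case7_ten (hN : Nat.card G = 175560) (h7 : Loc G 7 1254 10 e7) (h5 : Loc G 5 n5 c5 e5)
    (x5 : Check 5 (n5 / 5)) (b19 : ¬ 19 ∣ c5) : False := by
  have he : e7 = 2 := by have := h7.card; rw [hN] at this; omega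
  subst he
  have h7c : 7 ∣ c5 := h7.adj h5 (by norm_num) (by norm_num)
  have o5 := options (m := 35112) h5 (by rw [hN]) (Or.inl x5) (by norm_num) (by norm_num) [19]
    (by simpa using b19)
    [(76, 231), (266, 33), (266, 66), (836, 21), (1596, 11), (2926, 3), (2926, 6), (17556, 1)]
    (by decide +kernel)
  simp only [List.mem_cons, Prod.mk.injEq, List.not_mem_nil, or_false] at o5
  obtain ⟨P7⟩ : Nonempty (Sylow 7 G) := inferInstance
  set H := Subgroup.normalizer ((P7 : Subgroup G) : Set G) with hH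
  have hHc : Nat.card H = 140 := by rw [h7.norm P7]
  obtain ⟨P, hP⟩ := h5.exists_le H (by rw [hHc]; norm_num)
  obtain ⟨m, hm, hmX, hX, -, -⟩ := h5.sub P H hP
  rw [hHc] at hmX
  have hm1 : m = 1 := by
    have hall : ∀ k ∈ Nat.divisors 140, k % 5 = 1 → k = 1 := by decide +kernel
    exact hall m (Nat.mem_divisors.2 ⟨⟨_, hmX⟩, by norm_num⟩) hm
  rw [hm1, one_mul] at hmX
  rw [← hmX] at hX
  have hc := h5.card
  rw [hN] at hc
  rcases o5 with ⟨rfl, rfl⟩ | ⟨rfl, rfl⟩ | ⟨rfl, rfl⟩ | ⟨rfl, rfl⟩ | ⟨rfl, rfl⟩ | ⟨rfl, rfl⟩ | ⟨rfl, rfl⟩ |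
      ⟨rfl, rfl⟩ <;> norm_num at h7c <;>
    (have he5 : e5 = 2 := by omega
     subst he5
     norm_num at hX)

theorem case7_three (hN : Nat.card G = 175560) (h19 : Loc G 19 1540 1 e19) (h11 : Loc G 11 1596 c11 e11)
    (h7 : Loc G 7 4180 3 e7) (h5 : Loc G 5 n5 c5 e5) (h3 : Loc G 3 n3 c3 e3)
    (x5 : Check 5 (n5 / 5)) (x3 : Check 3 (n3 / 3)) (hc11 : ¬ 3 ∣ c11) : False := by
  have he : e7 = 2 := by have := h7.card; rw [hN] at this; omega
  subst he
  have h7c : 7 ∣ c3 := h7.adj h3 (by norm_num) dvd_rfl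
  have o3 := options (m := 58520) h3 (by rw [hN]) (Or.inl x3) (by norm_num) (by norm_num) [19, 11]
    (by simpa using ⟨fun hd => by simpa using h3.adj h19 (by norm_num) hd,
      fun hd => hc11 (h3.adj h11 (by norm_num) hd)⟩)
    [(418, 70), (1045, 28), (2926, 10), (4180, 7), (7315, 4), (29260, 1)] (by decide +kernel)
  simp only [List.mem_cons, Prod.mk.injEq, List.not_mem_nil, or_false] at o3
  obtain ⟨P3⟩ : Nonempty (Sylow 3 G) := inferInstance
  set H := Subgroup.centralizer ((P3 : Subgroup G) : Set G) with hH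
  obtain ⟨P, hP⟩ := h7.exists_le H (by rw [h3.cent P3]; exact h7c.mul_left 3)
  obtain ⟨m, hm, hmX, hX, -, -⟩ := h7.sub P H hP
  have h21 := dvd_inf h3 h7 (by norm_num) P3 P H (self_le_centralizer h3 P3) hP hP
  rw [h3.cent P3] at hmX
  generalize Nat.card ↥(Subgroup.normalizer ((P : Subgroup G) : Set G) ⊓ H) = X at hmX hX h21
  have hX' : X = 21 ∨ X = 42 := by
    have hall : ∀ k ∈ Nat.divisors (7 * 3 * 2), 3 * 7 ∣ k → k = 21 ∨ k = 42 := by decide +kernel
    exact hall X (Nat.mem_divisors.2 ⟨hX, by norm_num⟩) h21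
  obtain ⟨rfl, rfl⟩ : n3 = 4180 ∧ c3 = 7 := by
    rcases o3 with ⟨rfl, rfl⟩ | ⟨rfl, rfl⟩ | ⟨rfl, rfl⟩ | ⟨rfl, rfl⟩ | ⟨rfl, rfl⟩ | ⟨rfl, rfl⟩ <;>
      first
      | exact ⟨rfl, rfl⟩
      | omega
      | (exfalso; rcases hX' with rfl | rfl <;> omega)
  have o5 := options (m := 35112) h5 (by rw [hN]) (Or.inl x5) (by norm_num) (by norm_num) [19, 7, 3]
    (by simpa using ⟨fun hd => by simpa using h5.adj h19 (by norm_num) hd,
      fun hd => by simpa using h5.adj h7 (by norm_num) hd,
      fun hd => by simpa using h5.adj h3 (by norm_num) hd⟩)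
    [(1596, 11), (17556, 1)] (by decide +kernel)
  simp only [List.mem_cons, Prod.mk.injEq, List.not_mem_nil, or_false] at o5
  rcases o5 with ⟨rfl, rfl⟩ | ⟨rfl, rfl⟩
  · refine count_contra hN [(19, 27720), (11, 15960), (7, 25080), (7 * 3, 50160), (3, 8360), (5, 6384),
      (5 * 11, 63840)] (by decide) ?_ (by norm_num)
    simp only [List.mem_cons, List.not_mem_nil, or_false, forall_eq_or_imp, forall_eq]
    exact ⟨h19.card_orderOf.ge, h11.card_orderOf.ge, h7.card_orderOf.ge,
      h7.card_orderOf_mul (by norm_num) dvd_rfl, h3.card_orderOf.ge, h5.card_orderOf.ge,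
      h5.card_orderOf_mul (by norm_num) dvd_rfl⟩
  · refine count_contra hN [(19, 27720), (11, 15960), (7, 25080), (7 * 3, 50160), (3, 8360), (5, 70224)]
      (by decide) ?_ (by norm_num)
    simp only [List.mem_cons, List.not_mem_nil, or_false, forall_eq_or_imp, forall_eq]
    exact ⟨h19.card_orderOf.ge, h11.card_orderOf.ge, h7.card_orderOf.ge,
      h7.card_orderOf_mul (by norm_num) dvd_rfl, h3.card_orderOf.ge, h5.card_orderOf.ge⟩

theorem case7_two [IsSimpleGroup G] (hN : Nat.card G = 175560) (hna : ¬ IsMulCommutative G)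
    (h19 : Loc G 19 1540 1 e19) (h7 : Loc G 7 4180 2 e7) : False := by
  have he : e7 = 3 := by have := h7.card; rw [hN] at this; omega
  subst he
  obtain ⟨P⟩ : Nonempty (Sylow 7 G) := inferInstance
  obtain ⟨t, ht, -, hP⟩ := h7.exists_invol dvd_rfl P
  set H := Subgroup.centralizer ({t} : Set G) with hH
  obtain ⟨m, hm, hmX, hX, -, -⟩ := h7.sub P H hP
  have h14 := dvd_normalizer_inf h7 (by norm_num) P ht hP
  have h8 := eight_dvd hN hna ht
  have hd : Nat.card H ∣ 9240 := dvd_of_not_dvd (by norm_num : Nat.Prime 19)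
    (by have := H.card_subgroup_dvd_card; rw [hN] at this; exact this) fun hd => by simpa using h19.two_dvd (by norm_num) ht hd
  rw [← hH] at h14 h8
  rw [hmX] at h8 hd
  generalize Nat.card ↥(Subgroup.normalizer ((P : Subgroup G) : Set G) ⊓ H) = X at hX h14 h8 hd
  have hall : ∀ x ∈ Nat.divisors 42, 14 ∣ x → ∀ k ∈ Nat.divisors 9240, k % 7 = 1 → k * x ∣ 9240 →
      ¬ 8 ∣ k * x := by decide +kernel
  exact hall X (Nat.mem_divisors.2 ⟨hX, by norm_num⟩) h14 m
    (Nat.mem_divisors.2 ⟨(dvd_mul_right m X).trans hd, by norm_num⟩) hm hd h8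

theorem card_cent_dvd (hN : Nat.card G = 175560) (h19 : Loc G 19 1540 1 e19) (h7 : Loc G 7 4180 1 e7)
    {t : G} (ht : orderOf t = 2) : Nat.card (Subgroup.centralizer ({t} : Set G)) ∣ 1320 :=
  dvd_of_not_dvd (by norm_num : Nat.Prime 7)
    (dvd_of_not_dvd (by norm_num : Nat.Prime 19)
      (show _ ∣ 19 * (7 * 1320) by
        have := Subgroup.card_subgroup_dvd_card (Subgroup.centralizer ({t} : Set G))
        rw [hN] at this
        exact this)
      fun hd => by simpa using h19.two_dvd (by norm_num) ht hd)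
    fun hd => by simpa using h7.two_dvd (by norm_num) ht hd

theorem case11_two [IsSimpleGroup G] (hN : Nat.card G = 175560) (hna : ¬ IsMulCommutative G)
    (h19 : Loc G 19 1540 1 e19) (h7 : Loc G 7 4180 1 e7) (h11 : Loc G 11 1596 2 e11)
    (h5 : Loc G 5 n5 c5 e5) (h3 : Loc G 3 n3 c3 e3)
    (o5 : (n5, c5) ∈ [(266, 33), (266, 66), (1596, 11), (2926, 3), (2926, 6), (17556, 1)])
    (o3 : (n3, c3) ∈ [(2926, 10), (7315, 4), (29260, 1)]) : False := by
  simp only [List.mem_cons, Prod.mk.injEq, List.not_mem_nil, or_false] at o5 o3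
  have he : e11 = 5 := by have := h11.card; rw [hN] at this; omega
  subst he
  obtain ⟨P⟩ : Nonempty (Sylow 11 G) := inferInstance
  obtain ⟨t, ht, -, hP⟩ := h11.exists_invol dvd_rfl P
  have hd := card_cent_dvd hN h19 h7 ht
  have h8 := eight_dvd hN hna ht
  set H := Subgroup.centralizer ({t} : Set G) with hH
  obtain ⟨m, hm, hmX, hX, -, hcnt⟩ := h11.sub P H hP
  have h22 := dvd_normalizer_inf h11 (by norm_num) P ht hP
  rw [← hH] at h22
  generalize Nat.card ↥(Subgroup.normalizer ((P : Subgroup G) : Set G) ⊓ H) = X at hmX hX h22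
  have hmX' : m = 12 ∧ (m * X = 264 ∨ m * X = 1320) := by
    have hall : ∀ x ∈ Nat.divisors 110, 22 ∣ x → ∀ k ∈ Nat.divisors 1320, k % 11 = 1 → k * x ∣ 1320 →
        8 ∣ k * x → k = 12 ∧ (k * x = 264 ∨ k * x = 1320) := by decide +kernel
    rw [hmX] at hd h8
    exact hall X (Nat.mem_divisors.2 ⟨hX, by norm_num⟩) h22 m
      (Nat.mem_divisors.2 ⟨(dvd_mul_right m X).trans hd, by norm_num⟩) hm hd h8
  obtain ⟨rfl, hsize⟩ := hmX'
  rw [← hmX] at hsize
  have htH : t ∈ H := Subgroup.mem_centralizer_singleton_iff.2 rfl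
  have hto : orderOf (⟨t, htH⟩ : H) = 2 := (Subgroup.orderOf_mk t htH).trans ht
  have hcen : ∀ x : H, Commute x ⟨t, htH⟩ := fun x =>
    Subtype.ext (Subgroup.mem_centralizer_singleton_iff.1 x.2)
  have hdouble : ∀ (p : ℕ) [Fact p.Prime], p ≠ 2 →
      Nat.card {x : H // orderOf x = p} ≤ Nat.card {x : H // orderOf x = 2 * p} := fun p _ hp =>
    card_orderOf_two_mul hp _ hto hcen
  have a11 : 120 ≤ Nat.card {x : H // orderOf x = 11} := hcnt.ge
  have a22 := a11.trans (hdouble 11 (by norm_num))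
  obtain ⟨P3, hP3⟩ := h3.exists_le H (by rcases hsize with h | h <;> rw [h] <;> norm_num)
  have hc3 : 2 ∣ c3 := h3.two_dvd (by norm_num) ht (by rcases hsize with h | h <;> rw [← hH, h] <;> norm_num)
  obtain ⟨m3, hm3, hmX3, hX3, -, hcnt3⟩ := h3.sub P3 H hP3
  have h6 := dvd_normalizer_inf h3 (by norm_num) P3 ht hP3
  rw [← hH] at h6
  have hN3 : 3 * c3 * e3 = 60 ∨ 3 * c3 * e3 = 24 := by
    have he : e3 = 2 := by
      have h1 := Nat.le_of_dvd (by norm_num) h3.e_dvd
      have := h3.two_le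
      omega
    subst he
    omega
  rcases hsize with hsize | hsize
  · rw [hsize] at hmX3
    generalize Nat.card ↥(Subgroup.normalizer ((P3 : Subgroup G) : Set G) ⊓ H) = X3 at hmX3 hX3 h6
    have hall : ∀ x ∈ Nat.divisors 264, 2 * 3 ∣ x → (x ∣ 60 ∨ x ∣ 24) → ∀ k ∈ Nat.divisors 264,
        k % 3 = 1 → 264 = k * x → k = 22 := by decide +kernel
    have hk : m3 = 22 := hall X3 (Nat.mem_divisors.2 ⟨Dvd.intro_left m3 hmX3.symm, by norm_num⟩) h6
      (hN3.imp (fun h => by rwa [h] at hX3) fun h => by rwa [h] at hX3) m3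
      (Nat.mem_divisors.2 ⟨Dvd.intro X3 hmX3.symm, by norm_num⟩) hm3 hmX3
    subst hk
    have a3 : 44 ≤ Nat.card {x : H // orderOf x = 3} := hcnt3.ge
    refine count_contra (G := H) hsize [(11, 120), (2 * 11, 120), (3, 44), (2 * 3, 44)] (by decide) ?_
      (by norm_num)
    simp only [List.mem_cons, List.not_mem_nil, or_false, forall_eq_or_imp, forall_eq]
    exact ⟨a11, a22, a3, a3.trans (hdouble 3 (by norm_num))⟩
  · obtain ⟨P5₀, hP5₀⟩ := h5.exists_le H (by rw [hsize]; norm_num)
    have hc5 : 2 ∣ c5 := h5.two_dvd (by norm_num) ht (by rw [← hH, hsize]; norm_num)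
    obtain ⟨rfl, rfl⟩ : n5 = 2926 ∧ c5 = 6 := by
      rcases o5 with ⟨rfl, rfl⟩ | ⟨rfl, rfl⟩ | ⟨rfl, rfl⟩ | ⟨rfl, rfl⟩ | ⟨rfl, rfl⟩ | ⟨rfl, rfl⟩ <;>
        first
        | exact ⟨rfl, rfl⟩
        | omega
        | (exfalso
           have := h5.adj h11 (by norm_num) (by norm_num : (11 : ℕ) ∣ 66)
           norm_num at this)
    have he5 : e5 = 2 := by have := h5.card; rw [hN] at this; omega
    subst he5
    have h5c : 5 ∣ c3 := h5.adj h3 (by norm_num) (by norm_num)
    obtain ⟨rfl, rfl⟩ : n3 = 2926 ∧ c3 = 10 := by omega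
    have he3 : e3 = 2 := by have := h3.card; rw [hN] at this; omega
    subst he3
    have key5 : ∀ Q : Sylow 5 G, (Q : Subgroup G) ≤ H →
        Nat.card ↥(Subgroup.normalizer ((Q : Subgroup G) : Set G) ⊓ H) = 20 ∧
        264 ≤ Nat.card {x : H // orderOf x = 5} := by
      intro Q hQ
      obtain ⟨k, hk, hkX, hX5, -, hc⟩ := h5.sub Q H hQ
      have h10 := dvd_normalizer_inf h5 (by norm_num) Q ht hQ
      rw [← hH] at h10
      rw [hsize] at hkX
      generalize Nat.card ↥(Subgroup.normalizer ((Q : Subgroup G) : Set G) ⊓ H) = X5 at hkX hX5 h10 ⊢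
      have hall : ∀ x ∈ Nat.divisors 60, 2 * 5 ∣ x → ∀ j ∈ Nat.divisors 1320, j % 5 = 1 → 1320 = j * x →
          x = 20 ∧ j = 66 := by decide +kernel
      obtain ⟨rfl, rfl⟩ := hall X5 (Nat.mem_divisors.2 ⟨hX5, by norm_num⟩) h10 k
        (Nat.mem_divisors.2 ⟨Dvd.intro X5 hkX.symm, by norm_num⟩) hk hkX
      exact ⟨rfl, hc.ge⟩
    rw [hsize] at hmX3
    have hall : ∀ x ∈ Nat.divisors 60, 2 * 3 ∣ x → ∀ j ∈ Nat.divisors 1320, j % 3 = 1 → 1320 = j * x →
        x = 60 ∨ j = 220 := by decide +kernel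
    rcases hall _ (Nat.mem_divisors.2 ⟨hX3, by norm_num⟩) h6 m3
      (Nat.mem_divisors.2 ⟨Dvd.intro _ hmX3.symm, by norm_num⟩) hm3 hmX3 with h60 | rfl
    · have hle : Subgroup.normalizer ((P3 : Subgroup G) : Set G) ≤ H :=
        inf_eq_left.1 (Subgroup.eq_of_le_of_card_ge inf_le_left (by rw [h60, h3.norm P3]))
      have hCH := (Subgroup.centralizer_le_normalizer _).trans hle
      obtain ⟨Q, hQ⟩ := h5.exists_le (Subgroup.centralizer ((P3 : Subgroup G) : Set G))
        (by rw [h3.cent P3]; norm_num)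
      have h15 := dvd_inf h3 h5 (by norm_num) P3 Q H hP3 (hQ.trans hCH) hQ
      rw [(key5 Q (hQ.trans hCH)).1] at h15
      norm_num at h15
    · have a3 : 440 ≤ Nat.card {x : H // orderOf x = 3} := hcnt3.ge
      have a5 := (key5 P5₀ hP5₀).2
      refine count_contra (G := H) hsize
        [(11, 120), (2 * 11, 120), (5, 264), (2 * 5, 264), (3, 440), (2 * 3, 440)] (by decide) ?_ (by norm_num)
      simp only [List.mem_cons, List.not_mem_nil, or_false, forall_eq_or_imp, forall_eq]
      exact ⟨a11, a22, a5, a5.trans (hdouble 5 (by norm_num)), a3, a3.trans (hdouble 3 (by norm_num))⟩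

theorem case3_small [IsSimpleGroup G] (hN : Nat.card G = 175560) (hna : ¬ IsMulCommutative G)
    (h19 : Loc G 19 1540 1 e19) (h7 : Loc G 7 4180 1 e7) (h11 : Loc G 11 1596 c11 e11)
    (h5 : Loc G 5 n5 c5 e5) (h3 : Loc G 3 n3 c3 e3) (hc11 : c11 = 5 ∨ c11 = 1)
    (o5 : (n5 = 1596 ∧ c5 = 11) ∨ (n5 = 17556 ∧ c5 = 1))
    (o3 : (n3 = 7315 ∧ c3 = 4) ∨ (n3 = 29260 ∧ c3 = 1)) : False := by
  obtain ⟨a, b, hab, hfive, hfifty⟩ : ∃ a b : ℕ, a + b = 70224 ∧ a ≤ Nat.card {g : G // orderOf g = 5} ∧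
      b ≤ Nat.card {g : G // orderOf g = 5 * 11} := by
    rcases o5 with ⟨rfl, rfl⟩ | ⟨rfl, rfl⟩
    · exact ⟨6384, 63840, rfl, h5.card_orderOf.ge, h5.card_orderOf_mul (by norm_num) dvd_rfl⟩
    · exact ⟨70224, 0, rfl, h5.card_orderOf.ge, Nat.zero_le _⟩
  rcases o3 with ⟨rfl, rfl⟩ | ⟨rfl, rfl⟩
  swap
  · refine count_contra hN [(19, 27720), (11, 15960), (7, 25080), (3, 58520), (5, a), (5 * 11, b)]
      (by simp) ?_ (by simp only [List.map_cons, List.map_nil, List.sum_cons, List.sum_nil]; omega)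
    simp only [List.mem_cons, List.not_mem_nil, or_false, forall_eq_or_imp, forall_eq]
    exact ⟨h19.card_orderOf.ge, h11.card_orderOf.ge, h7.card_orderOf.ge, h3.card_orderOf.ge, hfive, hfifty⟩
  obtain ⟨P⟩ : Nonempty (Sylow 3 G) := inferInstance
  obtain ⟨t, ht, -, -⟩ := h3.exists_invol (by norm_num) P
  set H := Subgroup.centralizer ({t} : Set G) with hH
  have hd : Nat.card H ∣ 24 := by
    refine dvd_of_not_dvd (by norm_num : Nat.Prime 5) (dvd_of_not_dvd (by norm_num : Nat.Prime 11)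
      (show _ ∣ 11 * (5 * 24) from card_cent_dvd hN h19 h7 ht) fun hd => ?_) fun hd => ?_
    · have := h11.two_dvd (by norm_num) ht hd
      omega
    · have := h5.two_dvd (by norm_num) ht hd
      omega
  have hinv : 7315 ≤ Nat.card {x : G // orderOf x = 2} := by
    refine le_trans ?_ (class_le_two ht)
    have hmul := Invol.card_isConj_mul_card_centralizer t
    rw [hN, ← hH] at hmul
    have := Nat.mul_le_mul_left (Nat.card {y : G // IsConj t y}) (Nat.le_of_dvd (by norm_num) hd)
    omega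
  have h1 : 1 ≤ Nat.card {x : G // orderOf x = 1} := one_le_of_witness 1 orderOf_one
  have h6 : 14630 ≤ Nat.card {g : G // orderOf g = 2 * 3} :=
    h3.card_orderOf_mul (q := 2) (by norm_num) (by norm_num)
  have h4 : ∀ g : G, orderOf g ≠ 4 := fun g hg => by
    refine count_contra hN [(1, 1), (2, 7315), (4, 1), (2 * 3, 14630), (19, 27720), (11, 15960), (7, 25080),
      (3, 14630), (5, a), (5 * 11, b)] (by simp) ?_
      (by simp only [List.map_cons, List.map_nil, List.sum_cons, List.sum_nil]; omega)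
    simp only [List.mem_cons, List.not_mem_nil, or_false, forall_eq_or_imp, forall_eq]
    exact ⟨h1, hinv, one_le_of_witness g hg, h6, h19.card_orderOf.ge, h11.card_orderOf.ge,
      h7.card_orderOf.ge, h3.card_orderOf.ge, hfive, hfifty⟩
  have h6' : 29260 ≤ Nat.card {g : G // orderOf g = 2 * 3} := by
    refine two_each h3 (by norm_num) fun Q => ?_
    set C := Subgroup.centralizer ((Q : Subgroup G) : Set G) with hC
    obtain ⟨K, hK⟩ := Sylow.exists_subgroup_card_pow_prime (G := C) 2 (n := 2)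
      (by rw [h3.cent Q]; norm_num)
    classical
    obtain ⟨u, hu⟩ := exists_ne_of_card ({1} : Finset K) (by rw [hK, Finset.card_singleton]; norm_num)
    obtain ⟨v, hv⟩ := exists_ne_of_card ({1, u} : Finset K) (by
      rw [hK]; exact lt_of_le_of_lt Finset.card_le_two (by norm_num))
    simp only [Finset.mem_insert, Finset.mem_singleton, not_or] at hu hv
    have ho : ∀ x : K, x ≠ 1 → orderOf (((x : C) : G)) = 2 := fun x hx => by
      refine orderOf_two_of_ne_one h4 (k := 2) ?_ fun h => hx (Subtype.ext (Subtype.ext h))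
      rw [Subgroup.orderOf_coe, Subgroup.orderOf_coe, ← hK]
      exact orderOf_dvd_natCard x
    refine ⟨![((u : C) : G), ((v : C) : G)], ?_, fun i => ?_⟩
    · intro i j hij
      fin_cases i <;> fin_cases j <;> simp at hij ⊢
      · exact hv.2 hij.symm
      · exact hv.2 hij
    · fin_cases i
      · exact ⟨ho u hu, (u : C).2⟩
      · exact ⟨ho v hv.1, (v : C).2⟩
  refine count_contra hN [(2 * 3, 29260), (2, 7315), (19, 27720), (11, 15960), (7, 25080),
    (3, 14630), (5, a), (5 * 11, b)] (by simp) ?_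
    (by simp only [List.map_cons, List.map_nil, List.sum_cons, List.sum_nil]; omega)
  simp only [List.mem_cons, List.not_mem_nil, or_false, forall_eq_or_imp, forall_eq]
  exact ⟨h6', hinv, h19.card_orderOf.ge, h11.card_orderOf.ge, h7.card_orderOf.ge, h3.card_orderOf.ge,
    hfive, hfifty⟩

theorem exists_centralizer [IsSimpleGroup G] (hN : Nat.card G = 175560) (hna : ¬ IsMulCommutative G)
    (h19 : Loc G 19 1540 1 e19) (h7 : Loc G 7 4180 1 e7) (h11 : Loc G 11 1596 1 e11)
    (h5 : Loc G 5 2926 c5 e5) (h3 : Loc G 3 2926 10 e3) (hc5 : c5 = 3 ∨ c5 = 6) : Nonempty (JD G) := by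
  obtain ⟨P⟩ : Nonempty (Sylow 3 G) := inferInstance
  obtain ⟨t, ht, -, hP⟩ := h3.exists_invol (by norm_num) P
  have he3 : e3 = 2 := by have := h3.card; rw [hN] at this; omega
  subst he3
  have h8 := eight_dvd hN hna ht
  have hd' : Nat.card (Subgroup.centralizer ({t} : Set G)) ∣ 120 :=
    dvd_of_not_dvd (by norm_num : Nat.Prime 11)
      (show _ ∣ 11 * 120 from card_cent_dvd hN h19 h7 ht)
      fun hd => by simpa using h11.two_dvd (by norm_num) ht hd
  set H := Subgroup.centralizer ({t} : Set G) with hH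
  have h3d : 3 ∣ Nat.card H := h3.sylow P ▸ Subgroup.card_dvd_of_le hP
  have hsz : Nat.card H = 24 ∨ Nat.card H = 120 := by
    have hall : ∀ k ∈ Nat.divisors 120, 8 ∣ k → 3 ∣ k → k = 24 ∨ k = 120 := by decide +kernel
    exact hall _ (Nat.mem_divisors.2 ⟨hd', by norm_num⟩) h8 h3d
  have hmul := Invol.card_isConj_mul_card_centralizer t
  rw [hN, ← hH] at hmul
  obtain ⟨a, ha, haeq, ha6⟩ := h3.invol_count (by norm_num) (b := 5) rfl (by decide) P ht hP
  obtain ⟨m, hm, -, -, hQ, hcnt⟩ := h3.sub P H hP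
  rw [← hH, hQ] at haeq
  have ha' : a = 1 ∨ a = 5 := (Nat.dvd_prime (by norm_num)).1 ha
  have hfinal : Nat.card H = 120 ∧ a = 5 ∧ m = 10 ∧ Nat.card {y : G // IsConj t y} = 1463 := by
    rcases hsz with h | h
    · rw [h] at hmul
      have h1 : Nat.card {y : G // IsConj t y} = 7315 := by omega
      rw [h1] at haeq
      omega
    · rw [h] at hmul
      have h1 : Nat.card {y : G // IsConj t y} = 1463 := by omega
      rw [h1] at haeq
      exact ⟨h, by omega, by omega, h1⟩
  obtain ⟨hcard, rfl, rfl, hcls⟩ := hfinal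
  obtain ⟨Q, hQH⟩ := h5.exists_le H (by rw [hcard]; norm_num)
  have h2c5 : 2 ∣ c5 := h5.two_dvd (by norm_num) ht (by rw [← hH, hcard]; norm_num)
  obtain rfl : c5 = 6 := by omega
  have he5 : e5 = 2 := by have := h5.card; rw [hN] at this; omega
  subst he5
  obtain ⟨b, hb, hbeq, hb10⟩ := h5.invol_count (by norm_num) (b := 3) rfl (by decide) Q ht hQH
  obtain ⟨m5, hm5, -, -, hQ5, hcnt5⟩ := h5.sub Q H hQH
  rw [← hH, hQ5, hcls] at hbeq
  have hb' : b = 1 ∨ b = 3 := (Nat.dvd_prime Nat.prime_three).1 hb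
  obtain ⟨rfl, rfl⟩ : b = 3 ∧ m5 = 6 := by omega
  have h4 : ∀ g : G, orderOf g ≠ 4 := fun g hg => by
    refine count_contra hN [(1, 1), (2, 1463), (3, 5852), (5, 11704), (7, 25080), (11, 15960), (19, 27720),
      (3 * 5, 23408), (2 * 3, 29260), (2 * 5, 35112), (4, 1)] (by decide) ?_ (by norm_num)
    simp only [List.mem_cons, List.not_mem_nil, or_false, forall_eq_or_imp, forall_eq]
    exact ⟨one_le_of_witness 1 orderOf_one, hcls ▸ class_le_two ht, h3.card_orderOf.ge, h5.card_orderOf.ge,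
      h7.card_orderOf.ge, h11.card_orderOf.ge, h19.card_orderOf.ge,
      h3.card_orderOf_mul (q := 5) (by norm_num) (by norm_num), ha6, hb10, one_le_of_witness g hg⟩
  have htH : t ∈ H := Subgroup.mem_centralizer_singleton_iff.2 rfl
  obtain ⟨e⟩ := equiv_of_data (H := H) hcard (t := ⟨t, htH⟩) ((Subgroup.orderOf_mk t htH).trans ht)
    (fun x => Subtype.ext (Subgroup.mem_centralizer_singleton_iff.1 x.2))
    (fun g hg => h4 g ((Subgroup.orderOf_coe g).trans hg)) hcnt5 hcnt
    (fun y k hy hk hyk => by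
      by_contra hne
      have hy' : orderOf (y : G) = 5 := (Subgroup.orderOf_coe y).trans hy
      obtain ⟨R, hR⟩ := (IsPGroup.of_card (n := 1) (by rw [Nat.card_zpowers, hy', pow_one]) :
        IsPGroup 5 (Subgroup.zpowers (y : G))).exists_le_sylow
      have hR' : Subgroup.zpowers (y : G) = (R : Subgroup G) :=
        Subgroup.eq_of_le_of_card_ge hR (by rw [h5.sylow, Nat.card_zpowers, hy'])
      have hmem : ∀ z : G, (y : G) * z = z * y → z ∈ Subgroup.centralizer ((R : Subgroup G) : Set G) := by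
        intro z hz
        rw [← hR', Subgroup.mem_centralizer_iff]
        intro w hw
        obtain ⟨i, rfl⟩ := hw
        exact ((show Commute (y : G) z from hz).zpow_left i).eq
      have h4d := four_dvd_card (L := Subgroup.centralizer ((R : Subgroup G) : Set G)) ht
        ((Subgroup.orderOf_coe k).trans hk) (Subgroup.mem_centralizer_singleton_iff.1 k.2).symm
        (fun h => hne (Subtype.ext h.symm))
        (hmem t (Subgroup.mem_centralizer_singleton_iff.1 y.2))
        (hmem k (congrArg Subtype.val hyk))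
      rw [h5.cent R] at h4d
      norm_num at h4d)
  exact ⟨⟨t, e, ht, by rw [hN]⟩⟩

/-- A simple group of order 175560 is in the setting. -/
theorem exists_JD_of_card [IsSimpleGroup G] (hN : Nat.card G = 175560) : Nonempty (JD G) := by
  have hna := not_comm hN
  have loc : ∀ (p : ℕ) [Fact p.Prime], p ∣ 175560 → ¬ p ^ 2 ∣ 175560 →
      175560 * 2 ≠ p * ((p - 1) * (p + 1)) → 175560 ≠ p * ((p - 1) * (p - 2)) →
      ∃ n c e : ℕ, Loc G p n c e ∧ Check p (n / p) := fun p _ h h' g1 g2 => by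
    obtain ⟨n, c, e, hl, hx⟩ := exists_loc hna p (hN ▸ h) (hN ▸ h')
    exact ⟨n, c, e, hl, hx.resolve_right (by rintro (h | h) <;> rw [hN] at h <;> contradiction)⟩
  obtain ⟨n19, c19, e19, h19, x19⟩ := loc 19 (by norm_num) (by norm_num) (by norm_num) (by norm_num)
  obtain ⟨n11, c11, e11, h11, x11⟩ := loc 11 (by norm_num) (by norm_num) (by norm_num) (by norm_num)
  obtain ⟨n7, c7, e7, h7, x7⟩ := loc 7 (by norm_num) (by norm_num) (by norm_num) (by norm_num)
  obtain ⟨n5, c5, e5, h5, x5⟩ := loc 5 (by norm_num) (by norm_num) (by norm_num) (by norm_num)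
  obtain ⟨n3, c3, e3, h3, x3⟩ := loc 3 (by norm_num) (by norm_num) (by norm_num) (by norm_num)
  have o19 := options (m := 9240) h19 (by rw [hN]) (Or.inl x19) (by norm_num) (by norm_num) [] (by simp)
    [(210, 22), (1540, 1), (1540, 2), (1540, 3)] (by decide +kernel)
  simp only [List.mem_cons, Prod.mk.injEq, List.not_mem_nil, or_false] at o19
  have hodd : ¬ 2 ∣ c19 := fun hd => by
    have h := not19_even hN hna h19 hd
    have hc := h19.card
    rw [hN] at hc
    rcases o19 with ⟨rfl, rfl⟩ | ⟨rfl, rfl⟩ | ⟨rfl, rfl⟩ | ⟨rfl, rfl⟩ <;> omega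
  obtain ⟨rfl, hc19⟩ : n19 = 1540 ∧ (c19 = 1 ∨ c19 = 3) := by omega
  rcases hc19 with rfl | rfl
  swap
  · exact (case19_three hN h19 h11 h7 h5 h3 x11 x7 x5 x3).elim
  have b19 : ∀ {p n c e : ℕ} [Fact p.Prime], Loc G p n c e → p ≠ 19 → ¬ 19 ∣ c := fun h hp hd =>
    (Fact.out : Nat.Prime _).not_dvd_one (h.adj h19 hp hd)
  have o11 := options (m := 15960) h11 (by rw [hN]) (Or.inl x11) (by norm_num) (by norm_num) [19]
    (by simpa using b19 h11 (by norm_num)) [(1596, 1), (1596, 2), (1596, 5)] (by decide +kernel)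
  simp only [List.mem_cons, Prod.mk.injEq, List.not_mem_nil, or_false] at o11
  obtain ⟨rfl, hc11⟩ : n11 = 1596 ∧ (c11 = 1 ∨ c11 = 2 ∨ c11 = 5) := by omega
  have o7 := options (m := 25080) h7 (by rw [hN]) (Or.inl x7) (by norm_num) (by norm_num) [19, 11]
    (by simpa using ⟨b19 h7 (by norm_num), fun hd => by
      have := h7.adj h11 (by norm_num) hd
      omega⟩)
    [(1254, 10), (4180, 1), (4180, 2), (4180, 3)] (by decide +kernel)
  simp only [List.mem_cons, Prod.mk.injEq, List.not_mem_nil, or_false] at o7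
  rcases o7 with ⟨rfl, rfl⟩ | ⟨rfl, rfl⟩ | ⟨rfl, rfl⟩ | ⟨rfl, rfl⟩
  · exact (case7_ten hN h7 h5 x5 (b19 h5 (by norm_num))).elim
  rotate_left
  · exact (case7_two hN hna h19 h7).elim
  · exact (case7_three hN h19 h11 h7 h5 h3 x5 x3 (by omega)).elim
  have b7 : ∀ {p n c e : ℕ} [Fact p.Prime], Loc G p n c e → p ≠ 7 → ¬ 7 ∣ c := fun h hp hd =>
    (Fact.out : Nat.Prime _).not_dvd_one (h.adj h7 hp hd)
  have o5 := options (m := 35112) h5 (by rw [hN]) (Or.inl x5) (by norm_num) (by norm_num) [19, 7]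
    (by simpa using ⟨b19 h5 (by norm_num), b7 h5 (by norm_num)⟩)
    [(266, 33), (266, 66), (1596, 11), (2926, 3), (2926, 6), (17556, 1)] (by decide +kernel)
  have o3 := options (m := 58520) h3 (by rw [hN]) (Or.inl x3) (by norm_num) (by norm_num) [19, 11, 7]
    (by simpa using ⟨b19 h3 (by norm_num), fun hd => by
      have := h3.adj h11 (by norm_num) hd
      omega, b7 h3 (by norm_num)⟩)
    [(2926, 10), (7315, 4), (29260, 1)] (by decide +kernel)
  rcases hc11 with rfl | rfl | rfl
  · simp only [List.mem_cons, Prod.mk.injEq, List.not_mem_nil, or_false] at o5 o3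
    have h11c5 : ¬ 11 ∣ c5 := fun hd => (Fact.out : Nat.Prime 5).not_dvd_one (h5.adj h11 (by norm_num) hd)
    rcases o5 with ⟨rfl, rfl⟩ | ⟨rfl, rfl⟩ | ⟨rfl, rfl⟩ | ⟨rfl, rfl⟩ | ⟨rfl, rfl⟩ | ⟨rfl, rfl⟩
    · exact absurd (by norm_num) h11c5
    · exact absurd (by norm_num) h11c5
    · exact absurd (by norm_num) h11c5
    · have := h5.adj h3 (by norm_num) dvd_rfl
      obtain ⟨rfl, rfl⟩ : n3 = 2926 ∧ c3 = 10 := by omega
      exact exists_centralizer hN hna h19 h7 h11 h5 h3 (Or.inl rfl)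
    · have := h5.adj h3 (by norm_num) (by norm_num)
      obtain ⟨rfl, rfl⟩ : n3 = 2926 ∧ c3 = 10 := by omega
      exact exists_centralizer hN hna h19 h7 h11 h5 h3 (Or.inr rfl)
    · refine (case3_small hN hna h19 h7 h11 h5 h3 (Or.inr rfl) (Or.inr ⟨rfl, rfl⟩) ?_).elim
      have : ¬ 5 ∣ c3 := fun hd => Nat.prime_three.not_dvd_one (h3.adj h5 (by norm_num) hd)
      omega
  · exact (case11_two hN hna h19 h7 h11 h5 h3 o5 o3).elim
  · simp only [List.mem_cons, Prod.mk.injEq, List.not_mem_nil, or_false] at o5 o3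
    have h11c5 : 11 ∣ c5 := h11.adj h5 (by norm_num) dvd_rfl
    obtain ⟨Q⟩ : Nonempty (Sylow 5 G) := inferInstance
    set C := Subgroup.centralizer ((Q : Subgroup G) : Set G) with hC
    obtain ⟨P, hP⟩ := h11.exists_le C (by rw [h5.cent Q]; exact h11c5.mul_left 5)
    obtain ⟨m, hm, hmX, hX, -, -⟩ := h11.sub P C hP
    have h55 := dvd_inf h5 h11 (by norm_num) Q P C (self_le_centralizer h5 Q) hP hP
    have he11 : e11 = 2 := by have := h11.card; rw [hN] at this; omega
    subst he11
    rw [h5.cent Q] at hmX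
    generalize Nat.card ↥(Subgroup.normalizer ((P : Subgroup G) : Set G) ⊓ C) = X at hmX hX h55
    have hall : ∀ k ∈ Nat.divisors (11 * 5 * 2), 5 * 11 ∣ k → k = 55 ∨ k = 110 := by decide +kernel
    have hX' := hall X (Nat.mem_divisors.2 ⟨hX, by norm_num⟩) h55
    obtain ⟨rfl, rfl⟩ : n5 = 1596 ∧ c5 = 11 := by
      rcases hX' with rfl | rfl <;> omega
    refine (case3_small hN hna h19 h7 h11 h5 h3 (Or.inl rfl) (Or.inl ⟨rfl, rfl⟩) ?_).elim
    have : ¬ 5 ∣ c3 := fun hd => by simpa using h3.adj h5 (by norm_num) hd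
    omega

end Cfsg.Agent.JOneRecog.FromOrder
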