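import Cfsg.Agent.JOneRecog.Model

/-!
The four class functions are virtual characters.
-/

set_option autoImplicit false
set_option maxRecDepth 100000
set_option linter.all false

namespace Cfsg.Agent.JOneRecog

open scoped ComplexConjugate
open Equiv

/-- The tuples of even permutations. -/
def L5 : List P5 := (elsL.take 60).map Prod.snd

/-- The five-cycle. -/
def h5 : P5 := (1, 2, 3, 4, 0)

/-- Counts of conjugates among the powers of the five-cycle. -/
def cT : Fin 5 → Fin 5 → ℕ :=
  ![![60, 0, 0, 0, 0], ![0, 0, 0, 0, 0], ![0, 0, 0, 0, 0], ![0, 5, 0, 0, 5], ![0, 0, 5, 5, 0]]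

theorem L5_nodup : L5.Nodup := by decide +kernel

theorem count_fix : (L5.all fun p => decide ((L5.filter fun y => decide (ev p (ev y 4) = ev y 4)).length =
    12 * fixN p)) = true := by decide +kernel

theorem count_pow : (L5.all fun p => (List.finRange 5).all fun k => decide ((L5.filter fun y =>
    (List.finRange 5).all fun i => decide (ev p (ev y i) = ev y (i + k))).length = cT (cls p) k)) = true := by
  decide +kernel

theorem mem_L5 (g : A5) : toP g ∈ L5 :=
  List.elem_iff.1 (toP_mem _ (Equiv.Perm.mem_alternatingGroup.1 g.2))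

theorem toP_injective : Function.Injective toP := fun g h e =>
  Subtype.ext (Equiv.ext fun i => by rw [← ev_toP, ← ev_toP, e])

theorem L5_surj {p : P5} (hp : p ∈ L5) : ∃ g : A5, toP g = p := by
  obtain ⟨q, hq, rfl⟩ := List.mem_map.1 hp
  obtain ⟨g, rfl⟩ := toQ_surj (mem_els.2 (List.mem_of_mem_take hq))
  exact ⟨g.2, rfl⟩

theorem card_filter (P : P5 → Bool) [Fintype A5] :
    (Finset.univ.filter fun g : A5 => P (toP g) = true).card = (L5.filter P).length := by
  classical
  rw [← List.toFinset_card_of_nodup (L5_nodup.filter _)]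
  refine Finset.card_bij (fun g _ => toP g) (fun g hg => ?_) (fun _ _ _ _ e => toP_injective e) (fun p hp => ?_)
  · simp only [List.mem_toFinset, List.mem_filter]
    exact ⟨mem_L5 g, (Finset.mem_filter.1 hg).2⟩
  · simp only [List.mem_toFinset, List.mem_filter] at hp
    obtain ⟨g, rfl⟩ := L5_surj hp.1
    exact ⟨g, by simp [hp.2], rfl⟩

/-- The stabiliser of a letter. -/
def A4 : Subgroup A5 where
  carrier := {g | (g : Perm (Fin 5)) 4 = 4}
  one_mem' := rfl
  mul_mem' := fun {a b} ha hb => by
    simp only [Set.mem_ofPred_eq] at ha hb ⊢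
    rw [Subgroup.coe_mul, Perm.mul_apply, hb, ha]
  inv_mem' := fun {a} ha => by
    simp only [Set.mem_ofPred_eq] at ha ⊢
    rw [Subgroup.coe_inv, Perm.inv_def, Equiv.symm_apply_eq, ha]

/-- The powers of the five-cycle, as translations. -/
def C5 : Subgroup A5 where
  carrier := {g | ∀ i, (g : Perm (Fin 5)) i = i + (g : Perm (Fin 5)) 0}
  one_mem' := fun i => by simp
  mul_mem' := fun {a b} ha hb i => by
    rw [Subgroup.coe_mul, Perm.mul_apply, Perm.mul_apply, hb i, ha, ha ((b : Perm (Fin 5)) 0), add_assoc]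
  inv_mem' := fun {a} ha i => by
    have key : ∀ j, (a : Perm (Fin 5))⁻¹ j = j - (a : Perm (Fin 5)) 0 := fun j => by
      rw [Perm.inv_def, Equiv.symm_apply_eq, ha, sub_add_cancel]
    rw [Subgroup.coe_inv, key i, key 0]
    abel

/-- The characters of the powers of the five-cycle. -/
noncomputable def lam (j : ℕ) : C5 →* ℂˣ where
  toFun g := ((zeta_prim.isUnit (by norm_num)).unit ^ j) ^ (((g : A5) : Perm (Fin 5)) 0).val
  map_one' := by simp
  map_mul' := fun a b => by
    have h : ((a * b : C5) : A5).1 0 = ((a : A5) : Perm (Fin 5)) 0 + ((b : A5) : Perm (Fin 5)) 0 := by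
      rw [Subgroup.coe_mul, Subgroup.coe_mul, Perm.mul_apply, a.2 _, add_comm]
    have h5 : ((zeta_prim.isUnit (by norm_num)).unit ^ j) ^ 5 = 1 := by
      refine Units.ext ?_
      rw [← pow_mul, mul_comm j 5, pow_mul]
      simp [zeta_pow]
    rw [h, ← pow_add, Fin.val_add, ← pow_eq_pow_mod _ h5]

theorem lam_apply (j : ℕ) (g : C5) : (lam j g : ℂ) = (zeta ^ j) ^ (((g : A5) : Perm (Fin 5)) 0).val := by
  simp [lam]

/-- The permutation character less one. -/
noncomputable def chi4 [Fintype A5] : A5 → ℂ := indFun A4 (fun _ => 1) - fun _ => 1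

/-- The induced linear characters. -/
noncomputable def ind5 [Fintype A5] (j : ℕ) : A5 → ℂ := indFun C5 fun g => (lam j g : ℂ)

theorem cls_fix : (L5.all fun p => decide (fixN p = (![5, 1, 2, 0, 0] : Fin 5 → ℕ) (cls p))) = true := by
  decide +kernel

theorem card_A4 : Nat.card A4 = 12 := by
  classical
  haveI : Fintype A5 := Fintype.ofFinite _
  rw [Nat.card_eq_fintype_card, Fintype.card_subtype]
  have h := card_filter fun p => decide (ev p 4 = 4)
  rw [(by decide +kernel : (L5.filter fun p => decide (ev p 4 = 4)).length = 12)] at h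
  refine Eq.trans (congrArg Finset.card (Finset.filter_congr fun g _ => ?_)) h
  simp only [decide_eq_true_eq, ev_toP]
  rfl

theorem card_C5 : Nat.card C5 = 5 := by
  classical
  haveI : Fintype A5 := Fintype.ofFinite _
  rw [Nat.card_eq_fintype_card, Fintype.card_subtype]
  have h := card_filter fun p => (List.finRange 5).all fun i => decide (ev p i = i + ev p 0)
  rw [(by decide +kernel : (L5.filter fun p => (List.finRange 5).all fun i => decide (ev p i = i + ev p 0)).length = 5)] at h
  refine Eq.trans (congrArg Finset.card (Finset.filter_congr fun g _ => ?_)) h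
  simp only [List.all_eq_true, List.mem_finRange, decide_eq_true_eq, ev_toP, forall_const]
  rfl

variable [Fintype A5]

theorem chi4_eq (g : A5) : chi4 g = (fixN (toP g) : ℂ) - 1 := by
  classical
  rw [chi4, Pi.sub_apply, Char.indFun_apply, card_A4]
  congr 1
  have h : ∀ y : A5, extendByZero A4 (fun _ => (1 : ℂ)) (y⁻¹ * g * y) =
      if decide (ev (toP g) (ev (toP y) 4) = ev (toP y) 4) = true then 1 else 0 := fun y => by
    have hiff : y⁻¹ * g * y ∈ A4 ↔ decide (ev (toP g) (ev (toP y) 4) = ev (toP y) 4) = true := by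
      rw [decide_eq_true_eq, ev_toP, ev_toP]
      show ((y⁻¹ * g * y : A5) : Perm (Fin 5)) 4 = 4 ↔ _
      rw [Subgroup.coe_mul, Subgroup.coe_mul, Subgroup.coe_inv, Perm.mul_apply, Perm.mul_apply, Perm.inv_def,
        Equiv.symm_apply_eq]
    split_ifs with hy
    · rw [Char.extendByZero_of_mem _ _ (hiff.2 hy)]
    · exact Char.extendByZero_of_not_mem _ _ (hy ∘ hiff.1)
  rw [Finset.sum_congr rfl fun y _ => h y, Finset.sum_boole,
    card_filter fun q => decide (ev (toP g) (ev q 4) = ev q 4)]
  have h12 := of_decide_eq_true (List.all_eq_true.1 count_fix _ (mem_L5 g))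
  rw [h12]
  push_cast
  ring

theorem ind5_eq (j : ℕ) (g : A5) :
    ind5 j g = (5 : ℂ)⁻¹ * ∑ k : Fin 5, (cT (cls (toP g)) k : ℂ) * (zeta ^ j) ^ k.val := by
  classical
  rw [ind5, Char.indFun_apply, card_C5, Nat.cast_ofNat]
  congr 1
  let P : Fin 5 → A5 → Bool := fun k y =>
    (List.finRange 5).all fun i => decide (ev (toP g) (ev (toP y) i) = ev (toP y) (i + k))
  have hP : ∀ k y, P k y = true ↔ ∀ i, ((y⁻¹ * g * y : A5) : Perm (Fin 5)) i = i + k := fun k y => by
    simp only [P, List.all_eq_true, List.mem_finRange, decide_eq_true_eq, forall_const, ev_toP]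
    refine forall_congr' fun i => ?_
    rw [Subgroup.coe_mul, Subgroup.coe_mul, Subgroup.coe_inv, Perm.mul_apply, Perm.mul_apply, Perm.inv_def,
      Equiv.symm_apply_eq]
  have h : ∀ y : A5, extendByZero C5 (fun g => (lam j g : ℂ)) (y⁻¹ * g * y) =
      ∑ k : Fin 5, if P k y = true then (zeta ^ j) ^ k.val else 0 := fun y => by
    by_cases hy : y⁻¹ * g * y ∈ C5
    · rw [Char.extendByZero_of_mem _ _ hy, lam_apply,
        Finset.sum_eq_single (((y⁻¹ * g * y : A5) : Perm (Fin 5)) 0)]
      · rw [if_pos ((hP _ y).2 hy)]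
      · intro k _ hk
        refine if_neg fun hk' => hk ?_
        rw [(hP k y).1 hk' 0, zero_add]
      · simp
    · rw [Char.extendByZero_of_not_mem _ _ hy, Finset.sum_eq_zero]
      intro k _
      refine if_neg fun hk' => hy fun i => ?_
      rw [(hP k y).1 hk' i, (hP k y).1 hk' 0, zero_add]
  rw [Finset.sum_congr rfl fun y _ => h y, Finset.sum_comm]
  refine Finset.sum_congr rfl fun k _ => ?_
  rw [← Finset.sum_filter, Finset.sum_const, nsmul_eq_mul]
  congr 2
  have hk := of_decide_eq_true (List.all_eq_true.1 (List.all_eq_true.1 count_pow _ (mem_L5 g)) k (List.mem_finRange k))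
  rw [← hk]
  exact card_filter fun q => (List.finRange 5).all fun i => decide (ev (toP g) (ev q i) = ev q (i + k))

/-- The sign character of the central factor. -/
noncomputable def eps : Multiplicative (ZMod 2) →* ℂˣ where
  toFun z := if Multiplicative.toAdd z = 0 then 1 else -1
  map_one' := by simp
  map_mul' := fun a b => by
    rcases (by decide : ∀ x : ZMod 2, x = 0 ∨ x = 1) (Multiplicative.toAdd a) with ha | ha <;>
      rcases (by decide : ∀ x : ZMod 2, x = 0 ∨ x = 1) (Multiplicative.toAdd b) with hb | hb <;>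
      simp [toAdd_mul, ha, hb, (by decide : (1 : ZMod 2) + 1 = 0)]

/-- The four combinations. -/
noncomputable def psi : Fin 4 → A5 → ℂ :=
  ![chi4, chi4 * chi4 - ind5 2, chi4 * chi4 - ind5 1, ind5 1 + ind5 2 - chi4 - chi4 * chi4]

/-- The class functions on the model. -/
noncomputable def theta (i : Fin 4) (g : M0) : ℂ := toC (vf i (toQ g))

theorem psi_gen (i : Fin 4) : IsGeneralizedCharacter A5 (psi i) := by
  have h4 : IsGeneralizedCharacter A5 chi4 :=
    Char.isGeneralized_sub (Char.isGeneralized_indFun _ (Char.isGeneralized_of_isCharacter Char.isCharacter_one))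
      (Char.isGeneralized_of_isCharacter Char.isCharacter_one)
  have hI : ∀ j, IsGeneralizedCharacter A5 (ind5 j) := fun j =>
    Char.isGeneralized_indFun _ (Char.isGeneralized_of_isCharacter (Char.isCharacter_hom (lam j)))
  fin_cases i
  · exact h4
  · exact Char.isGeneralized_sub (Char.isGeneralized_mul h4 h4) (hI 2)
  · exact Char.isGeneralized_sub (Char.isGeneralized_mul h4 h4) (hI 1)
  · exact Char.isGeneralized_sub (Char.isGeneralized_sub (Char.isGeneralized_add (hI 1) (hI 2)) h4)
      (Char.isGeneralized_mul h4 h4)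

theorem zeta_six : zeta ^ 6 = zeta := by rw [pow_succ, zeta_pow, one_mul]

theorem zeta_eight : zeta ^ 8 = zeta ^ 3 := by
  rw [show 8 = 5 + 3 from rfl, pow_add, zeta_pow, one_mul]

theorem psi_val (i : Fin 4) (g : A5) : 2 * psi i g = toC (vtab i (cls (toP g))) := by
  have hfix := of_decide_eq_true (List.all_eq_true.1 cls_fix _ (mem_L5 g))
  have key : ∀ c : Fin 5, cls (toP g) = c → 2 * psi i g = toC (vtab i c) := fun c hc => by
    rw [hc] at hfix
    fin_cases i <;> fin_cases c <;>
      simp [psi, chi4_eq, ind5_eq, hc, hfix, Fin.sum_univ_five, cT, vtab, toC_apply, s5, ← pow_mul, zeta_six, zeta_eight] <;>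
      (try norm_num) <;>
      (first
        | linear_combination (0 : ℂ) * zeta_sum
        | linear_combination 2 * zeta_sum
        | linear_combination -2 * zeta_sum
        | linear_combination 2 * zeta ^ 3 * zeta_pow
        | linear_combination -2 * zeta ^ 3 * zeta_pow
        | linear_combination 2 * zeta_sum + 2 * zeta ^ 3 * zeta_pow
        | linear_combination -2 * zeta_sum - 2 * zeta ^ 3 * zeta_pow)
  exact key _ rfl

theorem isGeneralized_theta (i : Fin 4) : IsGeneralizedCharacter M0 (theta i) := by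
  have h : theta i = (fun g : M0 => (1 : ℂ) - (eps g.1 : ℂ)) * fun g => psi i g.2 := by
    funext g
    rcases (by decide : ∀ x : ZMod 2, x = 0 ∨ x = 1) (Multiplicative.toAdd g.1) with ha | ha
    · have h0 : eps g.1 = 1 := if_pos ha
      simp [theta, vf, toQ, ha, h0]
    · have he : eps g.1 = -1 := if_neg (by rw [ha]; decide)
      have h2 : (1 : ℂ) - (eps g.1 : ℂ) = 2 := by rw [he]; norm_num
      rw [Pi.mul_apply]
      beta_reduce
      rw [h2, psi_val, theta, vf, toQ, ha]
      rfl
  rw [h]
  refine Char.isGeneralized_mul (Char.isGeneralized_sub (Char.isGeneralized_of_isCharacter Char.isCharacter_one)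
    (Char.isGeneralized_of_isCharacter ?_)) ?_
  · exact Char.isCharacter_hom (eps.comp (MonoidHom.fst (Multiplicative (ZMod 2)) A5 : M0 →* _))
  · exact Char.isGeneralized_comp (MonoidHom.snd (Multiplicative (ZMod 2)) A5 : M0 →* A5) (psi_gen i)

end Cfsg.Agent.JOneRecog
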