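import Cfsg.Agent.JOneRecog.Basic
import Cfsg.Agent.JOneRecog.FourAct

/-!
Centralisers of the elements of order three and five of the centraliser of an involution.
-/

set_option autoImplicit false
set_option maxRecDepth 100000
set_option synthInstance.maxSize 10000
set_option synthInstance.maxHeartbeats 1000000
set_option linter.all false

namespace Cfsg.Agent.JOneRecog

open Equiv

/-- An involution inverting the element of order three. -/
def br : A5 := ⟨swap 0 1 * swap 3 4, Perm.mem_alternatingGroup.2 (by decide)⟩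

/-- An involution inverting the element of order five. -/
def bh : A5 := ⟨swap 1 4 * swap 2 3, Perm.mem_alternatingGroup.2 (by decide)⟩

/-- The order check for commuting partners. -/
theorem odd_comm : (elsL.all fun q => decide (q ≠ qone → qpow q 15 = qone →
    q.1 = 0 ∧ ((elsL.filter fun r => decide (qmul q r = qmul r q)).length = 6 ∨
      (elsL.filter fun r => decide (qmul q r = qmul r q)).length = 10))) = true := by decide +kernel

theorem odd_class : (elsL.all fun q => decide (q ≠ qone → qpow q 15 = qone →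
    (elsL.any fun c => decide (qmul c q = qmul (toQ (1, rA)) c)) = true ∧ qpow q 3 = qone ∨
    ((elsL.any fun c => decide (qmul c q = qmul (toQ (1, hA)) c)) = true ∨
      (elsL.any fun c => decide (qmul c q = qmul (toQ (1, hA ^ 2)) c)) = true) ∧ qpow q 5 = qone)) = true := by
  decide +kernel

/-- A non-trivial element of odd order of the model. -/
theorem M0_odd {m : M0} (hm : m ≠ 1) (h15 : m ^ 15 = 1) :
    ((∃ c, c * m * c⁻¹ = (1, rA)) ∧ m ^ 3 = 1) ∨
      (((∃ c, c * m * c⁻¹ = (1, hA)) ∨ ∃ c, c * m * c⁻¹ = (1, hA ^ 2)) ∧ m ^ 5 = 1) := by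
  have key : ∀ x : M0, (elsL.any fun c => decide (qmul c (toQ m) = qmul (toQ x) c)) = true →
      ∃ c, c * m * c⁻¹ = x := by
    intro x hx
    obtain ⟨q, hq, he⟩ := List.any_eq_true.1 hx
    obtain ⟨c, rfl⟩ := toQ_surj (mem_els.2 hq)
    refine ⟨c, ?_⟩
    rw [mul_inv_eq_iff_eq_mul]
    apply toQ_injective
    rw [toQ_mul, toQ_mul]
    exact of_decide_eq_true he
  have hp : ∀ n, qpow (toQ m) n = qone → m ^ n = 1 := fun n hn =>
    toQ_injective (by rw [toQ_pow, hn, toQ_one])
  have h := of_decide_eq_true (List.all_eq_true.1 odd_class _ (mem_els.1 (toQ_mem m)))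
    (fun e => hm (toQ_injective (e.trans toQ_one.symm))) (by rw [← toQ_pow, h15, toQ_one])
  rcases h with ⟨h1, h2⟩ | ⟨h1, h2⟩
  · exact Or.inl ⟨key _ h1, hp 3 h2⟩
  · exact Or.inr ⟨h1.imp (key _) (key _), hp 5 h2⟩

/-- An abelian subgroup of odd order of the model. -/
theorem M0_sub {H : Subgroup M0} (hodd : Odd (Nat.card H)) (hcomm : ∀ a ∈ H, ∀ b ∈ H, a * b = b * a) :
    Nat.card H = 1 ∨ Nat.card H = 3 ∨ Nat.card H = 5 := by
  classical
  by_cases hb : H = ⊥
  · left; rw [hb, Subgroup.card_bot]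
  obtain ⟨m, hm, hm1⟩ := H.ne_bot_iff_exists_ne_one.1 hb |> fun ⟨a, ha⟩ =>
    (⟨a.1, a.2, fun e => ha (Subtype.ext e)⟩ : ∃ m, m ∈ H ∧ m ≠ 1)
  have hd : orderOf m ∣ 15 := by
    have h1 : orderOf m ∣ Nat.card H := Subgroup.orderOf_dvd_natCard H hm
    have h2 : orderOf m ∣ 120 := card_M0 ▸ orderOf_dvd_natCard m
    have h3 : ¬ 2 ∣ orderOf m := fun e =>
      (Nat.not_even_iff_odd.2 hodd) (even_iff_two_dvd.2 (e.trans h1))
    have h4 : Nat.Coprime (orderOf m) (2 ^ 3) :=
      Nat.Coprime.pow_right 3 ((Nat.prime_two.coprime_iff_not_dvd.2 h3).symm)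
    exact h4.dvd_of_dvd_mul_left (show orderOf m ∣ 2 ^ 3 * 15 from h2)
  have h := of_decide_eq_true (List.all_eq_true.1 odd_comm _ (mem_els.1 (toQ_mem m)))
    (fun e => hm1 (toQ_injective (e.trans toQ_one.symm)))
    (by rw [← toQ_pow, orderOf_dvd_iff_pow_eq_one.1 hd, toQ_one])
  set L := elsL.filter fun r => decide (qmul (toQ m) r = qmul r (toQ m)) with hL
  let C := Subgroup.centralizer ({m} : Set M0)
  have hcard : Nat.card C = L.length := by
    rw [← List.toFinset_card_of_nodup (List.Nodup.filter _ (by decide +kernel : elsL.Nodup)),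
      Nat.card_eq_fintype_card, Fintype.card_subtype]
    refine Finset.card_bij (fun c _ => toQ c) (fun c hc => ?_) (fun _ _ _ _ e => toQ_injective e) (fun q hq => ?_)
    · rw [Finset.mem_filter, Subgroup.mem_centralizer_singleton_iff] at hc
      rw [List.mem_toFinset, List.mem_filter, decide_eq_true_eq, ← toQ_mul, ← toQ_mul, hc.2]
      exact ⟨mem_els.1 (toQ_mem c), rfl⟩
    · rw [List.mem_toFinset, List.mem_filter, decide_eq_true_eq] at hq
      obtain ⟨c, rfl⟩ := toQ_surj (mem_els.2 hq.1)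
      refine ⟨c, Finset.mem_filter.2 ⟨Finset.mem_univ _, Subgroup.mem_centralizer_singleton_iff.2 ?_⟩, rfl⟩
      exact toQ_injective (by rw [toQ_mul, toQ_mul, hq.2])
  have hle : Nat.card H ∣ Nat.card C := Subgroup.card_dvd_of_le fun x hx =>
    Subgroup.mem_centralizer_singleton_iff.2 (hcomm x hx m hm)
  rw [hcard] at hle
  have hne : Nat.card H ≠ 1 := fun e => hb (Subgroup.eq_bot_of_card_eq H e)
  rcases h.2 with h6 | h10
  · rw [h6] at hle
    have := Nat.le_of_dvd (by norm_num) hle
    obtain ⟨k, hk⟩ := hodd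
    interval_cases hc : Nat.card H <;> omega
  · rw [h10] at hle
    have := Nat.le_of_dvd (by norm_num) hle
    obtain ⟨k, hk⟩ := hodd
    interval_cases hc : Nat.card H <;> omega

theorem inv_eqs : (br * br = 1 ∧ br * rA * br = rA⁻¹) ∧ (bh * bh = 1 ∧ bh * hA * bh = hA⁻¹) ∧ rA ^ 3 = 1 ∧
    hA ^ 5 = 1 ∧ rA ≠ 1 ∧ hA ≠ 1 := by decide +kernel

theorem cent_r : (elsL.all fun q => decide (qmul q (toQ (1, rA)) = qmul (toQ (1, rA)) q →
    ((List.finRange 3).any fun j => (List.finRange 2).any fun i =>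
      decide (q = qmul (qpow qt i.val) (qpow (toQ (1, rA)) j.val))) = true)) = true := by decide +kernel

theorem cent_h : (elsL.all fun q => decide (qmul q (toQ (1, hA)) = qmul (toQ (1, hA)) q →
    ((List.finRange 5).any fun j => (List.finRange 2).any fun i =>
      decide (q = qmul (qpow qt i.val) (qpow (toQ (1, hA)) j.val))) = true)) = true := by decide +kernel

theorem toQ_zM : toQ zM = qt := by decide +kernel

theorem cent_cases {a : A5} {p : ℕ} (hp : (a = rA ∧ p = 3) ∨ (a = hA ∧ p = 5)) {m : M0}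
    (hm : m * (1, a) = (1, a) * m) : ∃ i j : ℕ, i < 2 ∧ m = zM ^ i * ((1, a) : M0) ^ j := by
  rcases hp with ⟨rfl, rfl⟩ | ⟨rfl, rfl⟩
  · have h := of_decide_eq_true (List.all_eq_true.1 cent_r _ (mem_els.1 (toQ_mem m)))
      (by rw [← toQ_mul, hm, toQ_mul])
    simp only [List.any_eq_true, decide_eq_true_eq] at h
    obtain ⟨j, -, i, -, h⟩ := h
    exact ⟨i, j, i.2, toQ_injective (by rw [h, toQ_mul, toQ_pow, toQ_pow, toQ_zM])⟩
  · have h := of_decide_eq_true (List.all_eq_true.1 cent_h _ (mem_els.1 (toQ_mem m)))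
      (by rw [← toQ_mul, hm, toQ_mul])
    simp only [List.any_eq_true, decide_eq_true_eq] at h
    obtain ⟨j, -, i, -, h⟩ := h
    exact ⟨i, j, i.2, toQ_injective (by rw [h, toQ_mul, toQ_pow, toQ_pow, toQ_zM])⟩

theorem card_cent_conj {G : Type*} [Group G] {x y g : G} (h : g * x * g⁻¹ = y) :
    Nat.card (Subgroup.centralizer ({x} : Set G)) = Nat.card (Subgroup.centralizer ({y} : Set G)) := by
  refine Nat.card_congr ((MulAut.conj g).toEquiv.subtypeEquiv fun c => ?_)
  simp only [Subgroup.mem_centralizer_singleton_iff, MulEquiv.toEquiv_eq_coe, EquivLike.coe_coe,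
    MulAut.conj_apply, ← h]
  constructor
  · intro e
    calc g * c * g⁻¹ * (g * x * g⁻¹) = g * (c * x) * g⁻¹ := by group
      _ = g * x * g⁻¹ * (g * c * g⁻¹) := by rw [e]; group
  · intro e
    calc c * x = g⁻¹ * (g * c * g⁻¹ * (g * x * g⁻¹)) * g := by group
      _ = x * c := by rw [e]; group

namespace JD

variable {G : Type*} [Group G] [Finite G] [IsSimpleGroup G] (D : JD G)

/-- The element of order three. -/
def R : G := D.emb (1, rA)

/-- The element of order five. -/
def F : G := D.emb (1, hA)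

/-- The order of the centraliser of the element of order three. -/
noncomputable def n3 : ℕ := Nat.card (Subgroup.centralizer ({D.R} : Set G))

/-- The order of the centraliser of the element of order five. -/
noncomputable def n5 : ℕ := Nat.card (Subgroup.centralizer ({D.F} : Set G))

theorem cent_F_sq : Nat.card (Subgroup.centralizer ({D.emb (1, hA ^ 2)} : Set G)) = D.n5 := by
  rw [n5, F, show ((1, hA ^ 2) : M0) = (1, hA) ^ 2 from Prod.ext (one_pow 2).symm rfl, map_pow]
  have e : Subgroup.centralizer ({D.emb (1, hA) ^ 2} : Set G) = Subgroup.centralizer ({D.emb (1, hA)} : Set G) := by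
    ext c
    rw [Subgroup.mem_centralizer_singleton_iff, Subgroup.mem_centralizer_singleton_iff]
    refine ⟨fun h => ?_, fun h => (show Commute c (D.emb (1, hA)) from h).pow_right 2 |>.eq⟩
    have h5 : D.emb (1, hA) ^ 5 = 1 := by
      rw [← map_pow, show ((1, hA) : M0) ^ 5 = 1 from Prod.ext (one_pow 5) inv_eqs.2.2.2.1, map_one]
    have h6 : (D.emb (1, hA) ^ 2) ^ 3 = D.emb (1, hA) := by
      rw [← pow_mul, show 2 * 3 = 5 + 1 from rfl, pow_add, h5, one_mul, pow_one]
    rw [← h6]
    exact ((show Commute c _ from h).pow_right 3).eq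
  rw [e]

/-- Elements of odd order centralised by an involution. -/
theorem odd_cent {u z : G} (hu : u * u = 1) (hu1 : u ≠ 1) (hz : z * u = u * z) (h15 : z ^ 15 = 1) (hz1 : z ≠ 1) :
    (z ^ 3 = 1 ∧ (∃ g : G, g * z * g⁻¹ = D.R) ∧ Nat.card (Subgroup.centralizer ({z} : Set G)) = D.n3) ∨
    (z ^ 5 = 1 ∧ (∃ g : G, g * z * g⁻¹ = D.F ∨ g * z * g⁻¹ = D.emb (1, hA ^ 2)) ∧
      Nat.card (Subgroup.centralizer ({z} : Set G)) = D.n5) := by
  obtain ⟨g, hg⟩ := isConj_iff.1 (D.isConj_t hu hu1)
  have hc : (g⁻¹ * z * g) * D.t = D.t * (g⁻¹ * z * g) := by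
    rw [← hg] at hz
    calc (g⁻¹ * z * g) * D.t = g⁻¹ * (z * (g * D.t * g⁻¹)) * g := by group
      _ = D.t * (g⁻¹ * z * g) := by rw [hz]; group
  obtain ⟨m, hm⟩ := D.exists_emb hc
  have hzm : g⁻¹ * z * g⁻¹⁻¹ = D.emb m := by rw [inv_inv, hm]
  have hpow : ∀ n : ℕ, z ^ n = g * D.emb (m ^ n) * g⁻¹ := fun n => by
    rw [map_pow, ← conj_pow, hm]; group
  have hm15 : m ^ 15 = 1 := D.emb_injective (by
    rw [map_one, ← conj_eq_one_iff (a := g), ← hpow, h15])
  have hm1 : m ≠ 1 := fun e => hz1 (by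
    have := hpow 1
    rw [e, one_pow, map_one, pow_one] at this
    rw [this]; group)
  rcases M0_odd hm1 hm15 with ⟨⟨c, hc⟩, h3⟩ | ⟨hc, h5⟩
  · refine Or.inl ⟨by rw [hpow, h3, map_one]; group, ?_⟩
    have he : (D.emb c * g⁻¹) * z * (D.emb c * g⁻¹)⁻¹ = D.R := by
      rw [R, ← hc, map_mul, map_mul, map_inv, ← hzm]; group
    exact ⟨⟨_, he⟩, card_cent_conj he⟩
  · refine Or.inr ⟨by rw [hpow, h5, map_one]; group, ?_⟩
    rcases hc with ⟨c, hc⟩ | ⟨c, hc⟩
    · have he : (D.emb c * g⁻¹) * z * (D.emb c * g⁻¹)⁻¹ = D.F := by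
        rw [F, ← hc, map_mul, map_mul, map_inv, ← hzm]; group
      exact ⟨⟨_, Or.inl he⟩, card_cent_conj he⟩
    · have he : (D.emb c * g⁻¹) * z * (D.emb c * g⁻¹)⁻¹ = D.emb (1, hA ^ 2) := by
        rw [← hc, map_mul, map_mul, map_inv, ← hzm]; group
      exact ⟨⟨_, Or.inr he⟩, (card_cent_conj he).trans D.cent_F_sq⟩

include D in
/-- An abelian group of odd order in the centraliser of an involution. -/
theorem small {u : G} (hu : u * u = 1) (hu1 : u ≠ 1) {H : Subgroup G} (hH : ∀ x ∈ H, x * u = u * x)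
    (hodd : Odd (Nat.card H)) (hcomm : ∀ a ∈ H, ∀ b ∈ H, a * b = b * a) :
    Nat.card H = 1 ∨ Nat.card H = 3 ∨ Nat.card H = 5 := by
  obtain ⟨g, hg⟩ := isConj_iff.1 (D.isConj_t hu hu1)
  let f : H →* M0 :=
    { toFun := fun x => D.e ⟨g⁻¹ * x * g, Subgroup.mem_centralizer_singleton_iff.2 (by
        have := hH x x.2
        rw [← hg] at this
        calc g⁻¹ * (x : G) * g * D.t = g⁻¹ * ((x : G) * (g * D.t * g⁻¹)) * g := by group
          _ = D.t * (g⁻¹ * x * g) := by rw [this]; group)⟩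
      map_one' := by rw [← map_one D.e]; congr 1; exact Subtype.ext (by simp)
      map_mul' := fun a b => by rw [← map_mul]; congr 1; exact Subtype.ext (by simp [mul_assoc]) }
  have hf : Function.Injective f := fun a b e => by
    have := congrArg Subtype.val (D.e.injective e)
    exact Subtype.ext (mul_left_cancel (mul_right_cancel this))
  have he : Nat.card H = Nat.card f.range := Nat.card_congr (MonoidHom.ofInjective hf).toEquiv
  rw [he] at hodd ⊢
  refine M0_sub hodd ?_
  rintro _ ⟨a, rfl⟩ _ ⟨b, rfl⟩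
  rw [← map_mul, ← map_mul]
  exact congrArg f (Subtype.ext (hcomm a a.2 b b.2))

/-- The structure of the centraliser of `x`. -/
structure LData (t x s : G) (p : ℕ) where
  K : Subgroup G
  mem : ∀ k ∈ K, k * x = x * k
  cover : ∀ c : G, c * x = x * c → c ∈ K ∨ c * t ∈ K
  odd : Odd (Nat.card K)
  card2 : Nat.card (Subgroup.centralizer ({x} : Set G)) = 2 * Nat.card K
  stable : ∀ k ∈ K, t * k * t ∈ K ∧ s * k * s ∈ K
  xK : x ∈ K
  fix : ∀ k ∈ K, k * t = t * k → k ∈ Subgroup.zpowers x
  card : Nat.card K = p * Nat.card ↥(K ⊓ Subgroup.centralizer ({s} : Set G)) *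
    Nat.card ↥(K ⊓ Subgroup.centralizer ({t * s} : Set G))
  invd : ∀ u, (u = s ∨ u = t * s) → ∀ a ∈ K, a * u = u * a → t * a * t = a⁻¹
  abel : ∀ a ∈ K, ∀ b ∈ K, ∃ j : ℕ, a * b = b * a * x ^ j

/-- Centralisers of elements of order three and five. -/
theorem exists_LData {a b : A5} {p : ℕ} (hp : (a = rA ∧ b = br ∧ p = 3) ∨ (a = hA ∧ b = bh ∧ p = 5)) :
    Nonempty (LData D.t (D.emb (1, a)) (D.emb (1, b)) p) := by
  classical
  haveI : Fact (Nat.Prime 2) := ⟨Nat.prime_two⟩
  obtain ⟨hbb, hbab, hap, ha1, hp5⟩ : b * b = 1 ∧ b * a * b = a⁻¹ ∧ a ^ p = 1 ∧ a ≠ 1 ∧ p.Prime := by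
    obtain ⟨⟨e1, e2⟩, ⟨e3, e4⟩, e5, e6, e7, e8⟩ := inv_eqs
    rcases hp with ⟨rfl, rfl, rfl⟩ | ⟨rfl, rfl, rfl⟩
    · exact ⟨e1, e2, e5, e7, by norm_num⟩
    · exact ⟨e3, e4, e6, e8, by norm_num⟩
  have hpodd : Odd p := by rcases hp with ⟨-, -, rfl⟩ | ⟨-, -, rfl⟩ <;> decide
  have hcases : (a = rA ∧ p = 3) ∨ (a = hA ∧ p = 5) := by
    rcases hp with ⟨h1, -, h2⟩ | ⟨h1, -, h2⟩ <;> [left; right] <;> exact ⟨h1, h2⟩
  set x := D.emb (1, a) with hx
  set s := D.emb (1, b) with hs
  have hox : orderOf x = p := by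
    haveI : Fact p.Prime := ⟨hp5⟩
    refine (orderOf_injective D.emb D.emb_injective _).trans (orderOf_eq_prime ?_ ?_)
    · exact Prod.ext (one_pow p) hap
    · exact fun e => ha1 (congrArg Prod.snd e)
  have hss : s * s = 1 := by rw [hs, ← map_mul, Prod.mk_mul_mk, one_mul, hbb, ← Prod.one_eq_mk, map_one]
  have hst : s * D.t = D.t * s := D.emb_mem _
  have hxt : x * D.t = D.t * x := D.emb_mem _
  have hsxs : s * x * s = x⁻¹ := by
    rw [hs, hx, ← map_mul, ← map_mul, Prod.mk_mul_mk, Prod.mk_mul_mk, one_mul, one_mul, hbab, ← map_inv,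
      Prod.inv_mk, inv_one]
  have htt := D.tt
  set C := Subgroup.centralizer ({x} : Set G) with hC
  have memC : ∀ c : G, c ∈ C ↔ c * x = x * c := fun c => Subgroup.mem_centralizer_singleton_iff
  let tC : C := ⟨D.t, (memC _).2 hxt.symm⟩
  have hCt : ∀ c : C, c * tC = tC * c → (c : G) ∈ Subgroup.zpowers x ∨ (c : G) * D.t ∈ Subgroup.zpowers x := by
    intro c hc
    obtain ⟨m, hm⟩ := D.exists_emb (congrArg Subtype.val hc)
    obtain ⟨i, j, hi, rfl⟩ := cent_cases hcases (m := m) (D.emb_injective (by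
      rw [map_mul, map_mul, hm, ← hx, (memC _).1 c.2]))
    rw [← hm, map_mul, map_pow, map_pow, D.emb_zM, ← hx]
    rcases i with _ | _ | i
    · left; rw [pow_zero, one_mul]; exact pow_mem (Subgroup.mem_zpowers x) j
    · right
      rw [pow_one, mul_assoc, ((show Commute x D.t from hxt).pow_left j).eq, ← mul_assoc, htt, one_mul]
      exact pow_mem (Subgroup.mem_zpowers x) j
    · omega
  have htC : orderOf tC = 2 := by rw [← Subgroup.orderOf_coe]; exact D.ht
  obtain ⟨T, hT⟩ := (IsPGroup.of_card (n := 1) (by rw [Nat.card_zpowers, htC, pow_one]) :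
    IsPGroup 2 (Subgroup.zpowers tC)).exists_le_sylow
  have htT : tC ∈ (T : Subgroup C) := hT (Subgroup.mem_zpowers tC)
  have hsmall : ∀ c : C, (∃ n : ℕ, c ^ 2 ^ n = 1) → c * tC = tC * c → c = 1 ∨ c = tC := by
    intro c ⟨n, hn⟩ hc
    have hodd : ∀ y : G, y ∈ Subgroup.zpowers x → y ^ 2 ^ n = 1 → y = 1 := fun y hy hy2 => by
      have h1 : orderOf y ∣ p := hox ▸ orderOf_dvd_of_mem_zpowers hy
      have h2 : orderOf y ∣ 2 ^ n := orderOf_dvd_of_pow_eq_one hy2
      exact orderOf_eq_one_iff.1 (Nat.dvd_one.1 ((Nat.dvd_gcd h1 h2).trans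
        (dvd_of_eq (Nat.Coprime.pow_right n (Nat.coprime_two_right.2 hpodd)))))
    have hcn : (c : G) ^ 2 ^ n = 1 := by rw [← Subgroup.coe_pow, hn]; rfl
    rcases hCt c hc with h | h
    · exact Or.inl (Subtype.ext (hodd _ h hcn))
    · right
      rcases Nat.eq_zero_or_pos n with rfl | hn0
      · exfalso
        rw [pow_zero, pow_one] at hcn
        rw [hcn, one_mul] at h
        have h1 : orderOf D.t ∣ p := hox ▸ orderOf_dvd_of_mem_zpowers h
        rw [D.ht] at h1
        exact (Nat.not_even_iff_odd.2 hpodd) (even_iff_two_dvd.2 h1)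
      · refine Subtype.ext ?_
        have h2 : ((c : G) * D.t) ^ 2 ^ n = 1 := by
          rw [(show Commute (c : G) D.t from congrArg Subtype.val hc).mul_pow, hcn, one_mul]
          obtain ⟨k, rfl⟩ := Nat.exists_eq_add_of_le' hn0
          rw [pow_succ', pow_mul, pow_two, htt, one_pow]
        calc (c : G) = (c : G) * D.t * D.t := by rw [mul_assoc, htt, mul_one]
          _ = D.t := by rw [hodd _ h h2, one_mul]
  have hTeq : (T : Subgroup C) = Subgroup.zpowers tC := by
    have hpow2 : ∀ y ∈ (T : Subgroup C), ∃ n : ℕ, y ^ 2 ^ n = 1 := fun y hy => by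
      obtain ⟨n, hn⟩ := T.isPGroup' ⟨y, hy⟩
      exact ⟨n, congrArg Subtype.val hn⟩
    have : Nontrivial (T : Subgroup C) := ⟨⟨⟨tC, htT⟩, 1, fun e => D.t_ne (congrArg (fun y : (T : Subgroup C) => ((y : C) : G)) e)⟩⟩
    have hcen := T.isPGroup'.center_nontrivial
    obtain ⟨z, hz1⟩ := exists_ne (1 : Subgroup.center (T : Subgroup C))
    have hzc : (z : C) * tC = tC * z :=
      congrArg Subtype.val (Subgroup.mem_center_iff.1 z.2 ⟨tC, htT⟩).symm
    have hzt : ((z : (T : Subgroup C)) : C) = tC :=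
      (hsmall _ (hpow2 _ (z : (T : Subgroup C)).2) hzc).resolve_left fun e => hz1 (Subtype.ext (Subtype.ext e))
    refine le_antisymm (fun y hy => ?_) hT
    have hyc : y * tC = tC * y := by
      rw [← hzt]
      exact congrArg Subtype.val (Subgroup.mem_center_iff.1 z.2 ⟨y, hy⟩)
    rcases hsmall y (hpow2 y hy) hyc with e | e
    · rw [e]; exact one_mem _
    · rw [e]; exact Subgroup.mem_zpowers _
  have hrel : (⊥ : Subgroup C).relIndex (T : Subgroup C) = 2 := by
    rw [Subgroup.relIndex_bot_left, hTeq, Nat.card_zpowers, htC]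
  obtain ⟨N, hN, hNi, htN⟩ := TwoTransfer.exists_index_two T ⊥ hrel tC htT
    (fun k g hk _ => by
      obtain ⟨j, rfl⟩ := Nat.exists_eq_add_of_le' hk
      rw [pow_succ', pow_mul, pow_two, show tC * tC = 1 from Subtype.ext htt, one_pow, mul_one, inv_mul_cancel]
      exact one_mem _)
    (fun g _ hb => by
      rw [Subgroup.mem_bot] at hb
      exact D.t_ne (congrArg Subtype.val (conj_eq_one_iff.1 (show g⁻¹ * tC * g⁻¹⁻¹ = 1 by rw [inv_inv, hb]))))
  set K : Subgroup G := N.map C.subtype with hK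
  have hKC : ∀ k ∈ K, k * x = x * k := by
    rintro _ ⟨k, -, rfl⟩
    exact (memC _).1 k.2
  have hcardK : Nat.card K = Nat.card N := Subgroup.card_map_of_injective C.subtype_injective
  have hNodd : Odd (Nat.card N) := by
    rw [← Nat.not_even_iff_odd, even_iff_two_dvd]
    intro h2
    have h4 : 2 ^ 2 ∣ Nat.card C := by
      rw [← N.card_mul_index, hNi, pow_two]
      exact mul_dvd_mul_right h2 2
    obtain ⟨P4, hP4⟩ := Sylow.exists_subgroup_card_pow_prime 2 h4
    obtain ⟨T', hT'⟩ := (IsPGroup.of_card hP4).exists_le_sylow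
    have := Subgroup.card_le_of_le hT'
    rw [T'.card_eq_multiplicity, ← T.card_eq_multiplicity, hTeq, Nat.card_zpowers, htC, hP4] at this
    omega
  have hNchar : ∀ c : C, c ∈ N ↔ Odd (orderOf c) := by
    intro c
    refine ⟨fun hc => hNodd.of_dvd_nat (Subgroup.orderOf_dvd_natCard N hc), fun hc => ?_⟩
    obtain ⟨k, hk⟩ := hc
    have h2 : c * c ∈ N := Subgroup.mul_self_mem_of_index_two hNi c
    have : c = (c * c) ^ (k + 1) := by
      rw [← pow_two, ← pow_mul, show 2 * (k + 1) = orderOf c + 1 by omega, pow_succ, pow_orderOf_eq_one, one_mul]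
    rw [this]
    exact pow_mem h2 _
  have hxK : x ∈ K := by
    refine ⟨⟨x, (memC _).2 rfl⟩, (hNchar _).2 ?_, rfl⟩
    rw [← Subgroup.orderOf_coe]; exact hox ▸ hpodd
  have hstab : ∀ u : G, u * u = 1 → (u * x * u = x ∨ u * x * u = x⁻¹) → ∀ k ∈ K, u * k * u ∈ K := by
    intro u hu hux k hk
    obtain ⟨k', hk', rfl⟩ := hk
    have hc : u * (k' : G) * u ∈ C := by
      rw [memC]
      have hkx : (k' : G) * (u * x * u) = (u * x * u) * k' := by
        rcases hux with e | e <;> rw [e]
        · exact (memC _).1 k'.2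
        · exact (show Commute (k' : G) x from (memC _).1 k'.2).inv_right.eq
      calc u * (k' : G) * u * x = u * ((k' : G) * (u * x * u)) * u := by
            simp only [mul_assoc]; rw [hu, mul_one]
        _ = u * ((u * x * u) * k') * u := by rw [hkx]
        _ = (u * u) * x * (u * k' * u) := by simp only [mul_assoc]
        _ = x * (u * k' * u) := by rw [hu, one_mul]
    refine ⟨⟨_, hc⟩, (hNchar _).2 ?_, rfl⟩
    have huinv : u⁻¹ = u := inv_eq_of_mul_eq_one_right hu
    rw [← Subgroup.orderOf_coe]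
    show Odd (orderOf (u * (k' : G) * u))
    conv in (u * (k' : G) * u) => arg 2; rw [← huinv]
    rw [show u * (k' : G) * u⁻¹ = MulAut.conj u (k' : G) from rfl, MulEquiv.orderOf_eq, Subgroup.orderOf_coe]
    exact (hNchar _).1 hk'
  have hfix : ∀ k ∈ K, k * D.t = D.t * k → k ∈ Subgroup.zpowers x := by
    intro k hk hkt
    obtain ⟨k', hk', rfl⟩ := hk
    rcases hCt k' (Subtype.ext hkt) with h | h
    · exact h
    exfalso
    obtain ⟨j, hj⟩ := h
    have h' : (k' * tC : C) ∈ N := by
      refine (hNchar _).2 ?_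
      have e : ((k' * tC : C) : G) = x ^ j := hj.symm
      rw [← Subgroup.orderOf_coe, e]
      exact (hox ▸ hpodd).of_dvd_nat (orderOf_dvd_of_mem_zpowers (zpow_mem (Subgroup.mem_zpowers x) j))
    exact htN ((Subgroup.mul_mem_cancel_left N hk').1 h')
  have hstabt := hstab D.t htt (Or.inl (by rw [← hxt, mul_assoc, htt, mul_one]))
  have hstabs := hstab s hss (Or.inr hsxs)
  let τ : K ≃* K :=
    { toFun := fun k => ⟨D.t * k * D.t, hstabt k k.2⟩
      invFun := fun k => ⟨D.t * k * D.t, hstabt k k.2⟩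
      left_inv := fun k => Subtype.ext (by
        show D.t * (D.t * k * D.t) * D.t = k
        simp only [← mul_assoc, htt, one_mul]; rw [mul_assoc, htt, mul_one])
      right_inv := fun k => Subtype.ext (by
        show D.t * (D.t * k * D.t) * D.t = k
        simp only [← mul_assoc, htt, one_mul]; rw [mul_assoc, htt, mul_one])
      map_mul' := fun k l => Subtype.ext (by
        show D.t * ((k : G) * l) * D.t = (D.t * k * D.t) * (D.t * l * D.t)
        calc D.t * ((k : G) * l) * D.t = D.t * k * (D.t * D.t) * l * D.t := by rw [htt]; group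
          _ = _ := by group) }
  let σ : K ≃* K :=
    { toFun := fun k => ⟨s * k * s, hstabs k k.2⟩
      invFun := fun k => ⟨s * k * s, hstabs k k.2⟩
      left_inv := fun k => Subtype.ext (by
        show s * (s * k * s) * s = k
        simp only [← mul_assoc, hss, one_mul]; rw [mul_assoc, hss, mul_one])
      right_inv := fun k => Subtype.ext (by
        show s * (s * k * s) * s = k
        simp only [← mul_assoc, hss, one_mul]; rw [mul_assoc, hss, mul_one])
      map_mul' := fun k l => Subtype.ext (by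
        show s * ((k : G) * l) * s = (s * k * s) * (s * l * s)
        calc s * ((k : G) * l) * s = s * k * (s * s) * l * s := by rw [hss]; group
          _ = _ := by group) }
  have hiff : ∀ (u : G), u * u = 1 → ∀ k : G, u * k * u = k ↔ k * u = u * k := fun u hu k => by
    constructor
    · intro e
      calc k * u = (u * k * u) * u := by rw [e]
        _ = u * k := by rw [mul_assoc, hu, mul_one]
    · intro e
      rw [mul_assoc, e, ← mul_assoc, hu, one_mul]
  have hFA : FourAct ((Subgroup.zpowers x).subgroupOf K) τ σ :=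
    { odd := hcardK ▸ hNodd
      tt := τ.left_inv
      ss := σ.left_inv
      comm := fun k => Subtype.ext (by
        show s * (D.t * k * D.t) * s = D.t * (s * k * s) * D.t
        calc s * (D.t * (k : G) * D.t) * s = (s * D.t) * k * (D.t * s) := by group
          _ = (D.t * s) * k * (s * D.t) := by rw [hst]
          _ = _ := by group)
      fix := fun k => by
        rw [Subgroup.mem_subgroupOf, Subtype.ext_iff]
        show D.t * (k : G) * D.t = k ↔ _
        rw [hiff _ htt]
        refine ⟨hfix k k.2, fun hk => ?_⟩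
        obtain ⟨j, hj⟩ := hk
        rw [← hj]
        exact ((show Commute x D.t from hxt).zpow_left j).eq
      central := fun z hz k => Subtype.ext (by
        obtain ⟨j, hj⟩ := Subgroup.mem_subgroupOf.1 hz
        show (k : G) * z = z * k
        rw [← hj]
        exact ((show Commute (k : G) x from hKC k k.2).zpow_right j).eq)
      inv := fun z hz => Subtype.ext (by
        obtain ⟨j, hj⟩ := Subgroup.mem_subgroupOf.1 hz
        show s * (z : G) * s = (z : G)⁻¹
        have hsinv : s⁻¹ = s := inv_eq_of_mul_eq_one_right hss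
        rw [← hj]
        conv_lhs => arg 2; rw [← hsinv]
        rw [← conj_zpow, hsinv, hsxs, inv_zpow]) }
  have hfixcard : ∀ (ρ : K ≃* K) (u : G), u * u = 1 → (∀ k : K, ((ρ k : K) : G) = u * k * u) →
      Nat.card {k : K // ρ k = k} = Nat.card ↥(K ⊓ Subgroup.centralizer ({u} : Set G)) := fun ρ u hu hρ =>
    Nat.card_congr
      { toFun := fun k => ⟨k.1.1, k.1.2, Subgroup.mem_centralizer_singleton_iff.2
          ((hiff u hu _).1 (by rw [← hρ, k.2]))⟩
        invFun := fun k => ⟨⟨k.1, k.2.1⟩, Subtype.ext ((hρ _).trans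
          ((hiff u hu _).2 (Subgroup.mem_centralizer_singleton_iff.1 k.2.2)))⟩
        left_inv := fun k => rfl
        right_inv := fun k => rfl }
  have hts : (D.t * s) * (D.t * s) = 1 := by
    calc (D.t * s) * (D.t * s) = D.t * (s * D.t) * s := by group
      _ = (D.t * D.t) * (s * s) := by rw [hst]; group
      _ = 1 := by rw [htt, hss, one_mul]
  refine ⟨{ K := K, mem := hKC, cover := ?_, odd := hcardK ▸ hNodd, card2 := ?_,
            stable := fun k hk => ⟨hstabt k hk, hstabs k hk⟩, xK := hxK, fix := hfix, card := ?_, invd := ?_,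
            abel := ?_ }⟩
  · intro c hc
    by_cases hcN : (⟨c, (memC c).2 hc⟩ : C) ∈ N
    · exact Or.inl ⟨_, hcN, rfl⟩
    · right
      refine ⟨⟨c, (memC c).2 hc⟩ * tC, ?_, rfl⟩
      exact (Subgroup.mul_mem_iff_of_index_two hNi).2 (iff_of_false hcN htN)
  · rw [hcardK, ← N.card_mul_index, hNi, mul_comm]
  · have h := hFA.card_eq
    rw [Nat.card_congr (Subgroup.subgroupOfEquivOfLe (Subgroup.zpowers_le.2 hxK)).toEquiv, Nat.card_zpowers, hox,
      hfixcard σ s hss (fun k => rfl)] at h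
    rw [h]
    congr 1
    refine hfixcard (τ.trans σ) (D.t * s) hts fun k => ?_
    show s * (D.t * (k : G) * D.t) * s = D.t * s * k * (D.t * s)
    calc s * (D.t * (k : G) * D.t) * s = (s * D.t) * k * (D.t * s) := by group
      _ = _ := by rw [hst]
  · intro u hu k hk hku
    rcases hu with rfl | rfl
    · exact congrArg Subtype.val (hFA.inv_A (a := ⟨k, hk⟩) (Subtype.ext ((hiff s hss k).2 hku)))
    · refine congrArg Subtype.val (hFA.inv_B (b := ⟨k, hk⟩) (Subtype.ext ?_))
      show s * (D.t * k * D.t) * s = k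
      calc s * (D.t * k * D.t) * s = (s * D.t) * k * (D.t * s) := by group
        _ = D.t * s * k * (D.t * s) := by rw [hst]
        _ = k := (hiff _ hts k).2 hku
  · intro a' ha' b' hb'
    have h := hFA.mod_Z.2 (⟨b', hb'⟩ : K) ⟨a', ha'⟩
    obtain ⟨j, hj⟩ := Subgroup.mem_subgroupOf.1 h
    have hj' : x ^ j = (b' * a')⁻¹ * (a' * b') := hj
    obtain ⟨n, hn⟩ : ∃ n : ℕ, x ^ n = x ^ j :=
      mem_powers_iff_mem_zpowers.2 (zpow_mem (Subgroup.mem_zpowers x) j)
    exact ⟨n, by rw [hn, hj', mul_inv_cancel_left]⟩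

end JD

end Cfsg.Agent.JOneRecog
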