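import Mathlib
import Cfsg.Agent.Char.Induced
import Cfsg.Agent.Char.Gen

/-!
A model of `2 × A₅`: tuples, and four virtual characters vanishing off the elements with two-part the central
involution.
-/

set_option autoImplicit false
set_option maxRecDepth 100000
set_option synthInstance.maxSize 10000
set_option synthInstance.maxHeartbeats 1000000
set_option linter.all false

namespace Cfsg.Agent.JOneRecog

open scoped ComplexConjugate
open Equiv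

/-- Even permutations of five letters. -/
abbrev A5 : Type := ↥(alternatingGroup (Fin 5))

/-- The model. -/
abbrev M0 : Type := Multiplicative (ZMod 2) × A5

/-- Images of the five letters. -/
abbrev P5 : Type := Fin 5 × Fin 5 × Fin 5 × Fin 5 × Fin 5

/-- Tuples. -/
abbrev Q : Type := ZMod 2 × P5

instance instDecidableEqP5 : DecidableEq P5 := inferInstance

instance instDecidableEqQ : DecidableEq Q := inferInstance

/-- The image of a letter. -/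
def ev (p : P5) (i : Fin 5) : Fin 5 := ![p.1, p.2.1, p.2.2.1, p.2.2.2.1, p.2.2.2.2] i

/-- The product of tuples. -/
def qmul (x y : Q) : Q :=
  (x.1 + y.1, ev x.2 (ev y.2 0), ev x.2 (ev y.2 1), ev x.2 (ev y.2 2), ev x.2 (ev y.2 3), ev x.2 (ev y.2 4))

/-- The identity. -/
def qone : Q := (0, 0, 1, 2, 3, 4)

/-- The central involution. -/
def qt : Q := (1, 0, 1, 2, 3, 4)

/-- Iterated images. -/
def itE (p : P5) : ℕ → Fin 5 → Fin 5
  | 0, i => i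
  | n + 1, i => ev p (itE p n i)

/-- Powers. -/
def qpow (x : Q) (n : ℕ) : Q :=
  ((n : ZMod 2) * x.1, itE x.2 n 0, itE x.2 n 1, itE x.2 n 2, itE x.2 n 3, itE x.2 n 4)

/-- The elements, as tuples. -/
def elsL : List Q :=
  [(0, (0, 1, 2, 3, 4)), (0, (0, 1, 3, 4, 2)), (0, (0, 1, 4, 2, 3)), (0, (0, 2, 1, 4, 3)), (0, (0, 2, 3, 1, 4)),
   (0, (0, 2, 4, 3, 1)), (0, (0, 3, 1, 2, 4)), (0, (0, 3, 2, 4, 1)), (0, (0, 3, 4, 1, 2)), (0, (0, 4, 1, 3, 2)),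
   (0, (0, 4, 2, 1, 3)), (0, (0, 4, 3, 2, 1)), (0, (1, 0, 2, 4, 3)), (0, (1, 0, 3, 2, 4)), (0, (1, 0, 4, 3, 2)),
   (0, (1, 2, 0, 3, 4)), (0, (1, 2, 3, 4, 0)), (0, (1, 2, 4, 0, 3)), (0, (1, 3, 0, 4, 2)), (0, (1, 3, 2, 0, 4)),
   (0, (1, 3, 4, 2, 0)), (0, (1, 4, 0, 2, 3)), (0, (1, 4, 2, 3, 0)), (0, (1, 4, 3, 0, 2)), (0, (2, 0, 1, 3, 4)),
   (0, (2, 0, 3, 4, 1)), (0, (2, 0, 4, 1, 3)), (0, (2, 1, 0, 4, 3)), (0, (2, 1, 3, 0, 4)), (0, (2, 1, 4, 3, 0)),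
   (0, (2, 3, 0, 1, 4)), (0, (2, 3, 1, 4, 0)), (0, (2, 3, 4, 0, 1)), (0, (2, 4, 0, 3, 1)), (0, (2, 4, 1, 0, 3)),
   (0, (2, 4, 3, 1, 0)), (0, (3, 0, 1, 4, 2)), (0, (3, 0, 2, 1, 4)), (0, (3, 0, 4, 2, 1)), (0, (3, 1, 0, 2, 4)),
   (0, (3, 1, 2, 4, 0)), (0, (3, 1, 4, 0, 2)), (0, (3, 2, 0, 4, 1)), (0, (3, 2, 1, 0, 4)), (0, (3, 2, 4, 1, 0)),
   (0, (3, 4, 0, 1, 2)), (0, (3, 4, 1, 2, 0)), (0, (3, 4, 2, 0, 1)), (0, (4, 0, 1, 2, 3)), (0, (4, 0, 2, 3, 1)),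
   (0, (4, 0, 3, 1, 2)), (0, (4, 1, 0, 3, 2)), (0, (4, 1, 2, 0, 3)), (0, (4, 1, 3, 2, 0)), (0, (4, 2, 0, 1, 3)),
   (0, (4, 2, 1, 3, 0)), (0, (4, 2, 3, 0, 1)), (0, (4, 3, 0, 2, 1)), (0, (4, 3, 1, 0, 2)), (0, (4, 3, 2, 1, 0)),
   (1, (0, 1, 2, 3, 4)), (1, (0, 1, 3, 4, 2)), (1, (0, 1, 4, 2, 3)), (1, (0, 2, 1, 4, 3)), (1, (0, 2, 3, 1, 4)),
   (1, (0, 2, 4, 3, 1)), (1, (0, 3, 1, 2, 4)), (1, (0, 3, 2, 4, 1)), (1, (0, 3, 4, 1, 2)), (1, (0, 4, 1, 3, 2)),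
   (1, (0, 4, 2, 1, 3)), (1, (0, 4, 3, 2, 1)), (1, (1, 0, 2, 4, 3)), (1, (1, 0, 3, 2, 4)), (1, (1, 0, 4, 3, 2)),
   (1, (1, 2, 0, 3, 4)), (1, (1, 2, 3, 4, 0)), (1, (1, 2, 4, 0, 3)), (1, (1, 3, 0, 4, 2)), (1, (1, 3, 2, 0, 4)),
   (1, (1, 3, 4, 2, 0)), (1, (1, 4, 0, 2, 3)), (1, (1, 4, 2, 3, 0)), (1, (1, 4, 3, 0, 2)), (1, (2, 0, 1, 3, 4)),
   (1, (2, 0, 3, 4, 1)), (1, (2, 0, 4, 1, 3)), (1, (2, 1, 0, 4, 3)), (1, (2, 1, 3, 0, 4)), (1, (2, 1, 4, 3, 0)),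
   (1, (2, 3, 0, 1, 4)), (1, (2, 3, 1, 4, 0)), (1, (2, 3, 4, 0, 1)), (1, (2, 4, 0, 3, 1)), (1, (2, 4, 1, 0, 3)),
   (1, (2, 4, 3, 1, 0)), (1, (3, 0, 1, 4, 2)), (1, (3, 0, 2, 1, 4)), (1, (3, 0, 4, 2, 1)), (1, (3, 1, 0, 2, 4)),
   (1, (3, 1, 2, 4, 0)), (1, (3, 1, 4, 0, 2)), (1, (3, 2, 0, 4, 1)), (1, (3, 2, 1, 0, 4)), (1, (3, 2, 4, 1, 0)),
   (1, (3, 4, 0, 1, 2)), (1, (3, 4, 1, 2, 0)), (1, (3, 4, 2, 0, 1)), (1, (4, 0, 1, 2, 3)), (1, (4, 0, 2, 3, 1)),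
   (1, (4, 0, 3, 1, 2)), (1, (4, 1, 0, 3, 2)), (1, (4, 1, 2, 0, 3)), (1, (4, 1, 3, 2, 0)), (1, (4, 2, 0, 1, 3)),
   (1, (4, 2, 1, 3, 0)), (1, (4, 2, 3, 0, 1)), (1, (4, 3, 0, 2, 1)), (1, (4, 3, 1, 0, 2)), (1, (4, 3, 2, 1, 0))]

/-- The class of a five-cycle. -/
def clF : List P5 :=
  [(1, 2, 3, 4, 0), (1, 3, 0, 4, 2), (1, 4, 3, 0, 2), (2, 0, 4, 1, 3), (2, 4, 1, 0, 3),
   (2, 4, 3, 1, 0), (3, 0, 4, 2, 1), (3, 2, 0, 4, 1), (3, 2, 4, 1, 0), (4, 0, 1, 2, 3),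
   (4, 3, 0, 2, 1), (4, 3, 1, 0, 2)]

/-- The elements. -/
def els : Finset Q := ⟨Multiset.ofList elsL, (by decide +kernel : elsL.Nodup)⟩

/-- The involutions. -/
def invols : Finset Q := els.filter fun q => qmul q q = qone ∧ q ≠ qone

/-- The number of fixed letters. -/
def fixN (p : P5) : ℕ :=
  (if p.1 = 0 then 1 else 0) + (if p.2.1 = 1 then 1 else 0) + (if p.2.2.1 = 2 then 1 else 0) +
    (if p.2.2.2.1 = 3 then 1 else 0) + (if p.2.2.2.2 = 4 then 1 else 0)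

/-- The class: identity, involution, three-cycle and the two classes of five-cycles. -/
def cls (p : P5) : Fin 5 :=
  if fixN p = 5 then 0 else if fixN p = 1 then 1 else if fixN p = 2 then 2
  else if p ∈ clF then 3 else 4

/-- Values of the four class functions on the involution times the classes. -/
def vtab : Fin 4 → Fin 5 → Zsqrtd 5 :=
  ![![8, 0, 2, -2, -2],
    ![8, 0, 2, ⟨3, 1⟩, ⟨3, -1⟩],
    ![8, 0, 2, ⟨3, -1⟩, ⟨3, 1⟩],
    ![8, 0, -4, -2, -2]]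

/-- The four class functions. -/
def vf (i : Fin 4) (q : Q) : Zsqrtd 5 := if q.1 = 0 then 0 else vtab i (cls q.2)

/-- Their inner products. -/
def gram : Fin 4 → Fin 4 → ℤ := ![![2, 0, 0, 0], ![0, 4, 2, -2], ![0, 2, 4, -2], ![0, -2, -2, 4]]

/-- Their products with the trivial character. -/
def triv : Fin 4 → ℤ := ![0, 1, 1, -1]

/-- Sums over pairs of involutions. -/
def pairs : Fin 4 → ℤ := ![0, 10, 10, -6]

/-- Coefficients of the indicator. -/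
def coeff : Fin 4 → ℤ := ![4, 3, 3, 5]

theorem allL {α : Type} {P : α → Prop} [DecidablePred P] {l : List α}
    (h : (l.all fun x => decide (P x)) = true) : ∀ x ∈ l, P x :=
  fun x hx => of_decide_eq_true (List.all_eq_true.1 h x hx)

theorem vf_gram : ∀ i j, ∑ q ∈ els, vf i q * vf j q = ((120 * gram i j : ℤ) : Zsqrtd 5) := by
  decide +kernel

theorem vf_triv : ∀ i, ∑ q ∈ els, vf i q = ((120 * triv i : ℤ) : Zsqrtd 5) := by decide +kernel

theorem vf_pairs : ∀ i, ∑ u ∈ invols, ∑ v ∈ invols, vf i (qmul u v) = ((120 * pairs i : ℤ) : Zsqrtd 5) := by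
  decide +kernel

theorem vf_indicator : ∀ q ∈ elsL, ∑ i, (coeff i : Zsqrtd 5) * vf i q = (⟨if q = qt then 120 else 0, 0⟩ : Zsqrtd 5) :=
  allL (by decide +kernel)

theorem mem_els {q : Q} : q ∈ els ↔ q ∈ elsL := Iff.rfl

theorem vf_one : ∀ i, vf i qone = 0 := by decide +kernel

theorem vf_support : ∀ i, ∀ q ∈ elsL, vf i q ≠ 0 → qpow q 15 = qt := fun i =>
  allL ((by decide +kernel : ∀ i, (elsL.all fun q => decide (vf i q ≠ 0 → qpow q 15 = qt)) = true) i)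

theorem central_eq : ∀ q ∈ elsL, qmul q q = qone → q ≠ qone → (∀ r ∈ elsL, qmul q r = qmul r q) → q = qt := by
  intro q hq h1 h2 h3
  have h := allL (P := fun q : Q => qmul q q = qone → q ≠ qone →
    (elsL.all fun r => decide (qmul q r = qmul r q)) = true → q = qt) (by decide +kernel : (elsL.all fun q : Q =>
      decide (qmul q q = qone → q ≠ qone → (elsL.all fun r => decide (qmul q r = qmul r q)) = true → q = qt)) = true)
  exact h q hq h1 h2 (List.all_eq_true.2 fun r hr => decide_eq_true (h3 r hr))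

theorem qt_central : qt ∈ elsL ∧ ∀ r ∈ elsL, qmul qt r = qmul r qt :=
  ⟨List.elem_iff.1 (by decide +kernel), allL (by decide +kernel)⟩

theorem els_card : els.card = 120 := by decide +kernel

/-- The tuple of a permutation. -/
def toP (g : A5) : P5 := ((g : Perm (Fin 5)) 0, (g : Perm (Fin 5)) 1, (g : Perm (Fin 5)) 2,
  (g : Perm (Fin 5)) 3, (g : Perm (Fin 5)) 4)

/-- The tuple of an element. -/
def toQ (g : M0) : Q := (Multiplicative.toAdd g.1, toP g.2)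

theorem ev_toP (g : A5) (i : Fin 5) : ev (toP g) i = (g : Perm (Fin 5)) i := by
  fin_cases i <;> rfl

theorem toQ_mul (g h : M0) : toQ (g * h) = qmul (toQ g) (toQ h) := by
  simp only [toQ, qmul, ev_toP, Prod.fst_mul, toAdd_mul]
  rfl

theorem toQ_one : toQ (1 : M0) = qone := rfl

theorem toQ_injective : Function.Injective toQ := fun g h e => by
  refine Prod.ext (congrArg Prod.fst e :) (Subtype.ext (Equiv.ext fun i => ?_))
  rw [← ev_toP, ← ev_toP, show toP g.2 = toP h.2 from congrArg Prod.snd e]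

theorem toP_mem : ∀ p : Perm (Fin 5), Equiv.Perm.sign p = 1 →
    ((elsL.take 60).map Prod.snd).elem (p 0, p 1, p 2, p 3, p 4) = true := by decide +kernel

theorem elsL_split : ∀ z : ZMod 2, (((elsL.take 60).map Prod.snd).all fun p => elsL.elem (z, p)) = true := by
  decide +kernel

theorem toQ_mem (g : M0) : toQ g ∈ els :=
  mem_els.2 (List.elem_iff.1 (List.all_eq_true.1 (elsL_split _) _
    (List.elem_iff.1 (toP_mem _ (Equiv.Perm.mem_alternatingGroup.1 g.2.2)))))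

theorem card_M0 : Nat.card M0 = 120 := by
  have h5 : Nat.card A5 = 60 := by
    rw [nat_card_alternatingGroup, Nat.card_fin]
    rfl
  have h2 : Nat.card (Multiplicative (ZMod 2)) = 2 := by
    rw [Nat.card_congr Multiplicative.toAdd, Nat.card_zmod]
  rw [Nat.card_prod, h5, h2]

theorem toQ_surj {q : Q} (hq : q ∈ els) : ∃ g : M0, toQ g = q := by
  have h : Function.Bijective fun g : M0 => (⟨toQ g, toQ_mem g⟩ : {q // q ∈ els}) := by
    refine (Nat.bijective_iff_injective_and_card _).2 ⟨fun g h e => toQ_injective (congrArg Subtype.val e), ?_⟩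
    rw [card_M0, Nat.card_eq_fintype_card, Fintype.card_coe, els_card]
  obtain ⟨g, hg⟩ := h.2 ⟨q, hq⟩
  exact ⟨g, congrArg Subtype.val hg⟩

theorem itE_toP (g : A5) : ∀ (n : ℕ) (i : Fin 5), itE (toP g) n i = ((g ^ n : A5) : Perm (Fin 5)) i
  | 0, i => by simp [itE]
  | n + 1, i => by
    rw [itE, itE_toP g n i, ev_toP, pow_succ']
    rfl

theorem toQ_pow (g : M0) (n : ℕ) : toQ (g ^ n) = qpow (toQ g) n := by
  simp only [toQ, qpow, itE_toP, Prod.pow_fst, Prod.pow_snd, toAdd_pow, nsmul_eq_mul]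
  rfl

theorem sum_toQ {M : Type*} [AddCommMonoid M] [Fintype M0] (F : Q → M) :
    ∑ g : M0, F (toQ g) = ∑ q ∈ els, F q :=
  Finset.sum_bij (fun g _ => toQ g) (fun g _ => toQ_mem g) (fun _ _ _ _ e => toQ_injective e)
    (fun q hq => by
      obtain ⟨g, hg⟩ := toQ_surj hq
      exact ⟨g, Finset.mem_univ _, hg⟩)
    (fun _ _ => rfl)

/-- A primitive fifth root of unity. -/
noncomputable def zeta : ℂ := Complex.exp (2 * Real.pi * Complex.I / (5 : ℕ))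

theorem zeta_prim : IsPrimitiveRoot zeta 5 := Complex.isPrimitiveRoot_exp 5 (by norm_num)

theorem zeta_pow : zeta ^ 5 = 1 := zeta_prim.pow_eq_one

theorem zeta_sum : 1 + zeta + zeta ^ 2 + zeta ^ 3 + zeta ^ 4 = 0 := by
  have h := zeta_prim.geom_sum_eq_zero (by norm_num)
  simpa [Finset.sum_range_succ] using h

theorem zeta_conj : conj zeta = zeta ^ 4 := by
  rw [← Complex.inv_eq_conj (Complex.norm_eq_one_of_pow_eq_one zeta_pow (by norm_num))]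
  refine inv_eq_of_mul_eq_one_right ?_
  rw [← pow_succ', zeta_pow]

/-- A square root of five. -/
noncomputable def s5 : ℂ := 2 * (zeta + zeta ^ 4) + 1

theorem s5_sq : s5 * s5 = 5 := by
  unfold s5
  linear_combination 4 * zeta_sum + (4 * zeta ^ 3 + 8) * zeta_pow

/-- The embedding into the complex numbers. -/
noncomputable def toC : (Zsqrtd 5) →+* ℂ :=
  Zsqrtd.lift ⟨s5, by rw [s5_sq]; norm_num⟩

theorem toC_apply (x : Zsqrtd 5) : toC x = (x.re : ℂ) + (x.im : ℂ) * s5 := rfl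

theorem toC_conj (x : Zsqrtd 5) : conj (toC x) = toC x := by
  have h : conj s5 = s5 := by
    rw [s5, map_add, map_mul, map_add, map_pow, zeta_conj, map_one, map_ofNat, ← pow_mul,
      show 4 * 4 = 5 * 3 + 1 from rfl, pow_add, pow_mul, zeta_pow, one_pow, one_mul, pow_one, add_comm (zeta ^ 4)]
  rw [toC_apply, map_add, map_mul, map_intCast, map_intCast, h]

end Cfsg.Agent.JOneRecog
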