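import Cfsg.Agent.JOneRecog.Witness

/-!
The order 189000 does not occur.
-/

set_option autoImplicit false
set_option maxRecDepth 100000
set_option synthInstance.maxSize 10000
set_option synthInstance.maxHeartbeats 1000000
set_option linter.all false

namespace Cfsg.Agent.JOneRecog.JD

variable {G : Type*} [Group G] [Finite G] [IsSimpleGroup G] (D : JD G)

include D in
theorem no_four (y : G) : orderOf y ≠ 4 := by
  intro hy
  haveI : Fact (Nat.Prime 2) := ⟨Nat.prime_two⟩
  obtain ⟨P, hP⟩ := (IsPGroup.of_card (n := 2) (by rw [Nat.card_zpowers, hy]; rfl) :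
    IsPGroup 2 (Subgroup.zpowers y)).exists_le_sylow
  obtain ⟨g, hg⟩ := MulAction.exists_smul_eq G P D.S
  have hyS : g * y * g⁻¹ ∈ (D.S : Subgroup G) := by
    rw [← hg, Sylow.coe_subgroup_smul]
    exact Subgroup.smul_mem_pointwise_smul _ _ _ (hP (Subgroup.mem_zpowers y))
  obtain ⟨w, hw⟩ := D.mem_S.1 hyS
  have h2 : y ^ 2 = 1 := by
    rw [← conj_eq_one_iff (a := g), ← conj_pow, ← hw, pow_two, D.sv_sq]
  have := orderOf_dvd_of_pow_eq_one h2
  rw [hy] at this
  norm_num at this

variable {x s : G} {p : ℕ}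

/-- Elements of odd order of the centraliser lie in the subgroup of index two. -/
theorem LData.odd_mem (L : LData D.t x s p) {c : G} (hc : c * x = x * c) (hodd : Odd (orderOf c)) : c ∈ L.K := by
  have hinvol : ∀ a ∈ L.K, D.t * a * D.t ∈ L.K := fun a ha => (L.stable a ha).1
  have h2 : c * c ∈ L.K := by
    rcases L.cover c hc with h | h
    · exact mul_mem h h
    · have h' := hinvol _ h
      have e : D.t * (c * D.t) * D.t = D.t * c := by
        calc D.t * (c * D.t) * D.t = D.t * c * (D.t * D.t) := by group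
          _ = D.t * c := by rw [D.tt, mul_one]
      rw [e] at h'
      have := mul_mem h h'
      rwa [show c * D.t * (D.t * c) = c * c by rw [mul_assoc, ← mul_assoc D.t, D.tt, one_mul]] at this
  obtain ⟨k, hk⟩ := hodd
  have : c = (c * c) ^ (k + 1) := by
    rw [← pow_two, ← pow_mul, show 2 * (k + 1) = orderOf c + 1 by omega, pow_succ, pow_orderOf_eq_one, one_mul]
  rw [this]
  exact pow_mem h2 _

theorem odd_of_pow {c : G} {n : ℕ} (hn : Odd n) (h : c ^ n = 1) : Odd (orderOf c) :=
  hn.of_dvd_nat (orderOf_dvd_of_pow_eq_one h)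

theorem ne_self {z : G} {n : ℕ} (hn : Odd n) (hz : z ^ n = 1) (hz1 : z ≠ 1) : z⁻¹ ≠ z := by
  intro e
  have h2 : z ^ 2 = 1 := by rw [pow_two]; nth_rewrite 1 [← e]; rw [inv_mul_cancel]
  exact hz1 (eq_one_of_pow_coprime (Nat.coprime_two_left.2 hn) h2 hz)

/-- An element of odd order cannot invert. -/
theorem odd_inverts {c z : G} (hc : Odd (orderOf c)) {n : ℕ} (hn : Odd n) (hz : z ^ n = 1)
    (h : c * c * z * (c * c)⁻¹ = z ∨ c * c * z * (c * c)⁻¹ = z⁻¹) : c * z * c⁻¹ = z := by
  have h4 : Commute (c ^ 4) z := by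
    refine mul_inv_eq_iff_eq_mul.1 ?_
    rw [show c ^ 4 = c * c * (c * c) by simp [pow_succ, mul_assoc]]
    have hmul : ∀ y : G, c * c * (c * c) * y * (c * c * (c * c))⁻¹ = c * c * (c * c * y * (c * c)⁻¹) * (c * c)⁻¹ :=
      fun y => by simp [mul_assoc]
    rw [hmul]
    rcases h with e | e
    · rw [e, e]
    · have e' : c * c * z⁻¹ * (c * c)⁻¹ = (c * c * z * (c * c)⁻¹)⁻¹ := by simp [mul_assoc]
      rw [e, e', e, inv_inv]
  obtain ⟨k, hk⟩ := hc
  have hco : Nat.Coprime 4 (orderOf c) := by
    rw [show 4 = 2 ^ 2 from rfl]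
    exact Nat.Coprime.pow_left 2 (Nat.coprime_two_left.2 ⟨k, hk⟩)
  have hmem : c ∈ Subgroup.zpowers (c ^ 4) := mem_zpowers_pow_iff.2 (by rw [Nat.coprime_iff_gcd_eq_one] at *; exact hco)
  obtain ⟨j, hj⟩ := hmem
  rw [mul_inv_eq_iff_eq_mul, ← hj]
  exact (h4.zpow_left j).eq

include D in
/-- The order 189000 is impossible. -/
theorem not_189000 (hG : Nat.card G = 189000) : False := by
  classical
  haveI : Fact (Nat.Prime 3) := ⟨by norm_num⟩
  obtain ⟨L⟩ : Nonempty (LData D.t D.R (D.emb (1, br)) 3) := D.exists_LData (Or.inl ⟨rfl, rfl, rfl⟩)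
  obtain ⟨hR3, hRo, hsR⟩ := D.R_data
  obtain ⟨r1, r2, r3, r4⟩ := D.invol_emb inv_eqs.1.1 br_ne.1
  have hR1 : D.R ≠ 1 := fun e => by rw [e, orderOf_one] at hRo; omega
  have hn3 := D.n3_eq L
  have hoddG : ∀ {c : G}, ∀ (P : Sylow 3 G), c ∈ (P : Subgroup G) → Odd (orderOf c) := fun P hc => by
    obtain ⟨k, hk⟩ := P.isPGroup' ⟨_, hc⟩
    exact odd_of_pow (n := 3 ^ k) (Odd.pow (by decide)) (congrArg Subtype.val hk)
  -- nine divides the order of the centraliser
  obtain ⟨P, hP⟩ := (IsPGroup.of_card (n := 1) (by rw [Nat.card_zpowers, hRo, pow_one]) :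
    IsPGroup 3 (Subgroup.zpowers D.R)).exists_le_sylow
  have hP27 : ∀ Q : Sylow 3 G, Nat.card (Q : Subgroup G) = 27 := fun Q => by
    rw [Q.card_eq_multiplicity, hG, show (189000 : ℕ) = 3 ^ 3 * 7000 from rfl,
      Nat.factorization_mul (by norm_num) (by norm_num)]
    rw [Finsupp.add_apply, Nat.Prime.factorization_pow (by norm_num : Nat.Prime 3), Finsupp.single_eq_same,
      Nat.factorization_eq_zero_of_not_dvd (by norm_num : ¬ 3 ∣ 7000)]
    norm_num
  have h9 : 9 ∣ D.n3 := by
    set X := (P : Subgroup G) ⊓ Subgroup.centralizer ({D.R} : Set G) with hX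
    have hRP : D.R ∈ (P : Subgroup G) := hP (Subgroup.mem_zpowers _)
    have hle : Subgroup.zpowers D.R ≤ X :=
      Subgroup.zpowers_le.2 ⟨hRP, Subgroup.mem_centralizer_singleton_iff.2 rfl⟩
    have hne : X ≠ Subgroup.zpowers D.R := by
      intro e
      haveI : Nontrivial (P : Subgroup G) := ⟨⟨⟨D.R, hRP⟩, 1, fun e => hR1 (congrArg Subtype.val e)⟩⟩
      have hcen := P.isPGroup'.center_nontrivial
      obtain ⟨z, hz⟩ := exists_ne (1 : Subgroup.center (P : Subgroup G))
      have hzR : ((z : (P : Subgroup G)) : G) ∈ Subgroup.zpowers D.R := by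
        rw [← e]
        exact ⟨(z : (P : Subgroup G)).2, Subgroup.mem_centralizer_singleton_iff.2
          (congrArg Subtype.val (Subgroup.mem_center_iff.1 z.2 ⟨D.R, hRP⟩)).symm⟩
      have hRz : D.R ∈ Subgroup.zpowers ((z : (P : Subgroup G)) : G) := by
        have h1 : orderOf ((z : (P : Subgroup G)) : G) ∣ 3 := by
          have h := orderOf_dvd_of_mem_zpowers hzR
          rwa [hRo] at h
        have h2 : orderOf ((z : (P : Subgroup G)) : G) = 3 := ((Nat.dvd_prime (by norm_num)).1 h1).resolve_left
          fun h => hz (Subtype.ext (Subtype.ext (orderOf_eq_one_iff.1 h)))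
        rw [Subgroup.eq_of_le_of_card_ge (Subgroup.zpowers_le.2 hzR) (by rw [Nat.card_zpowers, Nat.card_zpowers, h2, hRo])]
        exact Subgroup.mem_zpowers _
      obtain ⟨j, hj⟩ := hRz
      have hall : (P : Subgroup G) ≤ X := fun y hy => ⟨hy, Subgroup.mem_centralizer_singleton_iff.2 (by
        rw [← hj]
        exact ((show Commute y ((z : (P : Subgroup G)) : G) from
          congrArg Subtype.val (Subgroup.mem_center_iff.1 z.2 ⟨y, hy⟩)).zpow_right j).eq)⟩
      have := Subgroup.card_le_of_le hall
      rw [e, hP27 P, Nat.card_zpowers, hRo] at this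
      omega
    obtain ⟨k, hk⟩ := IsPGroup.iff_card.1 (P.isPGroup'.to_le (inf_le_left : X ≤ (P : Subgroup G)))
    have h2 : 2 ≤ k := by
      by_contra hk2
      refine hne (Subgroup.eq_of_le_of_card_ge hle ?_).symm
      rw [hk, Nat.card_zpowers, hRo]
      exact (Nat.pow_le_pow_right (by norm_num) (show k ≤ 1 by omega)).trans (by norm_num)
    exact ((pow_dvd_pow 3 h2).trans (hk ▸ dvd_refl (Nat.card X))).trans
      (Subgroup.card_dvd_of_le (inf_le_right : X ≤ Subgroup.centralizer ({D.R} : Set G)))
  obtain ⟨u, u', hus, hus', huu, hu1, huu', hu1', hsplit⟩ :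
      ∃ u u', (u = D.emb (1, br) ∨ u = D.t * D.emb (1, br)) ∧
        (u' = D.emb (1, br) ∨ u' = D.t * D.emb (1, br)) ∧ u * u = 1 ∧ u ≠ 1 ∧ u' * u' = 1 ∧ u' ≠ 1 ∧
        Nat.card ↥(L.K ⊓ Subgroup.centralizer ({u} : Set G)) = 3 ∧
        D.n3 = 6 * (3 * Nat.card ↥(L.K ⊓ Subgroup.centralizer ({u'} : Set G))) ∧
        (u * u' = D.t ∧ u' * u = D.t) := by
    have a1 := LData.part D (L := L) r1 r2 (Or.inl rfl)
    have a2 := LData.part D (L := L) r3 r4 (Or.inr rfl)
    have hts : D.t * D.emb (1, br) = D.emb (1, br) * D.t := (D.emb_mem _).symm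
    have hprod : D.emb (1, br) * (D.t * D.emb (1, br)) = D.t ∧ D.t * D.emb (1, br) * D.emb (1, br) = D.t := by
      constructor
      · rw [hts, ← mul_assoc, r1, one_mul]
      · rw [mul_assoc, r1, mul_one]
    rw [hn3] at h9
    rcases a1 with e | e | e
    · rcases a2 with e' | e' | e'
      · rw [e, e'] at h9; norm_num at h9
      · exact ⟨_, _, Or.inr rfl, Or.inl rfl, r3, r4, r1, r2, e', by rw [hn3, e', mul_comm (Nat.card _) 3], hprod.2, hprod.1⟩
      · rw [e, e'] at h9; norm_num at h9
    · exact ⟨_, _, Or.inl rfl, Or.inr rfl, r1, r2, r3, r4, e, by rw [hn3, e], hprod.1, hprod.2⟩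
    · rcases a2 with e' | e' | e'
      · rw [e, e'] at h9; norm_num at h9
      · exact ⟨_, _, Or.inr rfl, Or.inl rfl, r3, r4, r1, r2, e', by rw [hn3, e', mul_comm (Nat.card _) 3], hprod.2, hprod.1⟩
      · rw [e, e'] at h9; norm_num at h9
  obtain ⟨hm, hn, huu1, huu2⟩ := hsplit
  obtain ⟨z, hzo, hzR, hzu, hzt⟩ := LData.exists_elem D hus (hm.symm.dvd)
  have hz3 : z ^ 3 = 1 := by rw [← hzo, pow_orderOf_eq_one]
  have hz1 : z ≠ 1 := fun e => by rw [e, orderOf_one] at hzo; omega
  have htz : D.t * z * D.t = z⁻¹ := hzt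
  have hcz : Nat.card (Subgroup.centralizer ({z} : Set G)) = D.n3 ∧ ∃ g : G, g * z * g⁻¹ = D.R := by
    rcases D.odd_cent huu hu1 hzu (by rw [show 15 = 3 * 5 from rfl, pow_mul, hz3, one_pow]) hz1 with
      ⟨-, hg, hc⟩ | ⟨h5, -⟩
    · exact ⟨hc, hg⟩
    · exact absurd (eq_one_of_pow_coprime (by decide) hz3 h5) hz1
  have huR : u * D.R * u = D.R⁻¹ := by
    rcases hus with rfl | rfl
    · exact hsR
    · calc D.t * D.emb (1, br) * D.R * (D.t * D.emb (1, br))
          = D.t * (D.emb (1, br) * (D.R * D.t) * D.emb (1, br)) := by group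
        _ = D.t * ((D.emb (1, br) * D.t) * D.R * D.emb (1, br)) := by
            rw [show D.R * D.t = D.t * D.R from D.emb_mem _]; group
        _ = (D.t * D.t) * (D.emb (1, br) * D.R * D.emb (1, br)) := by rw [D.emb_mem]; group
        _ = D.R⁻¹ := by rw [D.tt, one_mul, hsR]
  have hRK : D.R ∈ L.K := L.xK
  have hzK : z ∈ L.K := LData.odd_mem D L hzR (odd_of_pow (n := 3) (by decide) hz3)
  have hzne : ∀ j : ℕ, z ≠ D.R ^ j := by
    intro j e
    have hc : Commute D.R D.t := D.emb_mem _
    rw [e] at htz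
    rw [(hc.symm.pow_right j).eq, mul_assoc, D.tt, mul_one] at htz
    refine ne_self (n := 3) (by decide) hz3 hz1 ?_
    rw [e, ← htz]
  let Q : Subgroup G := Subgroup.closure {D.R, z}
  have hQmem : ∀ i j : ℕ, D.R ^ i * z ^ j ∈ Q := fun i j =>
    mul_mem (pow_mem (Subgroup.subset_closure (by simp)) i) (pow_mem (Subgroup.subset_closure (by simp)) j)
  have hQdvd : Nat.card Q = 9 := by
    have hRz : Commute D.R z := hzR.symm
    let f : Multiplicative (ZMod 3) × Multiplicative (ZMod 3) → G := fun ab =>
      D.R ^ (Multiplicative.toAdd ab.1).val * z ^ (Multiplicative.toAdd ab.2).val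
    have hmodR : ∀ n, D.R ^ (n % 3) = D.R ^ n := fun n => by rw [← hRo, pow_mod_orderOf]
    have hmodz : ∀ n, z ^ (n % 3) = z ^ n := fun n => by rw [← hzo, pow_mod_orderOf]
    let F : Multiplicative (ZMod 3) × Multiplicative (ZMod 3) →* G :=
      { toFun := f
        map_one' := by simp [f]
        map_mul' := fun a b => by
          simp only [f, Prod.fst_mul, Prod.snd_mul, toAdd_mul, ZMod.val_add, hmodR, hmodz, pow_add]
          rw [mul_assoc (D.R ^ _), mul_assoc (D.R ^ _), ← mul_assoc (D.R ^ (Multiplicative.toAdd b.1).val),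
            ((hRz.pow_pow (Multiplicative.toAdd b.1).val (Multiplicative.toAdd a.2).val)).eq]
          group }
    have hFinj : Function.Injective F := by
      rw [injective_iff_map_eq_one]
      rintro ⟨a, b⟩ e
      obtain ⟨i, rfl⟩ : ∃ i : ZMod 3, Multiplicative.ofAdd i = a := ⟨_, rfl⟩
      obtain ⟨j, rfl⟩ : ∃ j : ZMod 3, Multiplicative.ofAdd j = b := ⟨_, rfl⟩
      change D.R ^ i.val * z ^ j.val = 1 at e
      fin_cases j
      · change D.R ^ i.val * z ^ 0 = 1 at e
        rw [pow_zero, mul_one] at e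
        have hi : i = 0 := by
          have hd : 3 ∣ i.val := by
            have h := orderOf_dvd_of_pow_eq_one e
            rwa [hRo] at h
          have := ZMod.val_lt i
          exact (ZMod.val_eq_zero i).1 (by omega)
        rw [hi]; rfl
      · exfalso
        change D.R ^ i.val * z ^ 1 = 1 at e
        rw [pow_one] at e
        refine hzne (3 - i.val) ?_
        rw [eq_inv_of_mul_eq_one_right e]
        refine inv_eq_of_mul_eq_one_right ?_
        rw [← pow_add, Nat.add_sub_cancel' (le_of_lt (ZMod.val_lt i)), hR3]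
      · exfalso
        change D.R ^ i.val * z ^ 2 = 1 at e
        refine hzne i.val ?_
        have e2 : D.R ^ i.val = (z ^ 2)⁻¹ := eq_inv_of_mul_eq_one_left e
        rw [e2]
        refine eq_inv_of_mul_eq_one_right ?_
        rw [← pow_succ, hz3]
    have hrange : F.range = Q := by
      refine le_antisymm ?_ ((Subgroup.closure_le _).2 ?_)
      · rintro _ ⟨ab, rfl⟩; exact hQmem _ _
      · rintro y (rfl | rfl)
        · exact ⟨(Multiplicative.ofAdd 1, 1), by simp [F, f, ZMod.val_one]⟩
        · exact ⟨(1, Multiplicative.ofAdd 1), by simp [F, f, ZMod.val_one]⟩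
    rw [← hrange, ← Nat.card_congr (MonoidHom.ofInjective hFinj).toEquiv, Nat.card_prod,
      Nat.card_congr Multiplicative.toAdd, Nat.card_zmod]
  have hQform : ∀ y ∈ Q, ∃ i j : ℕ, y = D.R ^ i * z ^ j := by
    intro y hy
    have hc : Commute D.R z := hzR.symm
    induction hy using Subgroup.closure_induction with
    | mem y hy =>
      rcases hy with rfl | rfl
      · exact ⟨1, 0, by simp⟩
      · exact ⟨0, 1, by simp⟩
    | one => exact ⟨0, 0, by simp⟩
    | mul a b _ _ ha hb =>
      obtain ⟨i, j, rfl⟩ := ha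
      obtain ⟨i', j', rfl⟩ := hb
      refine ⟨i + i', j + j', ?_⟩
      rw [pow_add, pow_add, mul_assoc (D.R ^ i), ← mul_assoc (z ^ j), ← (hc.pow_pow i' j).eq]
      simp only [mul_assoc]
    | inv a _ ha =>
      obtain ⟨i, j, rfl⟩ := ha
      refine ⟨2 * i, 2 * j, inv_eq_of_mul_eq_one_right ?_⟩
      rw [mul_assoc, ← mul_assoc (z ^ j), ← (hc.pow_pow (2 * i) j).eq, mul_assoc, ← pow_add, ← mul_assoc, ← pow_add,
        show i + 2 * i = 3 * i by omega, show j + 2 * j = 3 * j by omega, pow_mul, pow_mul, hR3, hz3, one_pow, one_pow,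
        one_mul]
  by_cases h27 : 27 ∣ D.n3
  swap
  · -- the centraliser does not contain a Sylow 3-subgroup
    have hbad : ∀ y : G, Nat.card (Subgroup.centralizer ({y} : Set G)) = D.n3 → ∀ T : Sylow 3 G,
        (∀ q ∈ (T : Subgroup G), q * y = y * q) → False := by
      intro y hy T hT
      refine h27 (hy ▸ (hP27 T) ▸ Subgroup.card_dvd_of_le ?_)
      exact fun q hq => Subgroup.mem_centralizer_singleton_iff.2 (hT q hq)
    obtain ⟨T, hT⟩ := (IsPGroup.of_card (n := 2) (hQdvd.trans (by norm_num)) : IsPGroup 3 Q).exists_le_sylow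
    have hRT : D.R ∈ (T : Subgroup G) := hT (Subgroup.subset_closure (by simp))
    have hzT : z ∈ (T : Subgroup G) := hT (Subgroup.subset_closure (by simp))
    have hTX : ∀ q ∈ (T : Subgroup G), q * D.R = D.R * q → q ∈ Q := by
      intro q hq hqR
      set X := (T : Subgroup G) ⊓ Subgroup.centralizer ({D.R} : Set G) with hX
      have hQX : Q ≤ X := by
        refine (Subgroup.closure_le _).2 ?_
        rintro y (rfl | rfl)
        · exact ⟨hRT, Subgroup.mem_centralizer_singleton_iff.2 rfl⟩
        · exact ⟨hzT, Subgroup.mem_centralizer_singleton_iff.2 hzR⟩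
      obtain ⟨k, hk⟩ := IsPGroup.iff_card.1 (T.isPGroup'.to_le (inf_le_left : X ≤ (T : Subgroup G)))
      have hk2 : k ≤ 2 := by
        by_contra hk3
        exact h27 (((pow_dvd_pow 3 (show 3 ≤ k by omega)).trans (hk ▸ dvd_refl (Nat.card X))).trans
          (Subgroup.card_dvd_of_le (inf_le_right : X ≤ Subgroup.centralizer ({D.R} : Set G))))
      have e := Subgroup.eq_of_le_of_card_ge hQX (by
        rw [hk, hQdvd]; exact (Nat.pow_le_pow_right (by norm_num) hk2).trans (by norm_num))
      rw [e]
      exact ⟨hq, Subgroup.mem_centralizer_singleton_iff.2 hqR⟩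
    haveI : Nontrivial (T : Subgroup G) := ⟨⟨⟨z, hzT⟩, 1, fun e => hz1 (congrArg Subtype.val e)⟩⟩
    have hcen := T.isPGroup'.center_nontrivial
    obtain ⟨c, hc1⟩ := exists_ne (1 : Subgroup.center (T : Subgroup G))
    have hcc : ∀ q ∈ (T : Subgroup G), q * ((c : (T : Subgroup G)) : G) = ((c : (T : Subgroup G)) : G) * q :=
      fun q hq => congrArg Subtype.val (Subgroup.mem_center_iff.1 c.2 ⟨q, hq⟩)
    have hQlist : ∀ y ∈ Q, ∃ i j : ℕ, i < 3 ∧ j < 3 ∧ y = D.R ^ i * z ^ j := by
      intro y hy
      obtain ⟨i, j, rfl⟩ := hQform y hy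
      refine ⟨i % 3, j % 3, Nat.mod_lt _ (by norm_num), Nat.mod_lt _ (by norm_num), ?_⟩
      conv_rhs => rw [← hRo, pow_mod_orderOf, hRo, ← hzo, pow_mod_orderOf]
    -- the classes inside the subgroup of order nine
    have hinvcent : ∀ y : G, Nat.card (Subgroup.centralizer ({y⁻¹} : Set G)) =
        Nat.card (Subgroup.centralizer ({y} : Set G)) := fun y => by
      have e : Subgroup.centralizer ({y⁻¹} : Set G) = Subgroup.centralizer ({y} : Set G) := by
        ext a
        simp only [Subgroup.mem_centralizer_singleton_iff]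
        exact ⟨fun h => by simpa using (show Commute a y⁻¹ from h).inv_right.eq,
          fun h => (show Commute a y from h).inv_right.eq⟩
      rw [e]
    have hpow2 : ∀ {y : G}, y ^ 3 = 1 → y ^ 2 = y⁻¹ := fun {y} hy =>
      eq_inv_of_mul_eq_one_left (by rw [← pow_succ, hy])
    have hR2 := hpow2 hR3
    have hz2 := hpow2 hz3
    obtain ⟨i, j, hi, hj, hcQ⟩ := hQlist _ (hTX _ (c : (T : Subgroup G)).2 (hcc D.R hRT).symm)
    have hij : i ≠ 0 ∧ j ≠ 0 := by
      constructor
      · rintro rfl
        rw [pow_zero, one_mul] at hcQ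
        interval_cases j
        · exact hc1 (Subtype.ext (Subtype.ext (by simpa using hcQ)))
        · exact hbad _ (by rw [hcQ, pow_one]; exact hcz.1) T hcc
        · exact hbad _ (by rw [hcQ, hz2, hinvcent]; exact hcz.1) T hcc
      · rintro rfl
        rw [pow_zero, mul_one] at hcQ
        interval_cases i
        · exact hc1 (Subtype.ext (Subtype.ext (by simpa using hcQ)))
        · exact hbad _ (by rw [hcQ, pow_one]; rfl) T hcc
        · exact hbad _ (by rw [hcQ, hR2, hinvcent]; rfl) T hcc
    obtain ⟨a, haT, haR⟩ : ∃ a ∈ (T : Subgroup G), a * D.R ≠ D.R * a := by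
      by_contra hh
      push_neg at hh
      exact hbad D.R rfl T hh
    have hconjQ : ∀ y ∈ Q, a * y * a⁻¹ ∈ Q := by
      -- the subgroup of index three is normal
      have hQn : (Q.subgroupOf (T : Subgroup G)).Normal := by
        refine Subgroup.normal_of_index_eq_minFac_card ?_
        have hidx := (Q.subgroupOf (T : Subgroup G)).card_mul_index
        rw [Nat.card_congr (Subgroup.subgroupOfEquivOfLe hT).toEquiv, hQdvd, hP27] at hidx
        rw [hP27, show Nat.minFac 27 = 3 by norm_num]
        omega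
      intro y hy
      exact hQn.conj_mem ⟨y, hT hy⟩ hy ⟨a, haT⟩
    have hkey : ∀ y : G, y ∈ Q → Nat.card (Subgroup.centralizer ({y} : Set G)) = D.n3 →
        y = 1 ∨ y = D.R ∨ y = D.R⁻¹ ∨ y = z ∨ y = z⁻¹ := by
      intro y hy hyc
      obtain ⟨k, l, hk, hl, rfl⟩ := hQlist y hy
      by_contra hno
      push_neg at hno
      obtain ⟨n0, n1, n2, n3', n4⟩ := hno
      -- `y` is a power of `c` or of its image under `u`
      have huinv : u⁻¹ = u := inv_eq_of_mul_eq_one_right huu
      have huconj : ∀ i j : ℕ, u * (D.R ^ i * z ^ j) * u⁻¹ = (D.R⁻¹) ^ i * z ^ j := fun i j => by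
        rw [← conj_mul, ← conj_pow, ← conj_pow, huinv, huR,
          show u * z * u = z by rw [← hzu, mul_assoc, huu, mul_one]]
      have hC1 : ∀ q ∈ (T : Subgroup G), q * (D.R ^ i * z ^ j) = D.R ^ i * z ^ j * q := hcQ ▸ hcc
      have hcomm : Commute D.R z := hzR.symm
      have h3 : ∀ m : ℕ, D.R ^ m = D.R ^ (m % 3) ∧ z ^ m = z ^ (m % 3) := fun m => by
        constructor
        · conv_rhs => rw [← hRo, pow_mod_orderOf]
        · conv_rhs => rw [← hzo, pow_mod_orderOf]
      have hsame : ∃ e : ℕ, (D.R ^ k * z ^ l = (D.R ^ i * z ^ j) ^ e) ∨ D.R ^ k * z ^ l = ((D.R⁻¹) ^ i * z ^ j) ^ e := by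
        have hk0 : k ≠ 0 := by
          rintro rfl
          interval_cases l
          · simp at n0
          · exact n3' (by simp)
          · exact n4 (by simp [hz2])
        have hl0 : l ≠ 0 := by
          rintro rfl
          interval_cases k
          · simp at n0
          · exact n1 (by simp)
          · exact n2 (by simp [hR2])
        obtain ⟨hi0, hj0⟩ := hij
        refine ⟨if l = j then 1 else 2, ?_⟩
        rw [← hR2, ← pow_mul, (hcomm.pow_pow i j).mul_pow, (hcomm.pow_pow (2 * i) j).mul_pow,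
          ← pow_mul, ← pow_mul, ← pow_mul, (h3 (i * _)).1, (h3 (j * _)).2, (h3 (2 * i * _)).1]
        interval_cases i <;> interval_cases j <;> interval_cases k <;> interval_cases l <;> first | omega | simp
      obtain ⟨e, he | he⟩ := hsame
      · refine hbad _ hyc T fun q hq => ?_
        rw [he]
        exact ((show Commute q _ from hC1 q hq).pow_right e).eq
      · have hdvd : 27 ∣ Nat.card (Subgroup.centralizer ({(D.R⁻¹) ^ i * z ^ j} : Set G)) := by
          rw [← huconj i j, ← card_cent_conj rfl, ← hP27 T]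
          exact Subgroup.card_dvd_of_le fun q hq => Subgroup.mem_centralizer_singleton_iff.2 (hC1 q hq)
        refine h27 (hyc ▸ hdvd.trans (Subgroup.card_dvd_of_le fun q hq => ?_))
        rw [Subgroup.mem_centralizer_singleton_iff] at hq ⊢
        rw [he]
        exact ((show Commute q _ from hq).pow_right e).eq
    have himg : ∀ y, Nat.card (Subgroup.centralizer ({y} : Set G)) = D.n3 → y ∈ Q →
        a * y * a⁻¹ = 1 ∨ a * y * a⁻¹ = D.R ∨ a * y * a⁻¹ = D.R⁻¹ ∨ a * y * a⁻¹ = z ∨ a * y * a⁻¹ = z⁻¹ :=
      fun y hyc hy => hkey _ (hconjQ y hy) ((card_cent_conj rfl).symm.trans hyc)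
    have hRQ : D.R ∈ Q := Subgroup.subset_closure (by simp)
    have hzQ : z ∈ Q := Subgroup.subset_closure (by simp)
    have haodd := hoddG T haT
    have hfixR : a * a * D.R * (a * a)⁻¹ = D.R ∨ a * a * D.R * (a * a)⁻¹ = D.R⁻¹ := by
      have e0 : a * a * D.R * (a * a)⁻¹ = a * (a * D.R * a⁻¹) * a⁻¹ := by group
      rw [e0]
      rcases himg D.R rfl hRQ with e | e | e | e | e
      · exact absurd (conj_eq_one_iff.1 e) hR1
      · rw [e, e]; exact Or.inl rfl
      · rw [e, show a * D.R⁻¹ * a⁻¹ = (a * D.R * a⁻¹)⁻¹ by group, e, inv_inv]; exact Or.inl rfl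
      all_goals
        rw [e]
        rcases himg z hcz.1 hzQ with e' | e' | e' | e' | e'
      · exact absurd (conj_eq_one_iff.1 e') hz1
      · exact Or.inl e'
      · exact Or.inr e'
      · exact absurd ((MulAut.conj a).injective (e.trans e'.symm :)) (fun h => hzne 1 (by rw [pow_one, h]))
      · exfalso
        have : D.R = z⁻¹ := (MulAut.conj a).injective (by
          simp only [MulAut.conj_apply]
          rw [e, show a * z⁻¹ * a⁻¹ = (a * z * a⁻¹)⁻¹ by group, e', inv_inv])
        exact hzne 2 (by rw [hR2, this, inv_inv])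
      all_goals rw [show a * z⁻¹ * a⁻¹ = (a * z * a⁻¹)⁻¹ by group]
      · exact absurd (conj_eq_one_iff.1 e') hz1
      · rw [e']; exact Or.inr rfl
      · rw [e', inv_inv]; exact Or.inl rfl
      · exfalso
        have : D.R = z⁻¹ := (MulAut.conj a).injective (by
          simp only [MulAut.conj_apply]
          rw [e, show a * z⁻¹ * a⁻¹ = (a * z * a⁻¹)⁻¹ by group, e'])
        exact hzne 2 (by rw [hR2, this, inv_inv])
      · exact absurd ((MulAut.conj a).injective (e.trans e'.symm :)) (fun h => hzne 1 (by rw [pow_one, h]))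
    exact haR (mul_inv_eq_iff_eq_mul.1 (odd_inverts haodd (by decide : Odd 3) hR3 hfixR))
  · -- the centraliser contains one
    have hm' : Nat.card ↥(L.K ⊓ Subgroup.centralizer ({u'} : Set G)) = 3 := by
      rcases LData.part D (L := L) huu' hu1' hus' with e | e | e <;> rw [hn, e] at h27 <;> norm_num at h27
      exact e
    rw [hm'] at hn
    have hK27 : Nat.card L.K = 27 := by
      have := L.card2
      rw [show Nat.card (Subgroup.centralizer ({D.R} : Set G)) = D.n3 from rfl, hn] at this
      omega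
    obtain ⟨z', hzo', hzR', hzu', htz'⟩ := LData.exists_elem D hus' (hm'.symm.dvd)
    have hz3' : z' ^ 3 = 1 := by rw [← hzo', pow_orderOf_eq_one]
    have hzK' : z' ∈ L.K := LData.odd_mem D L hzR' (odd_of_pow (n := 3) (by decide) hz3')
    obtain ⟨hczc, g, hg⟩ := hcz
    -- the odd part of the centraliser of `z`
    set K' := L.K.map (MulAut.conj g⁻¹).toMonoidHom with hK'
    have hmem' : ∀ c : G, c ∈ K' ↔ g * c * g⁻¹ ∈ L.K := fun c => by
      rw [hK', Subgroup.mem_map]
      constructor
      · rintro ⟨y, hy, rfl⟩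
        simpa [mul_assoc] using hy
      · exact fun h => ⟨_, h, by simp [mul_assoc]⟩
    have hoddK' : ∀ c : G, c * z = z * c → c ^ 27 = 1 → c ∈ K' := by
      intro c hc h27'
      rw [hmem']
      refine LData.odd_mem D L ?_ (odd_of_pow (n := 27) (by decide) (by rw [conj_pow, h27']; group))
      rw [← hg]
      calc g * c * g⁻¹ * (g * z * g⁻¹) = g * (c * z) * g⁻¹ := by group
        _ = g * z * g⁻¹ * (g * c * g⁻¹) := by rw [hc]; group
    have hK'card : Nat.card K' = 27 := by
      rw [hK', Subgroup.card_map_of_injective (MulAut.conj g⁻¹).injective, hK27]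
    have hKpow : ∀ c ∈ L.K, c ^ 27 = 1 := fun c hc =>
      orderOf_dvd_iff_pow_eq_one.1 (hK27 ▸ Subgroup.orderOf_dvd_natCard L.K hc)
    by_cases hcom : z * z' = z' * z
    · -- abelian case
      have hzc : ∀ c ∈ L.K, c * z = z * c := by
        have hle : L.K ≤ Subgroup.centralizer ({z} : Set G) ⊓ L.K := by
          set Z := Subgroup.centralizer ({z} : Set G) ⊓ L.K with hZ
          have hgen : Subgroup.zpowers D.R ⊔ Subgroup.closure {z, z'} ≤ Z := by
            refine sup_le (Subgroup.zpowers_le.2 ⟨Subgroup.mem_centralizer_singleton_iff.2 hzR.symm, hRK⟩)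
              ((Subgroup.closure_le _).2 ?_)
            rintro y (rfl | rfl)
            · exact ⟨Subgroup.mem_centralizer_singleton_iff.2 rfl, hzK⟩
            · exact ⟨Subgroup.mem_centralizer_singleton_iff.2 hcom.symm, hzK'⟩
          have hd : Nat.card Z ∣ 3 ^ 3 := by
            have := Subgroup.card_dvd_of_le (inf_le_right : Z ≤ L.K)
            rw [hK27] at this
            rw [show (3 : ℕ) ^ 3 = 27 by norm_num]
            exact this
          obtain ⟨k, hk3, hk⟩ := (Nat.dvd_prime_pow (by norm_num)).1 hd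
          have hQZ : Q ≤ Z := (Subgroup.closure_le _).2 (by
            rintro y (rfl | rfl)
            · exact hgen (Subgroup.mem_sup_left (Subgroup.mem_zpowers _))
            · exact hgen (Subgroup.mem_sup_right (Subgroup.subset_closure (by simp))))
          have hz'Z : z' ∈ Z := hgen (Subgroup.mem_sup_right (Subgroup.subset_closure (by simp)))
          have hz'Q : z' ∉ Q := by
            intro hq
            obtain ⟨i, j, hij⟩ := hQform z' hq
            have hRt : D.t * D.R * D.t⁻¹ = D.R := by
              rw [show D.t * D.R = D.R * D.t from (D.emb_mem _).symm, mul_inv_cancel_right]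
            have hz'1 : z' ≠ 1 := fun e => by rw [e, orderOf_one] at hzo'; omega
            have h1 : z'⁻¹ = D.R ^ i * (z⁻¹) ^ j := by
              rw [← htz']
              conv_lhs => arg 2; rw [← D.tinv]
              rw [hij, ← conj_mul, ← conj_pow, ← conj_pow, hRt, D.tinv, htz]
            have h2 : z'⁻¹ = (D.R ^ i)⁻¹ * (z⁻¹) ^ j := by
              rw [hij, mul_inv_rev, inv_pow]
              exact ((show Commute D.R z from hzR.symm).pow_pow i j).inv_right.inv_left.eq.symm
            have h3 : D.R ^ i = 1 := by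
              have h4 : D.R ^ i = (D.R ^ i)⁻¹ := mul_right_cancel (h1.symm.trans h2)
              exact eq_one_of_pow_coprime (by decide : Nat.Coprime 2 3)
                (by rw [pow_two]; nth_rewrite 1 [h4]; rw [inv_mul_cancel])
                (by rw [← pow_mul, mul_comm, pow_mul, hR3, one_pow])
            rw [h3, one_mul] at hij
            have hzc' : z' * u = u * z' := by rw [hij]; exact ((show Commute z u from hzu).pow_left j).eq
            have hzt' : z' * D.t = D.t * z' := by
              rw [← huu1]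
              exact ((show Commute z' u from hzc').mul_right (show Commute z' u' from hzu')).eq
            refine ne_self (n := 3) (by decide) hz3' hz'1 ?_
            rw [← htz', ← hzt', mul_assoc, D.tt, mul_one]
          have h27le : 27 ≤ Nat.card Z := by
            have h9d : 9 ∣ Nat.card Z := hQdvd ▸ Subgroup.card_dvd_of_le hQZ
            rcases (show k = 0 ∨ k = 1 ∨ k = 2 ∨ k = 3 by omega) with rfl | rfl | rfl | rfl
            · rw [hk] at h9d; norm_num at h9d
            · rw [hk] at h9d; norm_num at h9d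
            · exfalso
              exact hz'Q (Subgroup.eq_of_le_of_card_ge hQZ (by rw [hk, hQdvd]; norm_num) ▸ hz'Z)
            · rw [hk]; norm_num
          have := Subgroup.eq_of_le_of_card_ge (inf_le_right : Z ≤ L.K) (by rw [hK27]; exact h27le)
          exact this.ge
        exact fun c hc => Subgroup.mem_centralizer_singleton_iff.1 (hle hc).1
      have hKK' : L.K = K' := by
        refine Subgroup.eq_of_le_of_card_ge (fun c hc => hoddK' c (hzc c hc) (hKpow c hc)) ?_
        rw [hK'card, hK27]
      set N := Subgroup.normalizer (L.K : Set G) with hN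
      have hgN : g ∈ N := by
        rw [hN, Subgroup.mem_normalizer_iff]
        intro c
        rw [← hmem', ← hKK']
      -- the orbit of `R`
      set C := (Subgroup.centralizer ({D.R} : Set G)).subgroupOf N with hC
      have hCN : Subgroup.centralizer ({D.R} : Set G) ≤ N := by
        intro c hc
        rw [Subgroup.mem_centralizer_singleton_iff] at hc
        rw [hN, Subgroup.mem_normalizer_iff]
        have hh : ∀ c : G, c * D.R = D.R * c → ∀ y ∈ L.K, c * y * c⁻¹ ∈ L.K := fun c hc y hy =>
          LData.odd_mem D L ((((show Commute c D.R from hc)).mul_left (L.mem y hy)).mul_left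
            (show Commute c D.R from hc).inv_left).eq
            (odd_of_pow (n := 27) (by decide) (by rw [conj_pow, hKpow y hy]; group))
        intro y
        refine ⟨hh c hc y, fun hy => ?_⟩
        have := hh c⁻¹ (show Commute c D.R from hc).inv_left.eq _ hy
        simpa [mul_assoc] using this
      have hi : C.index * 54 = Nat.card N := by
        rw [← C.card_mul_index, mul_comm, Nat.card_congr (Subgroup.subgroupOfEquivOfLe hCN).toEquiv]
        congr 1
        exact hn.symm
      -- at most 26 images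
      have hinj : ∀ a b : N, (a : G) * D.R * (a : G)⁻¹ = b * D.R * (b : G)⁻¹ ↔ a⁻¹ * b ∈ C := by
        intro a b
        rw [hC, Subgroup.mem_subgroupOf, Subgroup.mem_centralizer_singleton_iff, Subgroup.coe_mul, InvMemClass.coe_inv]
        constructor
        · intro e
          calc (a : G)⁻¹ * b * D.R = (a : G)⁻¹ * (b * D.R * (b : G)⁻¹) * b := by group
            _ = D.R * ((a : G)⁻¹ * b) := by rw [← e]; group
        · intro e
          calc (a : G) * D.R * (a : G)⁻¹ = a * (D.R * ((a : G)⁻¹ * b)) * (b : G)⁻¹ := by group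
            _ = (b : G) * D.R * (b : G)⁻¹ := by rw [← e]; group
      let F : N ⧸ C → {y : L.K // y ≠ 1} := Quotient.lift
        (fun a : N => ⟨⟨(a : G) * D.R * (a : G)⁻¹, (Subgroup.mem_normalizer_iff.1 a.2 _).1 hRK⟩,
          fun e => hR1 (conj_eq_one_iff.1 (congrArg Subtype.val e))⟩)
        fun a b hab => Subtype.ext (Subtype.ext ((hinj a b).2 (QuotientGroup.leftRel_apply.1 hab)))
      have hFinj : Function.Injective F := by
        rintro ⟨a⟩ ⟨b⟩ e
        exact QuotientGroup.eq.2 ((hinj a b).1 (congrArg (fun y => ((y.1 : L.K) : G)) e))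
      have hle26 : C.index ≤ 26 := by
        have h1 := Nat.card_le_card_of_injective F hFinj
        rw [← Subgroup.index_eq_card] at h1
        refine h1.trans ?_
        have : Fintype L.K := Fintype.ofFinite _
        rw [Nat.card_eq_fintype_card, Fintype.card_subtype_compl, Fintype.card_subtype_eq, ← Nat.card_eq_fintype_card,
          hK27]
      -- at least six images
      have hge : 5 ≤ C.index := by
        have hsN : ∀ v : G, v * v = 1 → v * D.R * v⁻¹ = D.R⁻¹ → v ∈ N := by
          intro v hv hvR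
          rw [hN, Subgroup.mem_normalizer_iff]
          have hh : ∀ y ∈ L.K, v * y * v⁻¹ ∈ L.K := fun y hy => by
            refine LData.odd_mem D L ?_ (odd_of_pow (n := 27) (by decide) (by rw [conj_pow, hKpow y hy]; group))
            have h1 : Commute (v * y * v⁻¹) (v * D.R * v⁻¹) := by
              have := (show Commute y D.R from L.mem y hy).map (MulAut.conj v).toMonoidHom
              simpa using this
            rw [hvR] at h1
            simpa using h1.inv_right.eq
          intro y
          refine ⟨hh y, fun hy => ?_⟩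
          have h2 := hh _ hy
          rw [inv_eq_of_mul_eq_one_right hv] at h2
          simpa [mul_assoc, ← mul_assoc v v, hv] using h2
        have hu' : u ∈ N := hsN u huu (by rw [inv_eq_of_mul_eq_one_right huu, huR])
        obtain ⟨hc', g', hg'⟩ : Nat.card (Subgroup.centralizer ({z'} : Set G)) = D.n3 ∧
            ∃ g : G, g * z' * g⁻¹ = D.R := by
          rcases D.odd_cent huu' hu1' hzu' (by rw [show 15 = 3 * 5 from rfl, pow_mul, hz3', one_pow])
            (fun e => by rw [e, orderOf_one] at hzo'; omega) with ⟨-, hg, hc⟩ | ⟨h5, -⟩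
          · exact ⟨hc, hg⟩
          · exact absurd (eq_one_of_pow_coprime (by decide) hz3' h5)
              (fun e => by rw [e, orderOf_one] at hzo'; omega)
        -- five distinct values
        have key : ∀ a : N, ∃ q : N ⧸ C, ((F q).1 : G) = (a : G) * D.R * (a : G)⁻¹ := fun a => ⟨QuotientGroup.mk a, rfl⟩
        obtain ⟨q0, h0⟩ := key 1
        obtain ⟨q1, h1⟩ := key ⟨u, hu'⟩
        obtain ⟨q2, h2⟩ := key ⟨g⁻¹, inv_mem hgN⟩
        obtain ⟨q3, h3⟩ := key (⟨g⁻¹, inv_mem hgN⟩ * ⟨u, hu'⟩)
        have hg'N : g' ∈ N := by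
          have hz'c : ∀ c ∈ L.K, c * z' = z' * c := by
            have hall : L.K ≤ Subgroup.centralizer ({z'} : Set G) := by
              intro c hc
              rw [Subgroup.mem_centralizer_singleton_iff]
              have hcz' : c ∈ Subgroup.centralizer ({z} : Set G) := Subgroup.mem_centralizer_singleton_iff.2 (hzc c hc)
              obtain ⟨k, hk⟩ := L.abel c hc z' hzK'
              rw [hk]
              by_cases hk0 : D.R ^ k = 1
              · rw [hk0, mul_one]
              exfalso
              have hz'R : z' ∈ K' := hKK' ▸ hzK'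
              have hcK : c ∈ K' := hKK' ▸ hc
              obtain ⟨l, hl⟩ := L.abel (g * c * g⁻¹) ((hmem' c).1 hcK) (g * z' * g⁻¹) ((hmem' z').1 hz'R)
              have e1 : c * z' = z' * c * z ^ l := by
                apply (MulAut.conj g).injective
                simp only [MulAut.conj_apply, map_mul]
                rw [← conj_pow, hg]
                rw [hl]
              have e2 : z ^ l = D.R ^ k := mul_left_cancel (e1.symm.trans hk)
              have e3 : D.t * z ^ l * D.t⁻¹ = z ^ l := by
                rw [e2, ← conj_pow, show D.t * D.R = D.R * D.t from (D.emb_mem _).symm, mul_inv_cancel_right]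
              rw [← conj_pow, D.tinv, htz, inv_pow] at e3
              exact hk0 (by
                rw [← e2]
                by_contra hne
                exact ne_self (n := 3) (by decide) (by rw [← pow_mul, mul_comm, pow_mul, hz3, one_pow]) hne e3)
            exact fun c hc => Subgroup.mem_centralizer_singleton_iff.1 (hall hc)
          rw [hN, Subgroup.mem_normalizer_iff]
          have hh : ∀ c ∈ L.K, g' * c * g'⁻¹ ∈ L.K := fun c hc => by
            refine LData.odd_mem D L ?_ (odd_of_pow (n := 27) (by decide) (by rw [conj_pow, hKpow c hc]; group))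
            rw [← hg']
            calc g' * c * g'⁻¹ * (g' * z' * g'⁻¹) = g' * (c * z') * g'⁻¹ := by group
              _ = g' * z' * g'⁻¹ * (g' * c * g'⁻¹) := by rw [hz'c c hc]; group
          have hmap : L.K.map (MulAut.conj g').toMonoidHom = L.K := by
            refine Subgroup.eq_of_le_of_card_ge ?_ (by rw [Subgroup.card_map_of_injective (MulAut.conj g').injective])
            rintro _ ⟨c, hc, rfl⟩; exact hh c hc
          intro y
          refine ⟨hh y, fun hy => ?_⟩
          rw [← hmap] at hy
          obtain ⟨c, hc, ec⟩ := hy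
          rwa [← (MulAut.conj g').injective ec]
        obtain ⟨q4, h4⟩ := key ⟨g'⁻¹, inv_mem hg'N⟩
        have v0 : ((F q0).1 : G) = D.R := by rw [h0]; simp
        have v1 : ((F q1).1 : G) = D.R⁻¹ := by rw [h1]; show u * D.R * u⁻¹ = _; rw [inv_eq_of_mul_eq_one_right huu, huR]
        have v2 : ((F q2).1 : G) = z := by rw [h2]; show g⁻¹ * D.R * g⁻¹⁻¹ = _; rw [← hg]; group
        have v3 : ((F q3).1 : G) = z⁻¹ := by
          rw [h3]
          show g⁻¹ * u * D.R * (g⁻¹ * u)⁻¹ = _
          calc g⁻¹ * u * D.R * (g⁻¹ * u)⁻¹ = g⁻¹ * (u * D.R * u⁻¹) * g := by group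
            _ = (g⁻¹ * D.R * g)⁻¹ := by rw [inv_eq_of_mul_eq_one_right huu, huR]; group
            _ = z⁻¹ := by rw [← hg]; group
        have v4 : ((F q4).1 : G) = z' := by rw [h4]; show g'⁻¹ * D.R * g'⁻¹⁻¹ = _; rw [← hg']; group
        have hR2 : D.R ^ 2 = D.R⁻¹ := eq_inv_of_mul_eq_one_left (by rw [← pow_succ, hR3])
        have hnd : [D.R, D.R⁻¹, z, z⁻¹, z'].Nodup := by
          have d1 : D.R⁻¹ ≠ D.R := ne_self (n := 3) (by decide) hR3 hR1
          have d2 : z⁻¹ ≠ z := ne_self (n := 3) (by decide) hz3 hz1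
          have d3 : z ≠ D.R := fun e => hzne 1 (by rw [e, pow_one])
          have d4 : z ≠ D.R⁻¹ := fun e => hzne 2 (by rw [hR2, e])
          have hz'1 : z' ≠ 1 := fun e => by rw [e, orderOf_one] at hzo'; omega
          have hd : ∀ y : G, y * u = u * y → y * u' = u' * y → y * D.t = D.t * y := fun y a b => by
            rw [← huu1]
            calc y * (u * u') = (y * u) * u' := by group
              _ = u * (y * u') := by rw [a]; group
              _ = u * u' * y := by rw [b]; group
          have hRu : ¬ (D.R * u = u * D.R) := fun e => d1 (by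
            rw [← huR, ← e, mul_assoc, huu, mul_one])
          have d5 : z' ≠ D.R ∧ z' ≠ D.R⁻¹ := by
            have hRu' : ¬ (D.R * u' = u' * D.R) := fun e => hRu (by
              rw [show u = u' * D.t by rw [← huu2, ← mul_assoc, huu', one_mul]]
              exact ((show Commute D.R u' from e).mul_right (D.emb_mem _)).eq)
            exact ⟨fun e => hRu' (e ▸ hzu'), fun e => hRu' (by
              have := (show Commute z' u' from hzu').inv_left
              rw [e, inv_inv] at this
              exact this.eq)⟩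
          have d6 : z' ≠ z ∧ z' ≠ z⁻¹ := by
            refine ⟨fun e => ?_, fun e => ?_⟩ <;> subst e
            · have := hd _ hzu hzu'
              exact d2 (by rw [← htz, ← this, mul_assoc, D.tt, mul_one])
            · have := hd _ hzu ((show Commute z⁻¹ u' from hzu').inv_left |> fun h => by simpa using h.eq)
              exact d2 (by rw [← htz, ← this, mul_assoc, D.tt, mul_one])
          have d7 : z⁻¹ ≠ D.R ∧ z⁻¹ ≠ D.R⁻¹ := ⟨fun e => d4 (by rw [← e, inv_inv]), fun e => d3 (inv_injective e)⟩
          simp [d1.symm, d2.symm, d3.symm, d4.symm, d5.1.symm, d5.2.symm, d6.1.symm, d6.2.symm, d7.1.symm, d7.2.symm]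
        have hq : [q0, q1, q2, q3, q4].Nodup :=
          List.Nodup.of_map (fun q => ((F q).1 : G)) (by simpa only [List.map_cons, List.map_nil, v0, v1, v2, v3, v4] using hnd)
        rw [Subgroup.index_eq_card]
        have : Fintype (N ⧸ C) := Fintype.ofFinite _
        rw [Nat.card_eq_fintype_card]
        exact hq.length_le_card
      have hd : Nat.card N ∣ 189000 := hG ▸ N.card_subgroup_dvd_card
      have hk : ∀ k, k ≤ 26 → 5 ≤ k → k * 54 ∣ 189000 → 5 ∣ k ∨ 7 ∣ k := by decide +kernel
      obtain ⟨q, hq, hqk⟩ : ∃ q, (q = 5 ∨ q = 7) ∧ q ∣ C.index := by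
        rcases hk _ hle26 hge (hi ▸ hd) with e | e
        exacts [⟨5, Or.inl rfl, e⟩, ⟨7, Or.inr rfl, e⟩]
      haveI : Fact q.Prime := ⟨by rcases hq with rfl | rfl <;> norm_num⟩
      obtain ⟨y, hy⟩ := exists_prime_orderOf_dvd_card' (G := N) q (hqk.trans (hi ▸ dvd_mul_right _ _))
      letI : MulAction (Subgroup.zpowers y) L.K :=
        MulAction.compHom L.K (L.K.normalizerMonoidHom.comp (Subgroup.zpowers y).subtype)
      have hpq : IsPGroup q (Subgroup.zpowers y) := IsPGroup.of_card (n := 1) (by rw [Nat.card_zpowers, hy, pow_one])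
      have hfix := hpq.card_modEq_card_fixedPoints L.K
      let W : Subgroup L.K :=
        { carrier := MulAction.fixedPoints (Subgroup.zpowers y) L.K
          one_mem' := fun a => (L.K.normalizerMonoidHom (a : N)).map_one
          mul_mem' := fun {a b} ha hb c => by
            show (L.K.normalizerMonoidHom (c : N)) (a * b) = a * b
            rw [map_mul]
            exact congrArg₂ (· * ·) (ha c) (hb c)
          inv_mem' := fun {a} ha c => by
            show (L.K.normalizerMonoidHom (c : N)) a⁻¹ = a⁻¹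
            rw [map_inv]
            exact congrArg (·⁻¹) (ha c) }
      have hW : Nat.card W ∣ 27 := hK27 ▸ W.card_subgroup_dvd_card
      rw [hK27] at hfix
      change 27 ≡ Nat.card W [MOD q] at hfix
      have hW27 : Nat.card W = 27 := by
        have hk : ∀ m ∈ Nat.divisors 27, ((27 ≡ m [MOD 5]) → m = 27) ∧ ((27 ≡ m [MOD 7]) → m = 27) := by
          decide +kernel
        rcases hq with rfl | rfl
        · exact (hk _ (Nat.mem_divisors.2 ⟨hW, by norm_num⟩)).1 hfix
        · exact (hk _ (Nat.mem_divisors.2 ⟨hW, by norm_num⟩)).2 hfix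
      have hWtop : W = ⊤ := Subgroup.eq_top_of_card_eq W (by rw [hW27, hK27])
      have hyR : ((y : G)) * D.R * (y : G)⁻¹ = D.R := by
        have := (hWtop ▸ Subgroup.mem_top _ : (⟨D.R, hRK⟩ : L.K) ∈ W) ⟨y, Subgroup.mem_zpowers y⟩
        exact congrArg Subtype.val this
      have hqd : q ∣ 54 := by
        have h1 := Subgroup.orderOf_dvd_natCard (Subgroup.centralizer ({D.R} : Set G))
          (Subgroup.mem_centralizer_singleton_iff.2 (mul_inv_eq_iff_eq_mul.1 hyR))
        rw [Subgroup.orderOf_coe, hy] at h1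
        change q ∣ D.n3 at h1
        rw [hn] at h1
        exact h1
      rcases hq with rfl | rfl <;> norm_num at hqd
    · -- non-abelian case
      obtain ⟨k, hk⟩ := L.abel z hzK z' hzK'
      have hR_K' : D.R ∈ K' := hoddK' _ hzR.symm (by rw [show 27 = 3 * 9 from rfl, pow_mul, hR3, one_pow])
      have hnotle : ¬ K' ≤ Subgroup.centralizer ({D.R} : Set G) := by
        intro hle
        have e : K' = L.K := by
          refine Subgroup.eq_of_le_of_card_ge (fun c hc => LData.odd_mem D L
            (Subgroup.mem_centralizer_singleton_iff.1 (hle hc))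
            (odd_of_pow (n := 27) (by decide)
              (orderOf_dvd_iff_pow_eq_one.1 (hK'card ▸ Subgroup.orderOf_dvd_natCard K' hc)))) ?_
          rw [hK27, hK'card]
        have hz'K : z' ∈ K' := e.symm ▸ hzK'
        have h1 := L.mem _ ((hmem' z').1 hz'K)
        refine hcom ?_
        rw [← hg] at h1
        have h2 := congrArg (fun v => g⁻¹ * v * g) h1
        simpa [mul_assoc] using h2.symm
      obtain ⟨b, hbK', hbR⟩ := SetLike.not_le_iff_exists.1 hnotle
      rw [Subgroup.mem_centralizer_singleton_iff] at hbR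
      obtain ⟨l, hl⟩ := L.abel _ ((hmem' b).1 hbK') _ ((hmem' D.R).1 hR_K')
      have hbl : b * D.R * b⁻¹ = D.R * z ^ l := by
        have e : b * D.R = D.R * b * z ^ l := by
          apply (MulAut.conj g).injective
          simp only [MulAut.conj_apply, map_mul]
          rw [← conj_pow, hg]
          rw [hl]
        have hbz : b * z = z * b := by
          have h1 := L.mem _ ((hmem' b).1 hbK')
          rw [← hg] at h1
          have h2 := congrArg (fun v => g⁻¹ * v * g) h1
          simpa [mul_assoc] using h2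
        rw [e, mul_assoc D.R b, ((show Commute b z from hbz).pow_right l).eq]
        group
      have hak : z' * z * z'⁻¹ = z * (D.R ^ k)⁻¹ := by
        have e : z * z' = z' * z * D.R ^ k := hk
        rw [show z' * z = z * z' * (D.R ^ k)⁻¹ by rw [e, mul_inv_cancel_right]]
        have hc : Commute z' (D.R ^ k) := (show Commute z' D.R from hzR').pow_right k
        rw [mul_assoc (z * z'), ← hc.inv_right.inv_left.eq]
        group
      -- normalised conjugating elements
      obtain ⟨a, ha1, ha2⟩ : ∃ a : G, a * D.R * a⁻¹ = D.R ∧ a * z * a⁻¹ = z * D.R := by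
        have hpowj : ∀ j : ℕ, z' ^ j * z * (z' ^ j)⁻¹ = z * (D.R ^ (k * j))⁻¹ := by
          intro j
          induction j with
          | zero => simp
          | succ j ih =>
            rw [pow_succ', mul_inv_rev, show z' * z' ^ j * z * ((z' ^ j)⁻¹ * z'⁻¹) = z' * (z' ^ j * z * (z' ^ j)⁻¹) * z'⁻¹ by group,
              ih, ← conj_mul, hak, show z' * (D.R ^ (k * j))⁻¹ * z'⁻¹ = (D.R ^ (k * j))⁻¹ by
                rw [((show Commute z' D.R from hzR').pow_right (k * j)).inv_right.eq, mul_inv_cancel_right],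
              mul_assoc, ← mul_inv_rev, ← pow_add, Nat.mul_succ]
        have hmodR : ∀ n, D.R ^ (n % 3) = D.R ^ n := fun n => by rw [← hRo, pow_mod_orderOf]
        have hk0 : k % 3 ≠ 0 := fun e => hcom (by rw [hk, ← hmodR, e, pow_zero, mul_one])
        refine ⟨z' ^ (if k % 3 = 1 then 2 else 1), ?_, ?_⟩
        · rw [((show Commute z' D.R from hzR').pow_left _).eq, mul_inv_cancel_right]
        · rw [hpowj, mul_right_inj, ← hmodR, Nat.mul_mod]
          have : k % 3 = 1 ∨ k % 3 = 2 := by omega
          rcases this with e | e <;> rw [e] <;> simp <;>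
            exact inv_eq_of_mul_eq_one_left (by rw [← pow_succ', hR3])
      obtain ⟨c, hc1, hc2⟩ : ∃ c : G, c * z * c⁻¹ = z ∧ c * D.R * c⁻¹ = D.R * z := by
        have hbz : Commute b z := by
          have h1 := L.mem _ ((hmem' b).1 hbK')
          rw [← hg] at h1
          have h2 := congrArg (fun v => g⁻¹ * v * g) h1
          show b * z = z * b
          simpa [mul_assoc] using h2
        have hpowj : ∀ j : ℕ, b ^ j * D.R * (b ^ j)⁻¹ = D.R * z ^ (l * j) := by
          intro j
          induction j with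
          | zero => simp
          | succ j ih =>
            rw [pow_succ', mul_inv_rev, show b * b ^ j * D.R * ((b ^ j)⁻¹ * b⁻¹) = b * (b ^ j * D.R * (b ^ j)⁻¹) * b⁻¹ by group,
              ih, ← conj_mul, hbl, show b * z ^ (l * j) * b⁻¹ = z ^ (l * j) by
                rw [(hbz.pow_right (l * j)).eq, mul_inv_cancel_right], mul_assoc, ← pow_add]
            congr 2; ring
        have hmodz : ∀ n, z ^ (n % 3) = z ^ n := fun n => by rw [← hzo, pow_mod_orderOf]
        have hl0 : l % 3 ≠ 0 := fun e => hbR (by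
          rw [← hmodz, e, pow_zero, mul_one] at hbl
          exact mul_inv_eq_iff_eq_mul.1 hbl)
        refine ⟨b ^ (if l % 3 = 1 then 1 else 2), ?_, ?_⟩
        · rw [(hbz.pow_left _).eq, mul_inv_cancel_right]
        · rw [hpowj, mul_right_inj, ← hmodz, Nat.mul_mod]
          have : l % 3 = 1 ∨ l % 3 = 2 := by omega
          rcases this with e | e <;> rw [e] <;> simp
      set f := a * c⁻¹ * a with hf
      have hcR : c⁻¹ * D.R * c = D.R * z⁻¹ := by
        have h0 : c⁻¹ * (c * D.R * c⁻¹) * c = D.R := by group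
        rw [hc2] at h0
        have hz' : c⁻¹ * z * c = z := by nth_rewrite 1 [← hc1]; group
        calc c⁻¹ * D.R * c = (c⁻¹ * (D.R * z) * c) * (c⁻¹ * z * c)⁻¹ := by group
          _ = D.R * z⁻¹ := by rw [h0, hz']
      have hcz' : c⁻¹ * z * c = z := by nth_rewrite 1 [← hc1]; group
      have fR : f * D.R * f⁻¹ = z⁻¹ := by
        calc f * D.R * f⁻¹ = a * (c⁻¹ * (a * D.R * a⁻¹) * c) * a⁻¹ := by rw [hf]; group
          _ = a * (D.R * z⁻¹) * a⁻¹ := by rw [ha1, hcR]
          _ = (a * D.R * a⁻¹) * (a * z * a⁻¹)⁻¹ := by group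
          _ = D.R * (z * D.R)⁻¹ := by rw [ha1, ha2]
          _ = z⁻¹ := by rw [mul_inv_rev, mul_inv_cancel_left]
      have fz : f * z * f⁻¹ = D.R := by
        calc f * z * f⁻¹ = a * (c⁻¹ * (a * z * a⁻¹) * c) * a⁻¹ := by rw [hf]; group
          _ = a * ((c⁻¹ * z * c) * (c⁻¹ * D.R * c)) * a⁻¹ := by rw [ha2]; group
          _ = a * (z * (D.R * z⁻¹)) * a⁻¹ := by rw [hcz', hcR]
          _ = a * D.R * a⁻¹ := by rw [← mul_assoc z, hzR, mul_inv_cancel_right]
          _ = D.R := ha1
      have f2 : f ^ 2 * D.R * (f ^ 2)⁻¹ = D.R⁻¹ := by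
        calc f ^ 2 * D.R * (f ^ 2)⁻¹ = f * (f * D.R * f⁻¹) * f⁻¹ := by rw [pow_two]; group
          _ = (f * z * f⁻¹)⁻¹ := by rw [fR]; group
          _ = D.R⁻¹ := by rw [fz]
      have f4 : f ^ 4 * D.R * (f ^ 4)⁻¹ = D.R := by
        calc f ^ 4 * D.R * (f ^ 4)⁻¹ = f ^ 2 * (f ^ 2 * D.R * (f ^ 2)⁻¹) * (f ^ 2)⁻¹ := by group
          _ = (f ^ 2 * D.R * (f ^ 2)⁻¹)⁻¹ := by conv_lhs => rw [f2]
                                                group
          _ = D.R := by rw [f2, inv_inv]
      have f4n : ∀ q : ℕ, (f ^ 4) ^ q * D.R * ((f ^ 4) ^ q)⁻¹ = D.R := fun q => by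
        rw [((show Commute (f ^ 4) D.R from mul_inv_eq_iff_eq_mul.1 f4).pow_left q).eq, mul_inv_cancel_right]
      have h4 : 4 ∣ orderOf f := by
        have e := pow_orderOf_eq_one f
        set n := orderOf f
        have hn : n = 4 * (n / 4) + n % 4 := (Nat.div_add_mod n 4).symm
        have h1 : f ^ (n % 4) * D.R * (f ^ (n % 4))⁻¹ = D.R := by
          have h0 : f ^ (n % 4) = ((f ^ 4) ^ (n / 4))⁻¹ := by
            rw [eq_inv_iff_mul_eq_one, ← pow_mul, ← pow_add, Nat.add_comm, ← hn, e]
          rw [h0, inv_inv]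
          nth_rewrite 1 [← f4n (n / 4)]
          group
        have hlt : n % 4 < 4 := Nat.mod_lt _ (by norm_num)
        have hdR : D.R⁻¹ ≠ D.R := ne_self (n := 3) (by decide) hR3 hR1
        refine Nat.dvd_of_mod_eq_zero ?_
        rcases (show n % 4 = 0 ∨ n % 4 = 1 ∨ n % 4 = 2 ∨ n % 4 = 3 by omega) with e' | e' | e' | e'
        · exact e'
        · exfalso
          rw [e', pow_one, fR] at h1
          exact hzne 2 (by rw [show D.R ^ 2 = D.R⁻¹ from eq_inv_of_mul_eq_one_left (by rw [← pow_succ, hR3]), ← h1, inv_inv])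
        · exfalso
          rw [e', f2] at h1
          exact hdR h1
        · exfalso
          rw [e'] at h1
          have h3 : f ^ 3 * D.R * (f ^ 3)⁻¹ = f * (f ^ 2 * D.R * (f ^ 2)⁻¹) * f⁻¹ := by group
          rw [h3, f2, show f * D.R⁻¹ * f⁻¹ = (f * D.R * f⁻¹)⁻¹ by group, fR, inv_inv] at h1
          exact hzne 1 (by rw [pow_one, h1])
      refine D.no_four (f ^ (orderOf f / 4)) ?_
      obtain ⟨q, hq⟩ := h4
      have hq0 : q ≠ 0 := fun e => (orderOf_pos f).ne' (by rw [hq, e, mul_zero])
      rw [hq, Nat.mul_div_cancel_left _ (by norm_num : 0 < 4), orderOf_pow' f hq0, hq, Nat.gcd_mul_left_left, Nat.mul_div_cancel _ (Nat.pos_of_ne_zero hq0)]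

end Cfsg.Agent.JOneRecog.JD
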