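import Cfsg.Agent.JOneRecog.Arith
import Cfsg.Agent.JOneRecog.NoOther
import Cfsg.Agent.JOneRecog.Gen
import Cfsg.Agent.Invol.Count
import Cfsg.Agent.Invol.SectionInduce
import Cfsg.Agent.CharArith.Basic
import Cfsg.Agent.Char.Linear

/-!
The order of the group.
-/

set_option autoImplicit false
set_option maxRecDepth 100000
set_option linter.all false

namespace Cfsg.Agent.JOneRecog.JD

open scoped ComplexConjugate
open Equiv Cfsg

universe u

variable {G : Type u} [Group G] (D : JD G) [Fintype G]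

/-- The centraliser of the involution. -/
abbrev cc : Subgroup G := Subgroup.centralizer ({D.t} : Set G)

theorem emb_qt {a : M0} (h : toQ a = qt) : D.emb a = D.t := by
  rw [toQ_injective (h.trans (by decide +kernel : toQ zM = qt).symm), D.emb_zM]

/-- The virtual characters of the centraliser. -/
noncomputable def vphi (i : Fin 4) (c : D.cc) : ℂ := theta i (D.e c)

/-- The induced virtual characters. -/
noncomputable def ind (i : Fin 4) : G → ℂ := indFun D.cc (D.vphi i)

theorem vphi_gen (i : Fin 4) : IsGeneralizedCharacter D.cc (D.vphi i) :=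
  Char.isGeneralized_comp D.e.toMonoidHom (isGeneralized_theta i)

theorem ind_gen (i : Fin 4) : IsGeneralizedCharacter G (D.ind i) :=
  Char.isGeneralized_indFun _ (D.vphi_gen i)

theorem vphi_support {i : Fin 4} {c : D.cc} (h : D.vphi i c ≠ 0) : (c : G) ^ 15 = D.t := by
  have hj := vf_support i _ (mem_els.1 (toQ_mem (D.e c))) fun h0 => h (by rw [vphi, theta, h0, map_zero])
  rw [← toQ_pow] at hj
  have h9 := D.emb_qt hj
  rw [map_pow, D.emb_e] at h9
  exact h9

theorem mem_of_product {u v : G} (hu : u * u = 1) (hv : v * v = 1) (hj : (u * v) ^ 15 = D.t) : u ∈ D.cc := by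
  rw [Subgroup.mem_centralizer_singleton_iff]
  have h1 : u * (u * v) * u⁻¹ = (u * v)⁻¹ := by
    rw [mul_inv_rev, inv_eq_of_mul_eq_one_right hu, inv_eq_of_mul_eq_one_right hv, ← mul_assoc u u,
      hu, one_mul]
  have h2 : u * D.t * u⁻¹ = D.t := by
    conv_lhs => rw [← hj, ← conj_pow, h1, inv_pow, hj, D.tinv]
  exact mul_inv_eq_iff_eq_mul.1 h2

theorem special_ti {x y : G} (hi : x ^ 15 = D.t) (hj : (y⁻¹ * x * y) ^ 15 = D.t) : y ∈ D.cc := by
  rw [Subgroup.mem_centralizer_singleton_iff]
  have h1 : y⁻¹ * D.t * y = D.t := by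
    conv_rhs => rw [← hj]
    calc y⁻¹ * D.t * y = y⁻¹ * x ^ 15 * (y⁻¹)⁻¹ := by rw [hi, inv_inv]
      _ = (y⁻¹ * x * (y⁻¹)⁻¹) ^ 15 := conj_pow.symm
      _ = (y⁻¹ * x * y) ^ 15 := by rw [inv_inv]
  calc y * D.t = y * (y⁻¹ * D.t * y) := by rw [h1]
    _ = D.t * y := by group

theorem ind_apply (i : Fin 4) (c : D.cc) (hj : (c : G) ^ 15 = D.t) : D.ind i c = D.vphi i c := by
  classical
  have key : ∀ y : G, extendByZero D.cc (D.vphi i) (y⁻¹ * c * y) = if y ∈ D.cc then D.vphi i c else 0 := by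
    intro y
    split_ifs with hy
    · rw [Char.extendByZero_of_mem D.cc _ (D.cc.mul_mem (D.cc.mul_mem (D.cc.inv_mem hy) c.2) hy)]
      refine Eq.trans (congrArg (D.vphi i) (Subtype.ext ?_))
        (Char.IsGen.isClassFunction (D.vphi_gen i) c ⟨y⁻¹, D.cc.inv_mem hy⟩)
      simp
    · by_contra hne
      have hm : y⁻¹ * c * y ∈ D.cc := by
        by_contra hm; exact hne (Char.extendByZero_of_not_mem D.cc _ hm)
      rw [Char.extendByZero_of_mem D.cc _ hm] at hne
      exact hy (D.special_ti hj (D.vphi_support hne))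
  rw [ind, Char.indFun_apply, Finset.sum_congr rfl fun y _ => key y, Finset.sum_ite,
    Finset.sum_const, Finset.sum_const_zero, add_zero, nsmul_eq_mul,
    ← Fintype.card_subtype, ← Nat.card_eq_fintype_card]
  exact inv_mul_cancel_left₀ (Nat.cast_ne_zero.2 Nat.card_pos.ne') _

theorem inner_model (f g : Q → Zsqrtd 5) [Fintype D.cc] [Fintype M0] :
    classInner (fun c : D.cc => toC (f (toQ (D.e c)))) (fun c => toC (g (toQ (D.e c)))) =
      (120 : ℂ)⁻¹ * toC (∑ q ∈ els, f q * g q) := by
  classical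
  rw [classInner, D.card_C, map_sum, Nat.cast_ofNat]
  congr 1
  rw [← sum_toQ fun q => toC (f q * g q)]
  refine Fintype.sum_equiv D.e.toEquiv _ _ fun c => ?_
  simp [toC_conj]

theorem ind_inner (i j : Fin 4) : classInner (D.ind i) (D.ind j) = (gram i j : ℂ) := by
  classical
  haveI : Fintype M0 := Fintype.ofFinite _
  rw [ind, Char.classInner_indFun_left _ _ (Char.IsGen.isClassFunction (D.ind_gen j))]
  have h : classInner (D.vphi i) (fun c => D.ind j (c : G)) = classInner (D.vphi i) (D.vphi j) := by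
    unfold classInner
    congr 1
    refine Finset.sum_congr rfl fun c _ => ?_
    by_cases h0 : D.vphi i c = 0
    · rw [h0, zero_mul, zero_mul]
    · beta_reduce
      rw [D.ind_apply j c (D.vphi_support h0)]
  rw [h]
  refine (D.inner_model (vf i) (vf j)).trans ?_
  rw [vf_gram, map_intCast]
  push_cast
  ring

theorem ind_one (i : Fin 4) : classInner (D.ind i) (fun _ => (1 : ℂ)) = (triv i : ℂ) := by
  classical
  haveI : Fintype M0 := Fintype.ofFinite _
  rw [ind, Char.classInner_indFun_left _ _ (fun _ _ => rfl)]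
  have h := D.inner_model (vf i) (fun _ => 1)
  simp only [map_one, mul_one] at h
  refine h.trans ?_
  rw [vf_triv, map_intCast]
  push_cast
  ring

theorem ind_at_one (i : Fin 4) : D.ind i 1 = 0 := by
  rw [ind, Char.indFun_apply_one, vphi, theta, map_one, toQ_one, vf_one, map_zero, mul_zero]

theorem value_eq (ψ : IrrCharacter G) :
    ∑ i, (coeff i : ℂ) * classInner (D.ind i) (ψ : G → ℂ) = conj ((ψ : G → ℂ) D.t) := by
  classical
  simp only [ind, Char.classInner_indFun_left _ _ (Char.isClassFunction_of_isIrr ψ.2)]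
  simp only [classInner, D.card_C, Finset.mul_sum]
  rw [Finset.sum_comm]
  obtain ⟨a, ha⟩ := toQ_surj (mem_els.2 qt_central.1)
  have hsum : ∀ c : D.cc, ∑ i, (coeff i : ℂ) * D.vphi i c = if c = D.e.symm a then 120 else 0 := by
    intro c
    have h := congrArg toC (vf_indicator _ (mem_els.1 (toQ_mem (D.e c))))
    simp only [map_sum, map_mul, map_intCast] at h
    refine h.trans ?_
    by_cases hc : toQ (D.e c) = qt
    · rw [if_pos hc, if_pos (D.e.eq_symm_apply.2 (toQ_injective (hc.trans ha.symm)))]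
      simp [toC_apply]
    · rw [if_neg hc, if_neg]
      · simp [toC_apply]
      · intro hc'
        exact hc (by rw [hc', D.e.apply_symm_apply, ha])
  have hstep : ∀ c : D.cc,
      ∑ i, (coeff i : ℂ) * ((↑(120 : ℕ) : ℂ)⁻¹ * (D.vphi i c * conj ((ψ : G → ℂ) c))) =
        (120 : ℂ)⁻¹ * ((if c = D.e.symm a then 120 else 0) * conj ((ψ : G → ℂ) c)) := fun c => by
    rw [← hsum, Finset.sum_mul, Finset.mul_sum]
    refine Finset.sum_congr rfl fun i _ => ?_
    push_cast
    ring
  rw [Finset.sum_congr rfl fun c _ => hstep c, Finset.sum_eq_single (D.e.symm a)]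
  · rw [if_pos rfl, show ((D.e.symm a : D.cc) : G) = D.t from D.emb_qt ha]
    ring
  · intro c _ hc
    rw [if_neg hc, zero_mul, mul_zero]
  · intro h
    exact absurd (Finset.mem_univ _) h

theorem sum_pairs [IsSimpleGroup G] (i : Fin 4) :
    ∑ a : G, D.ind i (a * D.t * a⁻¹ * D.t) = (120 : ℂ) * (120 * pairs i) := by
  classical
  set E := extendByZero D.cc (D.vphi i) with hE
  have hinv : ∀ w : G, w * D.t * w⁻¹ * (w * D.t * w⁻¹) = 1 := fun w => by
    rw [show w * D.t * w⁻¹ * (w * D.t * w⁻¹) = w * (D.t * D.t) * w⁻¹ by group, D.tt, mul_one, mul_inv_cancel]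
  set out := Finset.univ.filter fun g : G => g ∈ D.cc ∧ g * g = 1 ∧ g ≠ 1 with hout
  have hfib : ∀ h : G → ℂ, (∀ w, h (w * D.t * w⁻¹) ≠ 0 → w * D.t * w⁻¹ ∈ D.cc) →
      ∑ b : G, h (b * D.t * b⁻¹) = (120 : ℂ) * ∑ u ∈ out, h u := by
    intro h hh
    rw [← Finset.sum_fiberwise Finset.univ (fun b : G => b * D.t * b⁻¹) _, Finset.mul_sum]
    rw [← Finset.sum_subset (Finset.subset_univ out) fun u _ hu => ?_]
    · refine Finset.sum_congr rfl fun u hu => ?_
      rw [Finset.sum_congr rfl fun b hb => by rw [(Finset.mem_filter.1 hb).2],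
        Finset.sum_const, nsmul_eq_mul]
      congr 1
      obtain ⟨-, hu1, hu2, hu3⟩ := Finset.mem_filter.1 hu
      obtain ⟨w, hw⟩ := isConj_iff.1 (D.isConj_t hu2 hu3)
      rw [show (120 : ℂ) = ((120 : ℕ) : ℂ) by norm_num, Nat.cast_inj, ← D.card_C,
        Nat.card_eq_fintype_card, Fintype.card_subtype]
      refine Finset.card_nbij' (fun b => w⁻¹ * b) (fun b => w * b) ?_ ?_
        (fun b _ => by simp) (fun b _ => by simp)
      · intro b hb
        simp only [Finset.mem_univ, true_and, Finset.coe_filter, Set.mem_ofPred_eq] at hb ⊢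
        rw [Subgroup.mem_centralizer_singleton_iff]
        rw [← hw] at hb
        calc w⁻¹ * b * D.t = w⁻¹ * (b * D.t * b⁻¹) * b := by group
          _ = D.t * (w⁻¹ * b) := by rw [hb]; group
      · intro b hb
        simp only [Finset.mem_univ, true_and, Finset.coe_filter, Set.mem_ofPred_eq] at hb ⊢
        rw [Subgroup.mem_centralizer_singleton_iff] at hb
        rw [← hw]
        calc w * b * D.t * (w * b)⁻¹ = w * (b * D.t) * b⁻¹ * w⁻¹ := by group
          _ = w * D.t * w⁻¹ := by rw [hb]; group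
    · refine Finset.sum_eq_zero fun b hb => ?_
      by_contra hne0
      have h9 := hh b hne0
      rw [(Finset.mem_filter.1 hb).2] at h9
      refine hu (Finset.mem_filter.2 ⟨Finset.mem_univ _, h9, ?_, ?_⟩) <;>
        rw [← (Finset.mem_filter.1 hb).2]
      · exact hinv b
      · intro h1
        exact D.t_ne (conj_eq_one_iff.1 h1)
  have hEne : ∀ g, E g ≠ 0 → g ^ 15 = D.t := by
    intro g hg
    have hgC : g ∈ D.cc := by
      by_contra hh
      exact hg (Char.extendByZero_of_not_mem D.cc _ hh)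
    rw [hE, Char.extendByZero_of_mem D.cc _ hgC] at hg
    exact D.vphi_support hg
  have hmem : ∀ w y : G, E (w * D.t * w⁻¹ * (y * D.t * y⁻¹)) ≠ 0 →
      w * D.t * w⁻¹ ∈ D.cc ∧ y * D.t * y⁻¹ ∈ D.cc := by
    intro w y h
    have hprod : w * D.t * w⁻¹ * (y * D.t * y⁻¹) ∈ D.cc := by
      by_contra hh
      exact h (Char.extendByZero_of_not_mem D.cc _ hh)
    have hu := D.mem_of_product (hinv w) (hinv y) (hEne _ h)
    exact ⟨hu, (D.cc.mul_mem_cancel_left hu).1 hprod⟩
  have e1 : ∀ g : G, D.ind i g = (120 : ℂ)⁻¹ * ∑ y : G, E (y⁻¹ * g * y) := fun g => by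
    rw [ind, Char.indFun_apply, D.card_C, Nat.cast_ofNat]
  simp only [e1, ← Finset.mul_sum]
  rw [Finset.sum_comm]
  have e2 : ∀ y : G, ∑ a : G, E (y⁻¹ * (a * D.t * a⁻¹ * D.t) * y) =
      ∑ b : G, E (b * D.t * b⁻¹ * (y⁻¹ * D.t * y⁻¹⁻¹)) := fun y => by
    refine Fintype.sum_equiv (Equiv.mulLeft y⁻¹) _ _ fun a => ?_
    congr 1
    simp only [Equiv.coe_mulLeft]
    group
  rw [Finset.sum_congr rfl fun y _ => e2 y, Finset.sum_comm]
  have e3 : ∀ u : G, ∑ y : G, E (u * (y⁻¹ * D.t * y⁻¹⁻¹)) = ∑ y : G, E (u * (y * D.t * y⁻¹)) :=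
    fun u => Fintype.sum_equiv (Equiv.inv G) _ _ fun y => by simp
  simp only [e3]
  rw [hfib (fun u => ∑ y : G, E (u * (y * D.t * y⁻¹))) fun w hw => ?_]
  · have e4 : ∀ u ∈ out, ∑ y : G, E (u * (y * D.t * y⁻¹)) = (120 : ℂ) * ∑ v ∈ out, E (u * v) := by
      intro u hu
      obtain ⟨-, hu1, -⟩ := Finset.mem_filter.1 hu
      refine hfib (fun v => E (u * v)) fun w hw => ?_
      have : u * (w * D.t * w⁻¹) ∈ D.cc := by
        by_contra hh
        exact hw (Char.extendByZero_of_not_mem D.cc _ hh)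
      exact (D.cc.mul_mem_cancel_left hu1).1 this
    rw [Finset.sum_congr rfl e4, ← Finset.mul_sum, ← mul_assoc, ← mul_assoc,
      inv_mul_cancel₀ (by norm_num : (120 : ℂ) ≠ 0), one_mul]
    congr 1
    have hq : ∀ F : Q → ℂ, ∀ H : G → ℂ, (∀ g : M0, H (D.emb g) = F (toQ g)) →
        ∑ u ∈ out, H u = ∑ q ∈ invols, F q := by
      intro F H hH
      refine Finset.sum_bij (fun u hu => toQ (D.e ⟨u, (Finset.mem_filter.1 hu).2.1⟩))
        ?_ ?_ ?_ ?_
      · intro u hu
        obtain ⟨-, hu1, hu2, hu3⟩ := Finset.mem_filter.1 hu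
        refine Finset.mem_filter.2 ⟨toQ_mem _, ?_, fun h => hu3 ?_⟩
        · rw [← toQ_mul, ← map_mul, show (⟨u, hu1⟩ : D.cc) * ⟨u, hu1⟩ = 1 from Subtype.ext hu2,
            map_one, toQ_one]
        · exact congrArg Subtype.val (D.e.injective ((toQ_injective (h.trans toQ_one.symm)).trans
            (map_one D.e).symm))
      · intro u _ v _ h
        exact congrArg Subtype.val (D.e.injective (toQ_injective h))
      · intro q hq
        obtain ⟨hq1, hq2, hq3⟩ := Finset.mem_filter.1 hq
        obtain ⟨g, rfl⟩ := toQ_surj hq1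
        refine ⟨D.emb g, Finset.mem_filter.2 ⟨Finset.mem_univ _, ?_, ?_, ?_⟩, ?_⟩
        · exact Subgroup.mem_centralizer_singleton_iff.2 (D.emb_mem g)
        · rw [← map_mul, toQ_injective ((toQ_mul g g).trans (hq2.trans toQ_one.symm)), map_one]
        · intro h
          exact hq3 (by rw [D.emb_injective (h.trans (map_one D.emb).symm), toQ_one])
        · show toQ (D.e ⟨D.emb g, _⟩) = toQ g
          congr 1
          exact D.e.apply_symm_apply g
      · intro u hu
        rw [← hH, D.emb_e]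
    have hEg : ∀ g : M0, E (D.emb g) = toC (vf i (toQ g)) := fun g => by
      rw [hE, Char.extendByZero_of_mem D.cc _ (Subgroup.mem_centralizer_singleton_iff.2 (D.emb_mem g))]
      show toC (vf i (toQ (D.e (D.e.symm g)))) = _
      rw [D.e.apply_symm_apply]
    rw [hq (fun p => ∑ q ∈ invols, toC (vf i (qmul p q))) _ fun g =>
      hq (fun q => toC (vf i (qmul (toQ g) q))) _ fun k => by rw [← map_mul, hEg, toQ_mul]]
    simp only [← map_sum]
    rw [vf_pairs, map_intCast]
    push_cast
    ring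
  · obtain ⟨y, -, hy⟩ := Finset.exists_ne_zero_of_sum_ne_zero hw
    exact (hmem w y hy).1

/-- The congruence and the bounds for a nontrivial irreducible character. -/
theorem res [IsSimpleGroup G] (ψ : IrrCharacter G) (hne : (ψ : G → ℂ) ≠ fun _ => 1) {d : ℕ} {v : ℤ}
    (hd : (ψ : G → ℂ) 1 = d) (hv : (ψ : G → ℂ) D.t = v) :
    8 ∣ (d : ℤ) - v ∧ 0 ≤ (d : ℤ) + 7 * v ∧ v < (d : ℤ) := by
  classical
  have hch := Char.IsIrr.isCharacter ψ.2
  obtain ⟨k, hk⟩ := Char.classInner_isCharacter_eq_natCast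
    (Char.isCharacter_comp (D.emb.comp phi) hch) (Char.isCharacter_one (G := Multiplicative V3))
  have hval : ∀ w : Multiplicative V3, (ψ : G → ℂ) (D.emb (phi w)) = if w = 1 then (d : ℂ) else (v : ℂ) := by
    intro w
    split_ifs with hw
    · rw [hw, map_one, map_one, hd]
    · have hw0 : Multiplicative.toAdd w ≠ 0 := fun h => hw (Multiplicative.toAdd.injective h)
      rw [← hv]
      exact Char.classFun_isConj (Char.isClassFunction_of_isCharacter hch) (D.sv_conj hw0).symm
  rw [classInner, Nat.card_eq_fintype_card, show Fintype.card (Multiplicative V3) = 8 from rfl,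
    Finset.sum_congr rfl (g := fun w : Multiplicative V3 => if w = 1 then (d : ℂ) else (v : ℂ)) fun w _ => by
      show (ψ : G → ℂ) (D.emb (phi w)) * conj (1 : ℂ) = _
      rw [map_one, mul_one, hval],
    Finset.sum_ite, Finset.sum_const, Finset.sum_const,
    show (Finset.univ.filter fun w : Multiplicative V3 => w = 1).card = 1 from rfl,
    show (Finset.univ.filter fun w : Multiplicative V3 => ¬w = 1).card = 7 from rfl] at hk
  have h8 : (d : ℤ) + 7 * v = 8 * (k : ℤ) := by
    have : ((d : ℤ) : ℂ) + 7 * (v : ℂ) = 8 * ((k : ℤ) : ℂ) := by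
      push_cast
      rw [one_smul, nsmul_eq_mul] at hk
      push_cast at hk
      linear_combination 8 * hk
    exact_mod_cast this
  refine ⟨⟨(k : ℤ) - v, by omega⟩, by omega, lt_of_le_of_ne ?_ fun e => ?_⟩
  · have h := Char.IsChar.norm_le hch D.t
    rw [hv, hd, Complex.norm_intCast, Complex.natCast_re] at h
    have : (v : ℝ) ≤ (d : ℝ) := (le_abs_self _).trans h
    exact_mod_cast this
  · -- the kernel is trivial
    rcases (inferInstance : (Char.kerSubgroup hch).Normal).eq_bot_or_eq_top with h | h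
    · have hm : D.t ∈ Char.kerSubgroup hch := (Char.mem_kerSubgroup _).2 (by rw [hv, hd, e]; simp)
      rw [h, Subgroup.mem_bot] at hm
      exact D.t_ne hm
    · have hconst : ∀ a, (ψ : G → ℂ) a = (ψ : G → ℂ) 1 := fun a =>
        (Char.mem_kerSubgroup _).1 (h ▸ Subgroup.mem_top a)
      have h0 := Char.classInner_irr_ne ψ.2 Char.isIrrCharacter_one hne
      rw [classInner, Finset.sum_congr rfl (g := fun _ => (ψ : G → ℂ) 1) (fun a _ => by
        rw [hconst a, map_one, mul_one]), Finset.sum_const, Finset.card_univ, nsmul_eq_mul,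
        ← Nat.card_eq_fintype_card, inv_mul_cancel_left₀ Char.card_ne_zero] at h0
      exact Char.IsIrr.one_ne_zero ψ.2 h0

include D in
/-- The order. -/
theorem card_eq [IsSimpleGroup G] : Nat.card G = 175560 := by
  classical
  obtain ⟨K, hK⟩ : 120 ∣ Nat.card G := D.card_C ▸ D.cc.card_subgroup_dvd_card
  have hKodd : K % 2 = 1 := by have := D.h8; omega
  choose m hm _ hn using fun i => Char.IsGen.exists_mult (D.ind_gen i)
  choose d hd0 hd using fun ψ : IrrCharacter G => Char.IsIrr.degree ψ.2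
  set o : IrrCharacter G := ⟨fun _ => 1, Char.isIrrCharacter_one⟩ with ho
  have hmo : ∀ i, m i o = triv i := fun i => by
    exact_mod_cast (hm i o).symm.trans (D.ind_one i)
  have hgram : ∀ i j, ∑ ψ, m i ψ * m j ψ = gram i j := fun i j => by
    have h := D.ind_inner i j
    have hexp : D.ind j = ∑ ψ : IrrCharacter G, (m j ψ : ℂ) • (ψ : G → ℂ) := by
      refine (Char.classFun_expansion (Char.IsGen.isClassFunction (D.ind_gen j))).trans
        (Finset.sum_congr rfl fun ψ _ => by rw [hm])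
    have h2 : classInner (D.ind i) (D.ind j) = ((∑ ψ, m i ψ * m j ψ : ℤ) : ℂ) := by
      have key : classInner (D.ind i) (D.ind j) =
          ∑ ψ : IrrCharacter G, conj (m j ψ : ℂ) * classInner (D.ind i) (ψ : G → ℂ) := by
        conv_lhs => rw [hexp]
        simp only [classInner, Finset.sum_apply, Pi.smul_apply, smul_eq_mul, map_sum, map_mul,
          Finset.mul_sum]
        rw [Finset.sum_comm]
        exact Finset.sum_congr rfl fun ψ _ => Finset.sum_congr rfl fun g _ => by ring
      rw [key, Int.cast_sum]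
      refine Finset.sum_congr rfl fun ψ _ => ?_
      rw [hm, map_intCast]
      push_cast
      ring
    exact_mod_cast h2.symm.trans h
  have hdeg : ∀ i, ∑ ψ, m i ψ * (d ψ : ℤ) = 0 := fun i => by
    have h := Invol.apply_eq_sum (Char.IsGen.isClassFunction (D.ind_gen i)) 1
    simp only [hm, hd, D.ind_at_one] at h
    exact_mod_cast h
  have hdo : (d o : ℤ) = 1 := by
    have h := hd o
    simp only [ho] at h
    exact_mod_cast h.symm
  set δ : IrrCharacter G → ℤ := fun ψ => if ψ = o then 1 else 0 with hδ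
  set A := m 0 with hA
  set X := m 1 - δ with hX
  set Y := m 2 - δ with hY
  set Z := -m 3 - δ with hZ
  have sδ : ∀ F : IrrCharacter G → ℤ, ∑ ψ, F ψ * δ ψ = F o := fun F => by simp [hδ]
  have hval : ∀ ψ : IrrCharacter G, ψ ≠ o → (ψ : G → ℂ) D.t = (Comb.cv A X Y Z ψ : ℂ) := fun ψ hψ => by
    have h := congrArg conj (D.value_eq ψ)
    simp only [hm, Complex.conj_conj, map_sum, map_mul, map_intCast] at h
    rw [← h]
    simp [Fin.sum_univ_four, coeff, Comb.cv, hA, hX, hY, hZ, hδ, hψ]
  have hvo : (o : G → ℂ) D.t = 1 := rfl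
  have hexpand : ∀ ψ : IrrCharacter G, (ψ : G → ℂ) D.t ^ 2 / (ψ : G → ℂ) 1 =
      (Nat.card G : ℂ)⁻¹ * ∑ a, (ψ : G → ℂ) (a * D.t * a⁻¹ * D.t) := fun ψ => by
    have h := CharArith.classMult ψ.2 D.t D.t
    have h1 := Char.IsIrr.one_ne_zero ψ.2
    have hG0 : (Nat.card G : ℂ) ≠ 0 := Char.card_ne_zero
    field_simp
    linear_combination -h
  set w : IrrCharacter G → ℚ := fun ψ =>
    if ψ = o then 1 else (Comb.cv A X Y Z ψ : ℚ) ^ 2 / ((d ψ : ℤ) : ℚ) with hw
  have hkey : ∀ i, (K : ℚ) * ∑ ψ, (m i ψ : ℚ) * w ψ = 120 * pairs i := fun i => by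
    have h : (Nat.card G : ℂ) * ∑ ψ : IrrCharacter G, (m i ψ : ℂ) *
        ((ψ : G → ℂ) D.t ^ 2 / (ψ : G → ℂ) 1) = 120 * (120 * pairs i) := by
      rw [← D.sum_pairs i]
      simp only [hexpand, Finset.mul_sum]
      rw [Finset.sum_comm]
      refine Finset.sum_congr rfl fun a _ => ?_
      rw [← Invol.apply_eq_sum (Char.IsGen.isClassFunction (D.ind_gen i)) (a * D.t * a⁻¹ * D.t)]
      refine Finset.sum_congr rfl fun ψ _ => ?_
      rw [hm]
      have hG0 : (Nat.card G : ℂ) ≠ 0 := Char.card_ne_zero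
      field_simp
    have hwc : ∀ ψ : IrrCharacter G, (ψ : G → ℂ) D.t ^ 2 / (ψ : G → ℂ) 1 = ((w ψ : ℚ) : ℂ) := fun ψ => by
      by_cases hψ : ψ = o
      · subst hψ
        simp [hw, ho]
      · rw [hval ψ hψ, hd ψ]
        simp [hw, hψ]
    simp only [hwc, hK] at h
    push_cast at h
    refine mul_left_cancel₀ (a := (120 : ℚ)) (by norm_num) ?_
    refine Rat.cast_injective (α := ℂ) ?_
    push_cast
    linear_combination h
  have hwmul : ∀ (V : IrrCharacter G → ℤ), V o = 0 →
      ∑ ψ, (V ψ : ℚ) * w ψ = ∑ ψ, (V ψ : ℚ) * (Comb.cv A X Y Z ψ : ℚ) ^ 2 / ((d ψ : ℤ) : ℚ) := fun V hV => by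
    refine Finset.sum_congr rfl fun ψ _ => ?_
    by_cases hψ : ψ = o
    · subst hψ
      simp [hV]
    · simp [hw, hψ, mul_div_assoc]
  have Xo : X o = 0 := by simp [hX, hδ, hmo, triv]
  have Yo : Y o = 0 := by simp [hY, hδ, hmo, triv]
  have Zo : Z o = 0 := by simp [hZ, hδ, hmo, triv]
  have wsum : ∑ ψ, (δ ψ : ℚ) * w ψ = 1 := by
    rw [Finset.sum_eq_single o]
    · simp [hδ, hw]
    · intro ψ _ h
      simp [hδ, h]
    · simp
  have hsys : Comb.Sys K o (fun ψ => (d ψ : ℤ)) A X Y Z := by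
    refine
      { pos := fun ψ => by exact_mod_cast hd0 ψ
        sq := fun ψ => ?_
        Xo := Xo, Yo := Yo, Zo := Zo
        AA := by simpa [hA, pow_two, gram] using hgram 0 0
        XX := ?_, YY := ?_, ZZ := ?_, AX := ?_, AY := ?_, AZ := ?_, XY := ?_, XZ := ?_, YZ := ?_
        dA := hdeg 0, dX := ?_, dY := ?_, dZ := ?_
        res := fun ψ hψ => D.res ψ (fun e => hψ (Subtype.ext e)) (hd ψ) (hval ψ hψ)
        eX := ?_, eY := ?_, eZ := ?_ }
    · have h : ∑ χ : IrrCharacter G, (d χ : ℂ) ^ 2 = ((120 * K : ℕ) : ℂ) := by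
        rw [← hK, ← Char.sum_sq_degree]
        exact Finset.sum_congr rfl fun χ _ => by rw [hd]
      have h' : ∑ χ : IrrCharacter G, d χ ^ 2 = 120 * K := by exact_mod_cast h
      have h'' := Finset.single_le_sum (f := fun χ => d χ ^ 2) (fun χ _ => Nat.zero_le _) (Finset.mem_univ ψ)
      rw [h', pow_two] at h''
      exact_mod_cast h''
    all_goals first
      | (rw [← hwmul X Xo]
         have e := hkey 1
         simp only [hX, Pi.sub_apply, Int.cast_sub, sub_mul, Finset.sum_sub_distrib, wsum]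
         rw [show pairs 1 = (10 : ℤ) from rfl] at e
         push_cast at e
         linear_combination e)
      | (rw [← hwmul Y Yo]
         have e := hkey 2
         simp only [hY, Pi.sub_apply, Int.cast_sub, sub_mul, Finset.sum_sub_distrib, wsum]
         rw [show pairs 2 = (10 : ℤ) from rfl] at e
         push_cast at e
         linear_combination e)
      | (rw [← hwmul Z Zo]
         have e := hkey 3
         simp only [hZ, Pi.sub_apply, Pi.neg_apply, Int.cast_sub, Int.cast_neg, sub_mul, neg_mul,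
           Finset.sum_sub_distrib, Finset.sum_neg_distrib, wsum]
         rw [show pairs 3 = (-6 : ℤ) from rfl] at e
         push_cast at e
         linear_combination -e)
      | (simp only [hA, hX, hY, hZ, Pi.sub_apply, Pi.neg_apply, pow_two, sub_mul, mul_sub, neg_mul, mul_neg,
           neg_neg, mul_comm (δ _), Finset.sum_sub_distrib, Finset.sum_neg_distrib, sδ, hgram, hdeg, hdo, hmo,
           show δ o = 1 from if_pos rfl]
         simp [gram, triv, hdo])
  rcases Arith.solve hKodd hsys.cases with h | h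
  · rw [hK, h]
  · exact (D.not_189000 (by rw [hK, h])).elim

end Cfsg.Agent.JOneRecog.JD
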