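import Cfsg.Agent.Order175560.Main
import Cfsg.Agent.Invol.Count

/-!
Sylow subgroups of prime order inside a subgroup, and the involutions centralising them.
-/

set_option autoImplicit false
set_option linter.all false

namespace Cfsg.Agent.Order175560

open scoped Classical

universe u

variable {G : Type u} [Group G] [Finite G]

theorem Loc.sub {p n c e : ℕ} [hp : Fact p.Prime] (h : Loc G p n c e) (P : Sylow p G) (H : Subgroup G)
    (hPH : (P : Subgroup G) ≤ H) :
    ∃ m, m % p = 1 ∧ Nat.card H = m * Nat.card ↥(Subgroup.normalizer ((P : Subgroup G) : Set G) ⊓ H) ∧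
      Nat.card ↥(Subgroup.normalizer ((P : Subgroup G) : Set G) ⊓ H) ∣ p * c * e ∧
      Nat.card {Q : Sylow p G // (Q : Subgroup G) ≤ H} = m ∧ Nat.card {x : H // orderOf x = p} = m * (p - 1) := by
  have hall : ∀ Q : Sylow p H, Nat.card (Q : Subgroup H) = p := by
    intro Q
    obtain ⟨g, rfl⟩ := MulAction.exists_smul_eq H (P.subtype hPH) Q
    rw [Sylow.coe_subgroup_smul]
    exact (Nat.card_congr (Subgroup.equivSMul (MulAut.conj g) _).toEquiv).symm.trans
      ((Nat.card_congr (Subgroup.subgroupOfEquivOfLe hPH).toEquiv).trans (h.sylow P))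
  refine ⟨Nat.card (Sylow p H), SmallOrder.card_sylow_mod p, ?_, ?_, ?_,
    SmallOrder.card_orderOf_eq_mul hall⟩
  · have e : Subgroup.normalizer (((P.subtype hPH : Sylow p H) : Subgroup H) : Set H) =
        (Subgroup.normalizer ((P : Subgroup G) : Set G)).subgroupOf H := by
      ext y
      rw [Subgroup.mem_subgroupOf, Subgroup.mem_normalizer_iff, Subgroup.mem_normalizer_iff]
      constructor
      · intro hy x
        constructor
        · intro hx
          exact (hy ⟨x, hPH hx⟩).1 hx
        · intro hx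
          have hxH : x ∈ H := by
            have := mul_mem (mul_mem (inv_mem y.2) (hPH hx)) y.2
            simpa [mul_assoc] using this
          exact (hy ⟨x, hxH⟩).2 hx
      · exact fun hy x => hy x
    have hc := SmallOrder.card_sylow_mul_card_normalizer (P.subtype hPH)
    rw [e, ← Subgroup.inf_subgroupOf_right, Nat.card_congr (Subgroup.subgroupOfEquivOfLe inf_le_right).toEquiv] at hc
    exact hc.symm
  · rw [← h.norm P]
    exact Subgroup.card_dvd_of_le inf_le_left
  · let F : {Q : Sylow p G // (Q : Subgroup G) ≤ H} → Sylow p H := fun Q => Q.1.subtype Q.2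
    refine Nat.card_eq_of_bijective F ⟨fun Q R e => ?_, fun Q => ?_⟩
    · have e' : (Q.1 : Subgroup G).subgroupOf H = (R.1 : Subgroup G).subgroupOf H := congrArg Sylow.toSubgroup e
      refine Subtype.ext (Sylow.ext ?_)
      rw [← Subgroup.map_subgroupOf_eq_of_le Q.2, e', Subgroup.map_subgroupOf_eq_of_le R.2]
    · have hc : Nat.card ((Q : Subgroup H).map H.subtype) = p := by
        rw [Subgroup.card_map_of_injective H.subtype_injective, hall Q]
      obtain ⟨T, hT⟩ := (IsPGroup.of_card (n := 1) (by rw [hc, pow_one]) :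
        IsPGroup p ((Q : Subgroup H).map H.subtype)).exists_le_sylow
      have hT' : (Q : Subgroup H).map H.subtype = (T : Subgroup G) :=
        Subgroup.eq_of_le_of_card_ge hT (by rw [hc, h.sylow])
      refine ⟨⟨T, hT' ▸ Subgroup.map_subtype_le _⟩, Sylow.ext ?_⟩
      show (T : Subgroup G).subgroupOf H = _
      rw [← hT']
      exact Subgroup.comap_map_eq_self_of_injective H.subtype_injective _

/-- The elements `x t` for an involution `t` central in `H`. -/
theorem card_orderOf_two_mul {p : ℕ} [hp : Fact p.Prime] (hp2 : p ≠ 2) {H : Subgroup G} (t : H) (ht : orderOf t = 2)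
    (hc : ∀ x : H, Commute x t) :
    Nat.card {x : H // orderOf x = p} ≤ Nat.card {x : H // orderOf x = 2 * p} := by
  refine Nat.card_le_card_of_injective (fun x => ⟨t * x.1, ?_⟩) fun x y e =>
    Subtype.ext (mul_left_cancel (congrArg Subtype.val e :))
  rw [(hc x.1).symm.orderOf_mul_eq_mul_orderOf_of_coprime (by
    rw [ht, x.2]; exact (Nat.coprime_primes Nat.prime_two hp.out).2 (Ne.symm hp2)), ht, x.2]

/-- Some Sylow subgroup lies in a subgroup of order divisible by `p`. -/
theorem Loc.exists_le {p n c e : ℕ} [Fact p.Prime] (h : Loc G p n c e) (H : Subgroup G) (hd : p ∣ Nat.card H) :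
    ∃ P : Sylow p G, (P : Subgroup G) ≤ H := by
  obtain ⟨y, hy⟩ := exists_prime_orderOf_dvd_card' (G := H) p hd
  have hyo : orderOf (y : G) = p := (Subgroup.orderOf_coe y).trans hy
  obtain ⟨P, hP⟩ := (IsPGroup.of_card (n := 1) (by rw [Nat.card_zpowers, hyo, pow_one]) :
    IsPGroup p (Subgroup.zpowers (y : G))).exists_le_sylow
  refine ⟨P, ?_⟩
  rw [← Subgroup.eq_of_le_of_card_ge hP (by rw [h.sylow, Nat.card_zpowers, hyo])]
  exact Subgroup.zpowers_le.2 y.2

theorem le_centralizer_singleton_iff {K : Subgroup G} {t : G} :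
    K ≤ Subgroup.centralizer ({t} : Set G) ↔ t ∈ Subgroup.centralizer (K : Set G) := by
  simp only [SetLike.le_def, Subgroup.mem_centralizer_singleton_iff, Subgroup.mem_centralizer_iff, SetLike.mem_coe]
  exact ⟨fun h y hy => (h hy t (Set.mem_singleton t)).symm, fun h y hy k hk => by rw [Set.mem_singleton_iff.1 hk]; exact (h y hy).symm⟩

theorem Loc.two_dvd {p n c e : ℕ} [Fact p.Prime] (h : Loc G p n c e) (hp2 : p ≠ 2) {t : G} (ht : orderOf t = 2)
    (hd : p ∣ Nat.card (Subgroup.centralizer ({t} : Set G))) : 2 ∣ c := by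
  obtain ⟨P, hP⟩ := h.exists_le _ hd
  have h1 := Subgroup.orderOf_dvd_natCard _ (le_centralizer_singleton_iff.1 hP)
  rw [ht, h.cent P] at h1
  exact ((Nat.Prime.dvd_mul Nat.prime_two).1 h1).resolve_left fun hd' =>
    hp2 ((Nat.prime_dvd_prime_iff_eq Nat.prime_two Fact.out).1 hd').symm

theorem Loc.exists_invol {p n c e : ℕ} [Fact p.Prime] (h : Loc G p n c e) (hc : 2 ∣ c) (P : Sylow p G) :
    ∃ t : G, orderOf t = 2 ∧ t ∈ Subgroup.centralizer ((P : Subgroup G) : Set G) ∧
      (P : Subgroup G) ≤ Subgroup.centralizer ({t} : Set G) := by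
  haveI : Fact (Nat.Prime 2) := ⟨Nat.prime_two⟩
  obtain ⟨t, ht⟩ := exists_prime_orderOf_dvd_card'
    (G := Subgroup.centralizer ((P : Subgroup G) : Set G)) 2 (by rw [h.cent P]; exact hc.mul_left p)
  exact ⟨t, (Subgroup.orderOf_coe t).trans ht, t.2, le_centralizer_singleton_iff.2 t.2⟩

theorem dvd_normalizer_inf {p n c e : ℕ} [hp : Fact p.Prime] (h : Loc G p n c e) (hp2 : p ≠ 2) (P : Sylow p G)
    {t : G} (ht : orderOf t = 2) (hP : (P : Subgroup G) ≤ Subgroup.centralizer ({t} : Set G)) :
    2 * p ∣ Nat.card ↥(Subgroup.normalizer ((P : Subgroup G) : Set G) ⊓ Subgroup.centralizer ({t} : Set G)) := by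
  refine Nat.Coprime.mul_dvd_of_dvd_of_dvd ((Nat.coprime_primes Nat.prime_two hp.out).2 (Ne.symm hp2)) ?_ ?_
  · rw [← ht]
    refine Subgroup.orderOf_dvd_natCard _ ⟨?_, Subgroup.mem_centralizer_singleton_iff.2 rfl⟩
    exact Subgroup.centralizer_le_normalizer _ (le_centralizer_singleton_iff.1 hP)
  · have := Subgroup.card_dvd_of_le (le_inf Subgroup.le_normalizer hP)
    rwa [h.sylow P] at this

/-- The involutions centralising `P`, when the centraliser has Sylow 2-subgroups of order two. -/
theorem Loc.invol_count {p n c e : ℕ} [hp : Fact p.Prime] (h : Loc G p n c e) (hp2 : p ≠ 2) {b : ℕ}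
    (hc : c = 2 * b) (hb : Odd b) (P : Sylow p G) {t : G} (ht : orderOf t = 2)
    (hP : (P : Subgroup G) ≤ Subgroup.centralizer ({t} : Set G)) :
    ∃ a : ℕ, a ∣ b ∧ n * a = Nat.card {x : G // IsConj t x} *
        Nat.card {Q : Sylow p G // (Q : Subgroup G) ≤ Subgroup.centralizer ({t} : Set G)} ∧
      n * (p - 1) * a ≤ Nat.card {g : G // orderOf g = 2 * p} := by
  haveI : Fact (Nat.Prime 2) := ⟨Nat.prime_two⟩
  have hpodd : Odd p := hp.out.odd_of_ne_two hp2
  have hCcard : ∀ Q : Sylow p G, Nat.card (Subgroup.centralizer ((Q : Subgroup G) : Set G)) = 2 ^ 1 * (p * b) :=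
    fun Q => by rw [h.cent Q, hc]; ring
  have hodd : ¬ 2 ∣ p * b := fun hd => (Nat.not_even_iff_odd.2 (hpodd.mul hb)) (even_iff_two_dvd.2 hd)
  have hconjC : ∀ (Q : Sylow p G) (u v : G), orderOf u = 2 → orderOf v = 2 →
      u ∈ Subgroup.centralizer ((Q : Subgroup G) : Set G) → v ∈ Subgroup.centralizer ((Q : Subgroup G) : Set G) →
      ∃ k ∈ Subgroup.centralizer ((Q : Subgroup G) : Set G), k * u * k⁻¹ = v := by
    intro Q u v hu hv huC hvC
    set C := Subgroup.centralizer ((Q : Subgroup G) : Set G)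
    have hS : ∀ (w : G) (hw : w ∈ C), orderOf w = 2 → ∃ S : Sylow 2 C, (S : Subgroup C) = Subgroup.zpowers ⟨w, hw⟩ := by
      intro w hw hwo
      have hwo' : orderOf (⟨w, hw⟩ : C) = 2 := (Subgroup.orderOf_mk w hw).trans hwo
      obtain ⟨S, hS⟩ := (IsPGroup.of_card (n := 1) (by rw [Nat.card_zpowers, hwo', pow_one]) :
        IsPGroup 2 (Subgroup.zpowers (⟨w, hw⟩ : C))).exists_le_sylow
      refine ⟨S, (Subgroup.eq_of_le_of_card_ge hS ?_).symm⟩
      rw [SmallOrder.card_sylow_eq_pow (hCcard Q) hodd S, Nat.card_zpowers, hwo']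
      norm_num
    obtain ⟨S, hSu⟩ := hS u huC hu
    obtain ⟨T, hTv⟩ := hS v hvC hv
    obtain ⟨k, hk⟩ := MulAction.exists_smul_eq C S T
    have hm : k * ⟨u, huC⟩ * k⁻¹ ∈ Subgroup.zpowers (⟨v, hvC⟩ : C) := by
      rw [← hTv, ← hk, Sylow.coe_subgroup_smul]
      exact Subgroup.smul_mem_pointwise_smul _ _ _ (hSu ▸ Subgroup.mem_zpowers (⟨u, huC⟩ : C))
    obtain ⟨j, hj⟩ := Subgroup.mem_zpowers_iff.1 hm
    refine ⟨k, k.2, ?_⟩
    have hj' : v ^ j = (k : G) * u * (k : G)⁻¹ := by simpa using congrArg Subtype.val hj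
    have hvv : v ^ (2 : ℤ) = 1 := by
      rw [show (2 : ℤ) = ((2 : ℕ) : ℤ) from rfl, zpow_natCast, ← hv, pow_orderOf_eq_one]
    rcases Int.even_or_odd' j with ⟨i, rfl | rfl⟩
    · exfalso
      rw [zpow_mul, hvv, one_zpow] at hj'
      have h1 := conj_eq_one_iff.1 hj'.symm
      rw [h1, orderOf_one] at hu
      omega
    · rw [← hj', zpow_add, zpow_mul, hvv, one_zpow, one_mul, zpow_one]
  let inv (Q : Sylow p G) := {x : G // orderOf x = 2 ∧ x ∈ Subgroup.centralizer ((Q : Subgroup G) : Set G)}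
  have hmap : ∀ (g : G) (Q : Sylow p G) (x : G), x ∈ Subgroup.centralizer ((Q : Subgroup G) : Set G) →
      g * x * g⁻¹ ∈ Subgroup.centralizer (((g • Q : Sylow p G) : Subgroup G) : Set G) := by
    intro g Q x hx
    rw [Subgroup.mem_centralizer_iff]
    rintro _ ⟨y, hy, rfl⟩
    show MulAut.conj g y * MulAut.conj g x = MulAut.conj g x * MulAut.conj g y
    rw [← map_mul, ← map_mul, Subgroup.mem_centralizer_iff.1 hx y hy]
  have hcardEq : ∀ Q : Sylow p G, Nat.card (inv Q) = Nat.card (inv P) := by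
    intro Q
    obtain ⟨g, rfl⟩ := MulAction.exists_smul_eq G P Q
    refine (Nat.card_congr (Equiv.subtypeEquiv (MulAut.conj g).toEquiv fun x => ?_)).symm
    show _ ↔ orderOf (MulAut.conj g x) = 2 ∧ g * x * g⁻¹ ∈ _
    rw [MulEquiv.orderOf_eq]
    refine and_congr_right fun _ => ⟨hmap g P x, fun hx => ?_⟩
    have := hmap g⁻¹ (g • P) _ hx
    simpa [inv_smul_smul, mul_assoc] using this
  have htP : t ∈ Subgroup.centralizer ((P : Subgroup G) : Set G) := le_centralizer_singleton_iff.1 hP
  refine ⟨Nat.card (inv P), ?_, ?_, ?_⟩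
  · -- the involutions form one class of the centraliser
    set C := Subgroup.centralizer ((P : Subgroup G) : Set G)
    have e : {x : C // IsConj (⟨t, htP⟩ : C) x} ≃ inv P :=
      { toFun := fun x => ⟨x.1, by
          obtain ⟨k, hk⟩ := isConj_iff.1 x.2
          rw [← hk]
          show orderOf (MulAut.conj (k : G) t) = 2
          rw [MulEquiv.orderOf_eq, ht], x.1.2⟩
        invFun := fun x => ⟨⟨x.1, x.2.2⟩, by
          obtain ⟨k, hkC, hk⟩ := hconjC P t x.1 ht x.2.1 htP x.2.2
          exact isConj_iff.2 ⟨⟨k, hkC⟩, Subtype.ext hk⟩⟩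
        left_inv := fun x => rfl
        right_inv := fun x => rfl }
    have hmul := Invol.card_isConj_mul_card_centralizer (⟨t, htP⟩ : C)
    rw [Nat.card_congr e, hCcard P] at hmul
    have hd : 2 * p ∣ Nat.card (Subgroup.centralizer ({(⟨t, htP⟩ : C)} : Set C)) := by
      refine Nat.Coprime.mul_dvd_of_dvd_of_dvd ((Nat.coprime_primes Nat.prime_two hp.out).2 (Ne.symm hp2)) ?_ ?_
      · rw [← ht, ← Subgroup.orderOf_mk t htP]
        exact Subgroup.orderOf_dvd_natCard _ (Subgroup.mem_centralizer_singleton_iff.2 rfl)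
      · obtain ⟨x, hx⟩ := exists_prime_orderOf_dvd_card' (G := (P : Subgroup G)) p (h.sylow P).symm.dvd
        have hxo : orderOf (x : G) = p := (Subgroup.orderOf_coe x).trans hx
        haveI : IsCyclic (P : Subgroup G) := isCyclic_of_prime_card (h.sylow P)
        have hxC : (x : G) ∈ C := Subgroup.mem_centralizer_iff.2 fun y hy => by
          have : (⟨y, hy⟩ : (P : Subgroup G)) * x = x * ⟨y, hy⟩ := by
            letI := IsCyclic.commGroup (α := (P : Subgroup G))
            exact mul_comm _ _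
          exact congrArg Subtype.val this
        rw [← hxo, ← Subgroup.orderOf_mk (x : G) hxC]
        exact Subgroup.orderOf_dvd_natCard _ (Subgroup.mem_centralizer_singleton_iff.2
          (Subtype.ext (Subgroup.mem_centralizer_iff.1 htP x x.2)))
    obtain ⟨q, hq⟩ := hd
    refine ⟨q, Nat.eq_of_mul_eq_mul_left (show 0 < 2 * p from Nat.mul_pos (by norm_num) hp.out.pos) ?_⟩
    rw [hq] at hmul
    linarith
  · -- counting pairs
    have hclass : ∀ (Q : Sylow p G) (x : G), orderOf x = 2 → x ∈ Subgroup.centralizer ((Q : Subgroup G) : Set G) →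
        IsConj t x := by
      intro Q x hx hxC
      obtain ⟨g, rfl⟩ := MulAction.exists_smul_eq G P Q
      obtain ⟨k, -, hk⟩ := hconjC (g • P) (g * t * g⁻¹) x
        (by show orderOf (MulAut.conj g t) = 2; rw [MulEquiv.orderOf_eq, ht]) hx (hmap g P t htP) hxC
      exact (isConj_iff.2 ⟨g, rfl⟩ : IsConj t (g * t * g⁻¹)).trans (isConj_iff.2 ⟨k, hk⟩)
    let E : (Σ Q : Sylow p G, inv Q) ≃
        Σ x : {x : G // IsConj t x}, {Q : Sylow p G // (Q : Subgroup G) ≤ Subgroup.centralizer ({x.1} : Set G)} :=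
      { toFun := fun a => ⟨⟨a.2.1, hclass _ _ a.2.2.1 a.2.2.2⟩, a.1, le_centralizer_singleton_iff.2 a.2.2.2⟩
        invFun := fun a => ⟨a.2.1, a.1.1, by
          obtain ⟨g, hg⟩ := isConj_iff.1 a.1.2
          rw [← hg]
          show orderOf (MulAut.conj g t) = 2
          rw [MulEquiv.orderOf_eq, ht], le_centralizer_singleton_iff.1 a.2.2⟩
        left_inv := fun a => rfl
        right_inv := fun a => rfl }
    have hconst : ∀ x : {x : G // IsConj t x},
        Nat.card {Q : Sylow p G // (Q : Subgroup G) ≤ Subgroup.centralizer ({x.1} : Set G)} =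
        Nat.card {Q : Sylow p G // (Q : Subgroup G) ≤ Subgroup.centralizer ({t} : Set G)} := by
      rintro ⟨x, hx⟩
      obtain ⟨g, rfl⟩ := isConj_iff.1 hx
      refine (Nat.card_congr ((MulAction.toPerm g : Equiv.Perm (Sylow p G)).subtypeEquiv fun Q => ?_)).symm
      rw [le_centralizer_singleton_iff, le_centralizer_singleton_iff, MulAction.toPerm_apply]
      refine ⟨hmap g Q t, fun hx' => ?_⟩
      have := hmap g⁻¹ (g • Q) _ hx'
      simpa [inv_smul_smul, mul_assoc] using this
    haveI := Fintype.ofFinite (Sylow p G)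
    haveI := Fintype.ofFinite {x : G // IsConj t x}
    have hE := Nat.card_congr E
    rw [Nat.card_sigma, Nat.card_sigma, Finset.sum_congr rfl fun Q _ => hcardEq Q,
      Finset.sum_congr rfl fun x _ => hconst x, Finset.sum_const, Finset.sum_const, Finset.card_univ,
      Finset.card_univ, smul_eq_mul, smul_eq_mul, ← Nat.card_eq_fintype_card, ← Nat.card_eq_fintype_card,
      h.count] at hE
    exact hE
  · -- the elements of order twice the prime
    haveI := Fintype.ofFinite (Sylow p G)
    let F : (Σ Q : Sylow p G, {x : (Q : Subgroup G) // x ≠ 1} × inv Q) → {g : G // orderOf g = 2 * p} := fun a =>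
      ⟨a.2.2.1 * (a.2.1.1 : G), by
        have hc' : Commute (a.2.2.1 : G) (a.2.1.1 : G) :=
          ((Subgroup.mem_centralizer_iff.1 a.2.2.2.2 _ a.2.1.1.2 : (a.2.1.1 : G) * a.2.2.1 = _)).symm
        have ho : orderOf (a.2.1.1 : G) = p := by
          rw [Subgroup.orderOf_coe]
          exact ((Nat.dvd_prime hp.out).1 ((orderOf_dvd_natCard _).trans (h.sylow a.1).dvd)).resolve_left
            fun h1 => a.2.1.2 (orderOf_eq_one_iff.1 h1)
        rw [hc'.orderOf_mul_eq_mul_orderOf_of_coprime (by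
          rw [ho, a.2.2.2.1]; exact (Nat.coprime_primes Nat.prime_two hp.out).2 (Ne.symm hp2)), ho, a.2.2.2.1]⟩
    have hF : Function.Injective F := by
      rintro ⟨Q, ⟨x, hx⟩, ⟨v, hv, hvC⟩⟩ ⟨Q', ⟨x', hx'⟩, ⟨v', hv', hvC'⟩⟩ he
      have he' : v * (x : G) = v' * (x' : G) := congrArg Subtype.val he
      have key : ∀ (Q : Sylow p G) (x : (Q : Subgroup G)) (v : G), orderOf v = 2 →
          v ∈ Subgroup.centralizer ((Q : Subgroup G) : Set G) → (v * (x : G)) ^ (p + 1) = x := by
        intro Q x v hv hvC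
        have h1 : (x : G) ^ p = 1 := by
          have := pow_card_eq_one' (x := x)
          rw [h.sylow Q] at this
          exact congrArg Subtype.val this
        obtain ⟨k, hk⟩ := hpodd
        have h2 : v ^ (p + 1) = 1 := by
          rw [show p + 1 = 2 * (k + 1) by omega, pow_mul, ← hv, pow_orderOf_eq_one, one_pow]
        rw [(show Commute v (x : G) from (Subgroup.mem_centralizer_iff.1 hvC _ x.2).symm).mul_pow, h2, one_mul,
          pow_succ, h1, one_mul]
      have hxx : (x : G) = x' := by rw [← key Q x v hv hvC, he', key Q' x' v' hv' hvC']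
      have hgen : ∀ (Q : Sylow p G) (x : (Q : Subgroup G)), x ≠ 1 → Subgroup.zpowers (x : G) = (Q : Subgroup G) :=
        fun Q x hx => Subgroup.eq_of_le_of_card_ge (Subgroup.zpowers_le.2 x.2) (by
          rw [h.sylow, Nat.card_zpowers, Subgroup.orderOf_coe,
            ((Nat.dvd_prime hp.out).1 ((orderOf_dvd_natCard _).trans (h.sylow Q).dvd)).resolve_left
              fun h1 => hx (orderOf_eq_one_iff.1 h1)])
      obtain rfl : Q = Q' := Sylow.ext (by rw [← hgen Q x hx, hxx, hgen Q' x' hx'])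
      obtain rfl : x = x' := Subtype.ext hxx
      obtain rfl : v = v' := mul_right_cancel he'
      rfl
    refine le_trans (le_of_eq ?_) (Nat.card_le_card_of_injective F hF)
    rw [Nat.card_sigma, Finset.sum_congr rfl (g := fun _ => (p - 1) * Nat.card (inv P)) fun Q _ => ?_,
      Finset.sum_const, Finset.card_univ, smul_eq_mul, ← Nat.card_eq_fintype_card, h.count, mul_assoc]
    classical
    haveI := Fintype.ofFinite (Q : Subgroup G)
    rw [Nat.card_prod, hcardEq, Nat.card_eq_fintype_card, Fintype.card_subtype_compl,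
      Fintype.card_subtype_eq, ← Nat.card_eq_fintype_card, h.sylow]

end Cfsg.Agent.Order175560
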