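import Cfsg.Agent.JOneRecog.Local

/-!
In order 175560: an element of order three centralising the element of order five and inverted by `t`.
-/

set_option autoImplicit false
set_option maxRecDepth 100000
set_option synthInstance.maxSize 10000
set_option synthInstance.maxHeartbeats 1000000
set_option linter.all false

namespace Cfsg.Agent.JOneRecog

theorem eq_one_of_pow_coprime {G : Type*} [Group G] {z : G} {m n : ℕ} (h : Nat.Coprime m n) (hm : z ^ m = 1)
    (hn : z ^ n = 1) : z = 1 := by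
  refine orderOf_eq_one_iff.1 (Nat.dvd_one.1 ?_)
  exact (Nat.dvd_gcd (orderOf_dvd_of_pow_eq_one hm) (orderOf_dvd_of_pow_eq_one hn)).trans (dvd_of_eq h)

namespace JD

variable {G : Type*} [Group G] [Finite G] [IsSimpleGroup G] (D : JD G) {x s : G} {p : ℕ}

theorem LData.part {L : LData D.t x s p} {u : G} (hu : u * u = 1) (hu1 : u ≠ 1) (hus : u = s ∨ u = D.t * s) :
    Nat.card ↥(L.K ⊓ Subgroup.centralizer ({u} : Set G)) = 1 ∨
      Nat.card ↥(L.K ⊓ Subgroup.centralizer ({u} : Set G)) = 3 ∨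
      Nat.card ↥(L.K ⊓ Subgroup.centralizer ({u} : Set G)) = 5 := by
  have hinv : ∀ a ∈ L.K ⊓ Subgroup.centralizer ({u} : Set G), D.t * a * D.t = a⁻¹ := fun a ha =>
    L.invd u hus a ha.1 (Subgroup.mem_centralizer_singleton_iff.1 ha.2)
  refine D.small hu hu1 (fun y hy => Subgroup.mem_centralizer_singleton_iff.1 hy.2) ?_ fun a ha b hb => ?_
  · exact L.odd.of_dvd_nat (Subgroup.card_dvd_of_le inf_le_left)
  · have h1 := hinv _ (mul_mem ha hb)
    have h2 : D.t * (a * b) * D.t = a⁻¹ * b⁻¹ := by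
      rw [← hinv a ha, ← hinv b hb]
      calc D.t * (a * b) * D.t = D.t * a * (D.t * D.t) * b * D.t := by rw [D.tt]; group
        _ = D.t * a * D.t * (D.t * b * D.t) := by group
    rw [h2] at h1
    have := congrArg (·⁻¹) h1
    simp only [mul_inv_rev, inv_inv] at this
    exact this.symm

/-- An element of a centraliser part of prime order. -/
theorem LData.exists_elem {L : LData D.t x s p} {u : G} (hus : u = s ∨ u = D.t * s) {q : ℕ} [Fact q.Prime]
    (h : q ∣ Nat.card ↥(L.K ⊓ Subgroup.centralizer ({u} : Set G))) :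
    ∃ z, orderOf z = q ∧ z * x = x * z ∧ z * u = u * z ∧ D.t * z * D.t = z⁻¹ := by
  obtain ⟨z, hz⟩ := exists_prime_orderOf_dvd_card' (G := ↥(L.K ⊓ Subgroup.centralizer ({u} : Set G))) q h
  exact ⟨z, (Subgroup.orderOf_coe z).trans hz, L.mem _ z.2.1, Subgroup.mem_centralizer_singleton_iff.1 z.2.2,
    L.invd u hus _ z.2.1 (Subgroup.mem_centralizer_singleton_iff.1 z.2.2)⟩

theorem invol_emb {b : A5} (hb : b * b = 1) (hb1 : b ≠ 1) :
    D.emb (1, b) * D.emb (1, b) = 1 ∧ D.emb (1, b) ≠ 1 ∧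
      D.t * D.emb (1, b) * (D.t * D.emb (1, b)) = 1 ∧ D.t * D.emb (1, b) ≠ 1 := by
  have h1 : ((1, b) : M0) * (1, b) = 1 := Prod.ext (one_mul _) hb
  refine ⟨by rw [← map_mul, h1, map_one], fun e => ?_, ?_, fun e => ?_⟩
  · exact hb1 (congrArg Prod.snd (D.emb_injective (e.trans D.emb.map_one.symm)))
  · rw [← D.emb_zM, ← map_mul, ← map_mul, show zM * (1, b) * (zM * (1, b)) = 1 from ?_, map_one]
    exact Prod.ext (show Multiplicative.ofAdd (1 : ZMod 2) * 1 * (Multiplicative.ofAdd 1 * 1) = 1 by decide)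
      (by simpa [zM] using hb)
  · rw [← D.emb_zM, ← map_mul, ← map_one D.emb] at e
    have := congrArg Prod.fst (D.emb_injective e)
    replace this : Multiplicative.ofAdd (1 : ZMod 2) * 1 = 1 := this
    revert this
    decide

theorem br_ne : br ≠ 1 ∧ bh ≠ 1 := by decide +kernel

theorem R_data : D.R ^ 3 = 1 ∧ orderOf D.R = 3 ∧ D.emb (1, br) * D.R * D.emb (1, br) = D.R⁻¹ := by
  obtain ⟨⟨-, e2⟩, -, e5, -, e7, -⟩ := inv_eqs
  have h3 : D.R ^ 3 = 1 := by rw [R, ← map_pow, show ((1, rA) : M0) ^ 3 = 1 from Prod.ext (one_pow 3) e5, map_one]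
  refine ⟨h3, orderOf_eq_prime (hp := ⟨by norm_num⟩) h3 fun e => ?_, ?_⟩
  · exact e7 (congrArg Prod.snd (D.emb_injective (e.trans D.emb.map_one.symm)))
  · rw [R, ← map_mul, ← map_mul, ← map_inv]
    exact congrArg D.emb (Prod.ext (by simp) (by simpa using e2))

theorem F_data : D.F ^ 5 = 1 ∧ orderOf D.F = 5 ∧ D.emb (1, bh) * D.F * D.emb (1, bh) = D.F⁻¹ := by
  obtain ⟨-, ⟨-, e4⟩, -, e6, -, e8⟩ := inv_eqs
  have h5 : D.F ^ 5 = 1 := by rw [F, ← map_pow, show ((1, hA) : M0) ^ 5 = 1 from Prod.ext (one_pow 5) e6, map_one]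
  refine ⟨h5, orderOf_eq_prime (hp := ⟨by norm_num⟩) h5 fun e => ?_, ?_⟩
  · exact e8 (congrArg Prod.snd (D.emb_injective (e.trans D.emb.map_one.symm)))
  · rw [F, ← map_mul, ← map_mul, ← map_inv]
    exact congrArg D.emb (Prod.ext (by simp) (by simpa using e4))

/-- The centraliser orders in terms of the parts. -/
theorem n3_eq (L : LData D.t D.R (D.emb (1, br)) 3) : D.n3 =
    6 * (Nat.card ↥(L.K ⊓ Subgroup.centralizer ({D.emb (1, br)} : Set G)) *
      Nat.card ↥(L.K ⊓ Subgroup.centralizer ({D.t * D.emb (1, br)} : Set G))) := by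
  rw [n3, L.card2, L.card]; ring

theorem n5_eq (L : LData D.t D.F (D.emb (1, bh)) 5) : D.n5 =
    10 * (Nat.card ↥(L.K ⊓ Subgroup.centralizer ({D.emb (1, bh)} : Set G)) *
      Nat.card ↥(L.K ⊓ Subgroup.centralizer ({D.t * D.emb (1, bh)} : Set G))) := by
  rw [n5, L.card2, L.card]; ring

/-- The element of order three beside the element of order five. -/
theorem exists_witness (hG : Nat.card G = 175560) :
    ∃ s, (s = D.emb (1, bh) ∨ s = D.t * D.emb (1, bh)) ∧
      ∃ w : G, w ^ 3 = 1 ∧ w ≠ 1 ∧ w * D.F = D.F * w ∧ w * s = s * w ∧ D.t * w * D.t = w⁻¹ := by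
  classical
  haveI : Fact (Nat.Prime 3) := ⟨by norm_num⟩
  haveI : Fact (Nat.Prime 5) := ⟨by norm_num⟩
  obtain ⟨LR⟩ := D.exists_LData (a := rA) (b := br) (p := 3) (Or.inl ⟨rfl, rfl, rfl⟩)
  obtain ⟨LF⟩ := D.exists_LData (a := hA) (b := bh) (p := 5) (Or.inr ⟨rfl, rfl, rfl⟩)
  obtain ⟨r1, r2, r3, r4⟩ := D.invol_emb inv_eqs.1.1 br_ne.1
  obtain ⟨f1, f2, f3, f4⟩ := D.invol_emb inv_eqs.2.1.1 br_ne.2
  have a1 := LData.part D (L := LR) r1 r2 (Or.inl rfl)
  have a2 := LData.part D (L := LR) r3 r4 (Or.inr rfl)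
  have b1 := LData.part D (L := LF) f1 f2 (Or.inl rfl)
  have b2 := LData.part D (L := LF) f3 f4 (Or.inr rfl)
  have h3 := D.n3_eq LR
  have h5 := D.n5_eq LF
  have hd3 : D.n3 ∣ 175560 := hG ▸ Subgroup.card_subgroup_dvd_card _
  set m1 := Nat.card ↥(LR.K ⊓ Subgroup.centralizer ({D.emb (1, br)} : Set G)) with hm1
  set m2 := Nat.card ↥(LR.K ⊓ Subgroup.centralizer ({D.t * D.emb (1, br)} : Set G)) with hm2
  have hm : m1 * m2 = 1 ∨ m1 = 5 ∨ m2 = 5 := by
    have key : ∀ a b : ℕ, (a = 1 ∨ a = 3 ∨ a = 5) → (b = 1 ∨ b = 3 ∨ b = 5) → 6 * (a * b) ∣ 175560 →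
        a * b = 1 ∨ a = 5 ∨ b = 5 := by
      rintro a b (rfl | rfl | rfl) (rfl | rfl | rfl) h <;>
        first | (left; rfl) | (right; left; rfl) | (right; right; rfl) | (norm_num at h)
    exact key _ _ a1 a2 (h3 ▸ hd3)
  have hm5 : m1 = 5 ∨ m2 = 5 := hm.resolve_left fun e => by
    rw [e, mul_one] at h3
    -- the normaliser of the Sylow 3-subgroup
    obtain ⟨hR3, hRo, hsR⟩ := D.R_data
    obtain ⟨P, hP⟩ := (IsPGroup.of_card (n := 1) (by rw [Nat.card_zpowers, hRo, pow_one]) :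
      IsPGroup 3 (Subgroup.zpowers D.R)).exists_le_sylow
    have hPeq : Subgroup.zpowers D.R = (P : Subgroup G) := by
      refine Subgroup.eq_of_le_of_card_ge hP ?_
      rw [P.card_eq_multiplicity, Nat.card_zpowers, hRo, hG, show (175560 : ℕ) = 3 ^ 1 * 58520 from rfl,
        Nat.factorization_mul (by norm_num) (by norm_num)]
      simp [Nat.Prime.factorization (by norm_num : Nat.Prime 3),
        Nat.factorization_eq_zero_of_not_dvd (by norm_num : ¬ 3 ∣ 58520)]
    set N := Subgroup.normalizer ((P : Subgroup G) : Set G) with hN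
    set C := Subgroup.centralizer ({D.R} : Set G) with hC
    have hmem : ∀ c : G, c ∈ N → c * D.R * c⁻¹ = D.R ∨ c * D.R * c⁻¹ = D.R⁻¹ := by
      intro c hc
      have h1 : c * D.R * c⁻¹ ∈ Subgroup.zpowers D.R := by
        rw [hPeq]
        exact (Subgroup.mem_normalizer_iff.1 hc _).1 (hPeq ▸ Subgroup.mem_zpowers _)
      obtain ⟨j, hj, he⟩ := Finset.mem_image.1 (mem_zpowers_iff_mem_range_orderOf.1 h1)
      rw [hRo, Finset.mem_range] at hj
      interval_cases j
      · exfalso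
        rw [pow_zero] at he
        have := conj_eq_one_iff.1 he.symm
        rw [this, orderOf_one] at hRo
        omega
      · exact Or.inl (by rw [← he, pow_one])
      · refine Or.inr (he.symm.trans (eq_inv_of_mul_eq_one_left ?_))
        rw [← pow_succ, hR3]
    have hmemN : ∀ c : G, (c * D.R * c⁻¹ = D.R ∨ c * D.R * c⁻¹ = D.R⁻¹) → c ∈ N := by
      intro c hc
      have hmap : (P : Subgroup G).map (MulAut.conj c).toMonoidHom = (P : Subgroup G) := by
        rw [← hPeq, MonoidHom.map_zpowers]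
        show Subgroup.zpowers (c * D.R * c⁻¹) = _
        rcases hc with e | e <;> rw [e]
        exact Subgroup.zpowers_inv
      rw [hN, Subgroup.mem_normalizer_iff]
      intro y
      constructor
      · intro hy
        rw [← hmap]
        exact ⟨y, hy, rfl⟩
      · intro hy
        rw [← hmap] at hy
        obtain ⟨z, hz, ez⟩ := hy
        rwa [← (MulAut.conj c).injective ez]
    have hsN : D.emb (1, br) ∈ N := hmemN _ (Or.inr (by rw [inv_eq_of_mul_eq_one_right r1, hsR]))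
    have hCN : C ≤ N := fun c hc => hmemN c (Or.inl (by
      rw [Subgroup.mem_centralizer_singleton_iff.1 hc, mul_inv_cancel_right]))
    have hi : (C.subgroupOf N).index = 2 := by
      rw [Subgroup.index_eq_two_iff]
      refine ⟨⟨_, hsN⟩, fun b => ?_⟩
      have hR1 : D.R⁻¹ ≠ D.R := fun e => by
        have h2 : D.R ^ 2 = 1 := by rw [pow_two]; nth_rewrite 1 [← e]; rw [inv_mul_cancel]
        have := eq_one_of_pow_coprime (by decide) h2 hR3
        rw [this, orderOf_one] at hRo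
        omega
      have k1 : ∀ y : N, y ∈ C.subgroupOf N ↔ (y : G) * D.R * (y : G)⁻¹ = D.R := fun y => by
        rw [Subgroup.mem_subgroupOf, Subgroup.mem_centralizer_singleton_iff, mul_inv_eq_iff_eq_mul]
      rw [k1, k1, Subgroup.coe_mul]
      have k2 : (b : G) * D.emb (1, br) * D.R * ((b : G) * D.emb (1, br))⁻¹ = ((b : G) * D.R * (b : G)⁻¹)⁻¹ := by
        rw [mul_inv_rev, inv_eq_of_mul_eq_one_right r1, mul_inv_rev, mul_inv_rev, inv_inv, ← mul_assoc (b : G) D.R⁻¹,
          ← hsR]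
        group
      show Xor ((b : G) * D.emb (1, br) * D.R * ((b : G) * D.emb (1, br))⁻¹ = D.R) ((b : G) * D.R * (b : G)⁻¹ = D.R)
      rw [k2]
      rcases hmem b b.2 with e' | e'
      · rw [e']; exact Or.inr ⟨rfl, hR1⟩
      · rw [e', inv_inv]; exact Or.inl ⟨rfl, hR1⟩
    have hcN : Nat.card N = 12 := by
      rw [← (C.subgroupOf N).card_mul_index, hi, Nat.card_congr (Subgroup.subgroupOfEquivOfLe hCN).toEquiv]
      show D.n3 * 2 = 12
      omega
    have hn := card_sylow_modEq_one 3 G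
    rw [P.card_eq_index_normalizer] at hn
    change N.index ≡ 1 [MOD 3] at hn
    have := N.card_mul_index
    rw [hcN, hG] at this
    rw [show N.index = 14630 by omega] at hn
    exact absurd hn (by decide)
  obtain ⟨u, hus, hu, hu1, hcard⟩ : ∃ u, (u = D.emb (1, br) ∨ u = D.t * D.emb (1, br)) ∧ u * u = 1 ∧ u ≠ 1 ∧
      5 ∣ Nat.card ↥(LR.K ⊓ Subgroup.centralizer ({u} : Set G)) := by
    rcases hm5 with e | e
    · exact ⟨_, Or.inl rfl, r1, r2, e.symm.dvd⟩
    · exact ⟨_, Or.inr rfl, r3, r4, e.symm.dvd⟩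
  obtain ⟨z, hzo, hzx, hzu, -⟩ := LData.exists_elem D hus hcard
  have hz5 : z ^ 5 = 1 := by rw [← hzo, pow_orderOf_eq_one]
  have hz1 : z ≠ 1 := fun e => by rw [e, orderOf_one] at hzo; omega
  have h15 : z ^ 15 = 1 := by rw [show 15 = 5 * 3 from rfl, pow_mul, hz5, one_pow]
  rcases D.odd_cent hu hu1 hzu h15 hz1 with ⟨hz3, -⟩ | ⟨-, ⟨g, hg⟩, -⟩
  · exact absurd (eq_one_of_pow_coprime (by decide) hz5 hz3) hz1
  have hcomm : (g * D.R * g⁻¹) * D.F = D.F * (g * D.R * g⁻¹) := by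
    have h1 : Commute (g * D.R * g⁻¹) (g * z * g⁻¹) := by
      have := (show Commute D.R z from hzx.symm).map (MulAut.conj g).toMonoidHom
      simpa using this
    rcases hg with e | e
    · exact (e ▸ h1).eq
    · rw [e] at h1
      have hF : D.emb (1, hA ^ 2) = D.F ^ 2 := by
        rw [F, ← map_pow]; exact congrArg D.emb (Prod.ext (one_pow 2).symm rfl)
      have h6 : (D.F ^ 2) ^ 3 = D.F := by
        rw [← pow_mul, show 2 * 3 = 5 + 1 from rfl, pow_add, D.F_data.1, one_mul, pow_one]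
      rw [hF] at h1
      exact (h6 ▸ h1.pow_right 3).eq
  have h3dvd : 3 ∣ D.n5 := by
    have h1 := Subgroup.orderOf_dvd_natCard (Subgroup.centralizer ({D.F} : Set G))
      (Subgroup.mem_centralizer_singleton_iff.2 hcomm)
    rwa [show g * D.R * g⁻¹ = MulAut.conj g D.R from rfl, MulEquiv.orderOf_eq, D.R_data.2.1] at h1
  obtain ⟨v, hvs, hc3⟩ : ∃ v, (v = D.emb (1, bh) ∨ v = D.t * D.emb (1, bh)) ∧
      3 ∣ Nat.card ↥(LF.K ⊓ Subgroup.centralizer ({v} : Set G)) := by
    rw [h5] at h3dvd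
    have h' := (Nat.Prime.dvd_mul (by norm_num : Nat.Prime 3)).1
      ((Nat.Coprime.dvd_of_dvd_mul_left (by norm_num : Nat.Coprime 3 10)) h3dvd)
    rcases h' with e | e
    · exact ⟨_, Or.inl rfl, e⟩
    · exact ⟨_, Or.inr rfl, e⟩
  obtain ⟨w, hwo, hwx, hwv, hwt⟩ := LData.exists_elem D hvs hc3
  exact ⟨v, hvs, w, by rw [← hwo, pow_orderOf_eq_one], fun e => by rw [e, orderOf_one] at hwo; omega, hwx, hwv, hwt⟩

end JD

end Cfsg.Agent.JOneRecog
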